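import Cfsg.Prelude.Def_CaseTheorems
import Mathlib.GroupTheory.Index
import Mathlib.GroupTheory.QuotientGroup.Basic
import Mathlib.GroupTheory.GroupAction.ConjAct

set_option autoImplicit false
open Cfsg

namespace Cfsg.Agent.Lib.Helper30

universe u

variable {G : Type*} [Group G]

theorem card_mul_relIndex_eq {K L : Subgroup G} (h : K ≤ L) :
    Nat.card K * K.relIndex L = Nat.card L := by
  have := Subgroup.relIndex_mul_relIndex (⊥ : Subgroup G) K L bot_le h
  rwa [Subgroup.relIndex_bot_left, Subgroup.relIndex_bot_left] at this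

theorem card_sup_dvd_mul (H K : Subgroup G) [K.Normal] :
    Nat.card (H ⊔ K : Subgroup G) ∣ Nat.card H * Nat.card K := by
  rw [← card_mul_relIndex_eq (le_sup_right : K ≤ H ⊔ K), Subgroup.relIndex_sup_right, mul_comm]
  exact Nat.mul_dvd_mul_right (Subgroup.relIndex_dvd_card K H) _

theorem le_pPrimeCore (p : ℕ) (N : Subgroup G) [hN : N.Normal] (h : (Nat.card N).Coprime p) :
    N ≤ Cfsg.pPrimeCore p G :=
  le_sSup ⟨hN, h⟩

theorem pPrimeCore_card_coprime [Finite G] (p : ℕ) : (Nat.card (Cfsg.pPrimeCore p G)).Coprime p := by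
  classical
  set S : Set (Subgroup G) := {N : Subgroup G | N.Normal ∧ (Nat.card N).Coprime p} with hS
  have hne : S.Nonempty := ⟨⊥, inferInstance, by simp⟩
  obtain ⟨M, hM⟩ := (Set.toFinite S).exists_maximal hne
  have hMS : M ∈ S := hM.prop
  have hle : ∀ N ∈ S, N ≤ M := by
    intro N hN
    have i1 : N.Normal := hN.1
    have i2 : M.Normal := hMS.1
    have hsup : M ⊔ N ∈ S := by
      refine ⟨inferInstance, ?_⟩
      exact Nat.Coprime.coprime_dvd_left (card_sup_dvd_mul M N) (Nat.Coprime.mul_left hMS.2 hN.2)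
    have := hM.le_of_ge hsup le_sup_left
    exact le_sup_right.trans this
  have : Cfsg.pPrimeCore p G = M := le_antisymm (sSup_le hle) (le_sSup hMS)
  rw [this]
  exact hMS.2

theorem le_comap_mk' (K : Subgroup G) [K.Normal] (N : Subgroup (G ⧸ K)) :
    K ≤ N.comap (QuotientGroup.mk' K) := by
  have h := Subgroup.ker_le_comap (QuotientGroup.mk' K) N
  rwa [QuotientGroup.ker_mk'] at h

theorem card_comap_mk' (K : Subgroup G) [K.Normal] (N : Subgroup (G ⧸ K)) :
    Nat.card (N.comap (QuotientGroup.mk' K)) = Nat.card K * Nat.card N := by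
  rw [← card_mul_relIndex_eq (le_comap_mk' K N)]
  congr 1
  have h2 : (QuotientGroup.mk' K).ker.relIndex (N.comap (QuotientGroup.mk' K)) = Nat.card N := by
    rw [Subgroup.relIndex_ker,
      Subgroup.map_comap_eq_self_of_surjective (QuotientGroup.mk'_surjective K)]
  rw [QuotientGroup.ker_mk'] at h2
  exact h2

theorem pPrimeCore_quotient_eq_bot [Finite G] (p : ℕ) :
    Cfsg.pPrimeCore p (G ⧸ Cfsg.pPrimeCore p G) = ⊥ := by
  rw [eq_bot_iff]
  apply sSup_le
  rintro N ⟨hNn, hNc⟩
  have hsurj : Function.Surjective (QuotientGroup.mk' (Cfsg.pPrimeCore p G)) :=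
    QuotientGroup.mk'_surjective _
  have i1 : (N.comap (QuotientGroup.mk' (Cfsg.pPrimeCore p G))).Normal := hNn.comap _
  have hcard : (Nat.card (N.comap (QuotientGroup.mk' (Cfsg.pPrimeCore p G)))).Coprime p := by
    rw [card_comap_mk']
    exact Nat.Coprime.mul_left (pPrimeCore_card_coprime p) hNc
  have h3 : N.comap (QuotientGroup.mk' (Cfsg.pPrimeCore p G)) ≤ Cfsg.pPrimeCore p G :=
    le_pPrimeCore p _ hcard
  intro x hx
  obtain ⟨y, rfl⟩ := hsurj x
  have hy : y ∈ N.comap (QuotientGroup.mk' (Cfsg.pPrimeCore p G)) := hx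
  have := h3 hy
  rw [Subgroup.mem_bot]
  exact (QuotientGroup.eq_one_iff y).mpr this

theorem pPrimeCore_map_equiv_le {A B : Type*} [Group A] [Group B] (p : ℕ) (e : A ≃* B) :
    (Cfsg.pPrimeCore p A).map e.toMonoidHom ≤ Cfsg.pPrimeCore p B := by
  rw [Subgroup.map_le_iff_le_comap]
  apply sSup_le
  rintro N ⟨hNn, hNc⟩
  rw [← Subgroup.map_le_iff_le_comap]
  apply le_sSup
  refine ⟨hNn.map _ e.surjective, ?_⟩
  have : Nat.card ↥(N.map e.toMonoidHom) = Nat.card ↥N :=
    Nat.card_congr (N.equivMapOfInjective e.toMonoidHom e.injective).symm.toEquiv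
  rw [this]; exact hNc

instance pPrimeCore_characteristic (p : ℕ) : (Cfsg.pPrimeCore p G).Characteristic :=
  Subgroup.characteristic_iff_map_le.mpr fun ϕ => pPrimeCore_map_equiv_le p ϕ

theorem pPrimeCore_normal_le [Finite G] (p : ℕ) (N : Subgroup G) [N.Normal] :
    (Cfsg.pPrimeCore p ↥N).map N.subtype ≤ Cfsg.pPrimeCore p G := by
  have i1 : ((Cfsg.pPrimeCore p ↥N).map N.subtype).Normal :=
    ConjAct.normal_of_characteristic_of_normal
  apply le_pPrimeCore p
  have : Nat.card ↥((Cfsg.pPrimeCore p ↥N).map N.subtype) = Nat.card ↥(Cfsg.pPrimeCore p ↥N) :=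
    Nat.card_congr ((Cfsg.pPrimeCore p ↥N).equivMapOfInjective N.subtype N.subtype_injective).symm.toEquiv
  rw [this]
  exact pPrimeCore_card_coprime p

theorem subnormal_le_pPrimeCore_aux (p : ℕ) : ∀ (n : ℕ) (X : Type u) [Group X] [Finite X],
    Nat.card X = n → ∀ Y : Subgroup X, Y.IsSubnormal → (Nat.card ↥Y).Coprime p →
      Y ≤ Cfsg.pPrimeCore p X := by
  intro n
  induction n using Nat.strong_induction_on with
  | _ n ih =>
    intro X _ _ hn Y hY hc
    by_cases htop : Y = ⊤
    · subst htop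
      exact le_pPrimeCore p ⊤ hc
    · obtain ⟨N, hNn, hYN, hNtop⟩ := hY.exists_normal_and_le_and_lt_top_of_ne htop
      have hlt : Nat.card ↥N < n := by
        rw [← hn]
        have h1 := Subgroup.card_le_card_group N
        rcases lt_or_eq_of_le h1 with h | h
        · exact h
        · exact absurd (Subgroup.card_eq_iff_eq_top N |>.mp h) hNtop.ne
      have hsub : (Y.subgroupOf N).IsSubnormal := hY.subgroupOf
      have hcard : Nat.card ↥(Y.subgroupOf N) = Nat.card ↥Y :=
        Nat.card_congr (Subgroup.subgroupOfEquivOfLe hYN).toEquiv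
      have h2 := ih (Nat.card ↥N) hlt ↥N rfl (Y.subgroupOf N) hsub (by rw [hcard]; exact hc)
      have h3 : Y = (Y.subgroupOf N).map N.subtype := (Subgroup.map_subgroupOf_eq_of_le hYN).symm
      rw [h3]
      exact (Subgroup.map_mono h2).trans (pPrimeCore_normal_le p N)

theorem subnormal_le_pPrimeCore {X : Type u} [Group X] [Finite X] (p : ℕ) (Y : Subgroup X)
    (hY : Y.IsSubnormal) (hc : (Nat.card ↥Y).Coprime p) : Y ≤ Cfsg.pPrimeCore p X :=
  subnormal_le_pPrimeCore_aux p _ X rfl Y hY hc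

end Cfsg.Agent.Lib.Helper30
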