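import Mathlib
import Cfsg.Prelude.Def_OddOrderLocal
import Cfsg.Agent.Lib.Helper97.PRank

/-!
# Group-theoretic lemmas for B&G 12.13 (helper30)

* `focal_of_normal_complement`: with a normal complement `N` to `S`, `K' ∩ S = S'`.
* `exists_elemAb_commuting`: in a `p`-group of rank at least 3 (`p` odd), an element of order
  dividing `p` of the derived group centralizes an elementary abelian subgroup of order `> p²`.
* `card_center_of_card_cube`: nonabelian of order `p³`: centre of order `p`, containing all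
  commutators.
-/

set_option autoImplicit false

namespace Cfsg.Agent.Lib.Helper30.BG1213

open Subgroup
open scoped commutatorElement

theorem commutator_self_le {K : Type*} [Group K] (S : Subgroup K) : ⁅S, S⁆ ≤ S :=
  Subgroup.commutator_le.mpr
    (fun g₁ h₁ g₂ h₂ => S.mul_mem (S.mul_mem (S.mul_mem h₁ h₂) (S.inv_mem h₁)) (S.inv_mem h₂))

/-- If `N` is a normal complement of `S` in `K` then `K' ∩ S ≤ S'`. -/
theorem focal_of_normal_complement {K : Type*} [Group K] (N S : Subgroup K) [hN : N.Normal]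
    (hinf : N ⊓ S = ⊥) (hsup : N ⊔ S = ⊤) : commutator K ⊓ S ≤ ⁅S, S⁆ := by
  intro x hx
  obtain ⟨hxc, hxS⟩ := Subgroup.mem_inf.mp hx
  have hsurj : Function.Surjective (QuotientGroup.mk' N) := QuotientGroup.mk'_surjective N
  have hπS : S.map (QuotientGroup.mk' N) = ⊤ := by
    have h := Subgroup.map_top_of_surjective (QuotientGroup.mk' N) hsurj
    rw [← hsup, Subgroup.map_sup, QuotientGroup.map_mk'_self, bot_sup_eq] at h
    exact h
  have h1 : QuotientGroup.mk' N x ∈ (⁅S, S⁆).map (QuotientGroup.mk' N) := by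
    rw [Subgroup.map_commutator, hπS]
    have h : QuotientGroup.mk' N x ∈ (commutator K).map (QuotientGroup.mk' N) :=
      Subgroup.mem_map_of_mem _ hxc
    rw [commutator_def, Subgroup.map_commutator,
      Subgroup.map_top_of_surjective (QuotientGroup.mk' N) hsurj] at h
    exact h
  obtain ⟨s, hs, hsx⟩ := h1
  have hsS : s ∈ S := commutator_self_le S hs
  have h2 : s⁻¹ * x ∈ N := by
    have h : (s : K ⧸ N) = (x : K ⧸ N) := hsx
    exact QuotientGroup.eq.mp h
  have h3 : s⁻¹ * x ∈ N ⊓ S := ⟨h2, S.mul_mem (S.inv_mem hsS) hxS⟩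
  rw [hinf, Subgroup.mem_bot] at h3
  have h4 : s = x := inv_mul_eq_one.mp h3
  rw [← h4]
  exact hs

/-- In a `p`-group of rank at least 3 (`p` odd), an element `x` of the derived group with
`x ^ p = 1` commutes with all elements of some elementary abelian subgroup of order `> p²`. -/
theorem exists_elemAb_commuting {P : Type*} [Group P] [Finite P] {p : ℕ} [hpf : Fact p.Prime]
    (hp2 : p ≠ 2) (hP : IsPGroup p P) (hr : ¬ Cfsg.PRankLE p 2 P) (x : P)
    (hx : x ∈ commutator P) (hxp : x ^ p = 1) :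
    ∃ E : Subgroup P, IsMulCommutative E ∧ (∀ e ∈ E, e ^ p = 1) ∧ p ^ 2 < Nat.card E ∧
      ∀ e ∈ E, e * x = x * e := by
  have hpp : p.Prime := hpf.out
  obtain ⟨M₀, hMn, hMc, hMe, hMcard⟩ :=
    Cfsg.Agent.Lib.Helper97.PRank.exists_normal_elemAb_card_cube hp2 hP hr
  have hMcomm : ∀ a ∈ M₀, ∀ b ∈ M₀, a * b = b * a := fun a ha b hb =>
    congrArg Subtype.val (hMc.is_comm.comm ⟨a, ha⟩ ⟨b, hb⟩)
  by_cases hxM : x ∈ M₀
  · refine ⟨M₀, hMc, hMe, ?_, fun e he => hMcomm e he x hxM⟩
    rw [hMcard]
    exact Nat.pow_lt_pow_right hpp.one_lt (by norm_num)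
  · have hM1 : M₀ ≠ ⊥ := by
      intro h
      rw [h, Subgroup.card_bot] at hMcard
      have : 1 < p ^ 3 := Nat.one_lt_pow (by norm_num) hpp.one_lt
      omega
    have := hMn
    obtain ⟨z, hzM, hzZ, hz1⟩ :=
      Cfsg.Agent.Lib.Helper32.exists_ne_one_mem_normal_inf_center hP M₀ hM1
    obtain ⟨Z0, hZ0def⟩ : ∃ Z0 : Subgroup P, Z0 = Subgroup.zpowers z := ⟨_, rfl⟩
    have hZ0c : Z0 ≤ Subgroup.center P := by rw [hZ0def]; exact Subgroup.zpowers_le.mpr hzZ
    have hZ0n : Z0.Normal := ⟨fun n hn g => by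
      have h := Subgroup.mem_center_iff.mp (hZ0c hn) g
      rw [h, mul_inv_cancel_right]; exact hn⟩
    have hZ0card : Nat.card Z0 = p := by
      rw [hZ0def, Nat.card_zpowers]
      exact orderOf_eq_prime (hMe z hzM) hz1
    have hZ0M : Z0 ≤ M₀ := by rw [hZ0def]; exact Subgroup.zpowers_le.mpr hzM
    obtain ⟨B2, hB2def⟩ : ∃ B2 : Subgroup P,
        B2 = M₀ ⊓ (Subgroup.center (P ⧸ Z0)).comap (QuotientGroup.mk' Z0) := ⟨_, rfl⟩
    have hB2M : B2 ≤ M₀ := by rw [hB2def]; exact inf_le_left
    have hcomm : ∀ b ∈ B2, ∀ g : P, g * b * g⁻¹ * b⁻¹ ∈ Z0 := by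
      intro b hb g
      rw [hB2def] at hb
      have hb2 : QuotientGroup.mk' Z0 b ∈ Subgroup.center (P ⧸ Z0) := hb.2
      have h := Subgroup.mem_center_iff.mp hb2 (QuotientGroup.mk' Z0 g)
      have h5 : QuotientGroup.mk' Z0 (g * b * g⁻¹ * b⁻¹) = 1 := by
        rw [map_mul, map_mul, map_mul, map_inv, map_inv, h]
        group
      exact (QuotientGroup.eq_one_iff _).mp h5
    -- the derived group centralizes `B2`
    have hZ : ⁅⁅(⊤ : Subgroup P), B2⁆, (⊤ : Subgroup P)⁆ = ⊥ := by
      rw [Subgroup.commutator_eq_bot_iff_le_centralizer]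
      intro y hy
      have hyZ : y ∈ Z0 :=
        (Subgroup.commutator_le.mpr (fun g _ b hb => hcomm b hb g)) hy
      rw [Subgroup.mem_centralizer_iff]
      intro g _
      exact Subgroup.mem_center_iff.mp (hZ0c hyZ) g
    have hZ' : ⁅⁅B2, (⊤ : Subgroup P)⁆, (⊤ : Subgroup P)⁆ = ⊥ := by
      rw [Subgroup.commutator_comm B2 ⊤]; exact hZ
    have h3 := Subgroup.commutator_commutator_eq_bot_of_rotate hZ hZ'
    rw [Subgroup.commutator_eq_bot_iff_le_centralizer] at h3
    have hxB : ∀ b ∈ B2, b * x = x * b := fun b hb =>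
      Subgroup.mem_centralizer_iff.mp (h3 (by rwa [commutator_def] at hx)) b hb
    -- `B2` has order at least `p²`
    have hmapne : M₀.map (QuotientGroup.mk' Z0) ≠ ⊥ := by
      intro h
      rw [Subgroup.map_eq_bot_iff, QuotientGroup.ker_mk'] at h
      have h1 := Subgroup.card_le_of_le h
      rw [hMcard, hZ0card] at h1
      have : p ^ 1 < p ^ 3 := Nat.pow_lt_pow_right hpp.one_lt (by norm_num)
      rw [pow_one] at this
      omega
    have hPq : IsPGroup p (P ⧸ Z0) := hP.to_quotient Z0
    have hmapn : (M₀.map (QuotientGroup.mk' Z0)).Normal :=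
      hMn.map _ (QuotientGroup.mk'_surjective Z0)
    obtain ⟨b', hb'M, hb'Z, hb'1⟩ :=
      Cfsg.Agent.Lib.Helper32.exists_ne_one_mem_normal_inf_center hPq
        (M₀.map (QuotientGroup.mk' Z0)) hmapne
    obtain ⟨b, hbM, rfl⟩ := hb'M
    have hbB2 : b ∈ B2 := by rw [hB2def]; exact ⟨hbM, hb'Z⟩
    have hbZ0 : b ∉ Z0 := fun h => hb'1 ((QuotientGroup.eq_one_iff b).mpr h)
    have hZ0B2 : Z0 ≤ B2 := by
      intro y hy
      rw [hB2def]
      refine ⟨hZ0M hy, ?_⟩
      show QuotientGroup.mk' Z0 y ∈ Subgroup.center (P ⧸ Z0)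
      have : QuotientGroup.mk' Z0 y = 1 := (QuotientGroup.eq_one_iff y).mpr hy
      rw [this]; exact Subgroup.one_mem _
    have hB2card : p ^ 2 ≤ Nat.card B2 := by
      obtain ⟨k, hk⟩ := IsPGroup.iff_card.mp (hP.to_subgroup B2)
      have h1 : Nat.card Z0 ≤ Nat.card B2 := Subgroup.card_le_of_le hZ0B2
      have h2 : Nat.card Z0 ≠ Nat.card B2 := by
        intro h
        have := Subgroup.eq_of_le_of_card_ge hZ0B2 h.ge
        exact hbZ0 (this ▸ hbB2)
      rw [hk, hZ0card] at h1 h2
      rw [hk]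
      have hk2 : 2 ≤ k := by
        by_contra hlt
        have hk1 : k ≤ 1 := by omega
        have : p ^ k ≤ p ^ 1 := Nat.pow_le_pow_right hpp.pos hk1
        rw [pow_one] at this
        omega
      exact Nat.pow_le_pow_right hpp.pos hk2
    -- the subgroup `E = ⟨x⟩ B2`
    have hxnorm : Subgroup.zpowers x ≤ Subgroup.normalizer (B2 : Set P) := by
      refine le_trans ?_ (Subgroup.centralizer_le_normalizer (B2 : Set P))
      rw [Subgroup.zpowers_le, Subgroup.mem_centralizer_iff]
      exact fun b hb => hxB b hb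
    have hdecomp : ∀ e ∈ Subgroup.zpowers x ⊔ B2, ∃ k : ℤ, ∃ b ∈ B2, e = x ^ k * b := by
      intro e he
      have hS : Subgroup.zpowers x ⊔ B2 ≤
          { carrier := {e | ∃ k : ℤ, ∃ b ∈ B2, e = x ^ k * b}
            mul_mem' := by
              rintro _ _ ⟨k, b, hb, rfl⟩ ⟨k', b', hb', rfl⟩
              refine ⟨k + k', b * b', B2.mul_mem hb hb', ?_⟩
              have hc : Commute b (x ^ k') := (show Commute b x from hxB b hb).zpow_right k'
              calc x ^ k * b * (x ^ k' * b') = x ^ k * (b * x ^ k') * b' := by group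
                _ = x ^ k * (x ^ k' * b) * b' := by rw [hc.eq]
                _ = x ^ (k + k') * (b * b') := by rw [zpow_add]; group
            one_mem' := ⟨0, 1, B2.one_mem, by simp⟩
            inv_mem' := by
              rintro _ ⟨k, b, hb, rfl⟩
              refine ⟨-k, b⁻¹, B2.inv_mem hb, ?_⟩
              have hc : Commute b (x ^ k) := (show Commute b x from hxB b hb).zpow_right k
              calc (x ^ k * b)⁻¹ = (b * x ^ k)⁻¹ := by rw [hc.eq]
                _ = x ^ (-k) * b⁻¹ := by rw [zpow_neg]; group } := by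
        apply sup_le
        · rw [Subgroup.zpowers_le]
          exact ⟨1, 1, B2.one_mem, by simp⟩
        · intro b hb
          exact ⟨0, b, hb, by simp⟩
      exact hS he
    have hB2comm : ∀ a ∈ B2, ∀ b ∈ B2, a * b = b * a := fun a ha b hb =>
      hMcomm a (hB2M ha) b (hB2M hb)
    refine ⟨Subgroup.zpowers x ⊔ B2, ⟨⟨fun e e' => ?_⟩⟩, ?_, ?_, ?_⟩
    · obtain ⟨k, b, hb, hke⟩ := hdecomp e.1 e.2
      obtain ⟨k', b', hb', hke'⟩ := hdecomp e'.1 e'.2
      apply Subtype.ext
      show (e : P) * (e' : P) = (e' : P) * (e : P)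
      rw [hke, hke']
      have hc : Commute b (x ^ k') := (show Commute b x from hxB b hb).zpow_right k'
      have hc' : Commute b' (x ^ k) := (show Commute b' x from hxB b' hb').zpow_right k
      have hxx : Commute (x ^ k) (x ^ k') := (Commute.refl x).zpow_zpow k k'
      calc x ^ k * b * (x ^ k' * b') = x ^ k * (b * x ^ k') * b' := by group
        _ = x ^ k * (x ^ k' * b) * b' := by rw [hc.eq]
        _ = (x ^ k * x ^ k') * (b * b') := by group
        _ = (x ^ k' * x ^ k) * (b' * b) := by rw [hxx.eq, hB2comm b hb b' hb']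
        _ = x ^ k' * (x ^ k * b') * b := by group
        _ = x ^ k' * (b' * x ^ k) * b := by rw [hc'.eq]
        _ = x ^ k' * b' * (x ^ k * b) := by group
    · intro e he
      obtain ⟨k, b, hb, rfl⟩ := hdecomp e he
      have hc : Commute (x ^ k) b := ((show Commute b x from hxB b hb).zpow_right k).symm
      rw [hc.mul_pow, ← zpow_natCast, ← zpow_mul, mul_comm, zpow_mul, zpow_natCast, hxp, one_zpow,
        hMe b (hB2M hb), mul_one]
    · have hlt : Nat.card B2 < Nat.card (Subgroup.zpowers x ⊔ B2 : Subgroup P) := by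
        by_contra hge
        push Not at hge
        have h := Subgroup.eq_of_le_of_card_ge (le_sup_right : B2 ≤ Subgroup.zpowers x ⊔ B2) hge
        apply hxM
        apply hB2M
        rw [h]
        exact Subgroup.mem_sup_left (Subgroup.mem_zpowers x)
      omega
    · intro e he
      obtain ⟨k, b, hb, rfl⟩ := hdecomp e he
      have hc : Commute b x := hxB b hb
      have hxk : Commute (x ^ k) x := (Commute.refl x).zpow_left k
      exact (hxk.mul_left hc).eq

/-- A nonabelian group of order `p³`: the centre has order `p` and contains all commutators. -/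
theorem card_center_of_card_cube {H : Type*} [Group H] [Finite H] (p : ℕ) [Fact p.Prime]
    (hcard : Nat.card H = p ^ 3) (hna : ¬ ∀ a b : H, a * b = b * a) :
    Nat.card (Subgroup.center H) = p ∧ commutator H ≤ Subgroup.center H := by
  have hp : p.Prime := Fact.out
  have hH : IsPGroup p H := IsPGroup.of_card hcard
  have hnt : Nontrivial H := by
    rw [← Finite.one_lt_card_iff_nontrivial, hcard]
    exact Nat.one_lt_pow (by norm_num) hp.one_lt
  have hdvd : Nat.card (Subgroup.center H) ∣ p ^ 3 := hcard ▸ Subgroup.card_subgroup_dvd_card _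
  obtain ⟨a, ha, hca⟩ := (Nat.dvd_prime_pow hp).mp hdvd
  have hidx : Nat.card (H ⧸ Subgroup.center H) * p ^ a = p ^ 3 := by
    have := Subgroup.card_eq_card_quotient_mul_card_subgroup (Subgroup.center H)
    rw [hcard, hca] at this
    exact this.symm
  have hcardQ : Nat.card (H ⧸ Subgroup.center H) = p ^ (3 - a) := by
    have h1 : Nat.card (H ⧸ Subgroup.center H) * p ^ a = p ^ (3 - a) * p ^ a := by
      rw [hidx, ← pow_add]; congr 1; omega
    exact Nat.eq_of_mul_eq_mul_right (pow_pos hp.pos a) h1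
  have hker : (QuotientGroup.mk' (Subgroup.center H)).ker ≤ Subgroup.center H := by
    rw [QuotientGroup.ker_mk']
  have ha0 : a ≠ 0 := by
    intro h0
    have hntc : Nontrivial (Subgroup.center H) := hH.center_nontrivial
    rw [← Finite.one_lt_card_iff_nontrivial, hca, h0, pow_zero] at hntc
    exact lt_irrefl _ hntc
  have ha3 : a ≠ 3 := by
    intro h3
    apply hna
    have htop : Subgroup.center H = ⊤ := by
      apply Subgroup.eq_top_of_card_eq
      rw [hca, h3, hcard]
    intro x y
    have hy : y ∈ Subgroup.center H := by rw [htop]; exact Subgroup.mem_top y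
    exact (Subgroup.mem_center_iff.mp hy) x
  have ha2 : a ≠ 2 := by
    intro h2
    apply hna
    have hc : Nat.card (H ⧸ Subgroup.center H) = p := by rw [hcardQ, h2]; norm_num
    have hcyc : IsCyclic (H ⧸ Subgroup.center H) := isCyclic_of_prime_card hc
    exact isMulCommutative_iff.mp
      (MonoidHom.isMulCommutative_of_isCyclic_of_ker_le_center
        (QuotientGroup.mk' (Subgroup.center H)) hker)
  have ha1 : a = 1 := by omega
  subst ha1
  rw [pow_one] at hca
  have hcQ : Nat.card (H ⧸ Subgroup.center H) = p ^ 2 := hcardQ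
  have hQcomm : IsMulCommutative (H ⧸ Subgroup.center H) :=
    IsPGroup.isMulCommutative_of_card_eq_prime_sq hcQ
  exact ⟨hca, Subgroup.Normal.quotient_commutative_iff_commutator_le.mp hQcomm⟩

end Cfsg.Agent.Lib.Helper30.BG1213
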