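import Mathlib
import Cfsg.Prelude.Def_OddOrderLocal
import Cfsg.Agent.Lib.Helper33.Conj
import Cfsg.Agent.Lib.Helper30.BG1213A

/-!
# Central products `P₁ * P₂` with `P₁` extraspecial of order `p³` (helper30, for B&G 12.13)
-/

set_option autoImplicit false

namespace Cfsg.Agent.Lib.Helper30.BG1213

open Subgroup Cfsg Cfsg.Agent.Lib.Helper33
open scoped commutatorElement

variable {G : Type*} [Group G]

theorem exists_mul_of_mem_sup_commute {H K : Subgroup G}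
    (hcomm : ∀ a ∈ H, ∀ b ∈ K, a * b = b * a) {x : G} (hx : x ∈ H ⊔ K) :
    ∃ a ∈ H, ∃ b ∈ K, x = a * b := by
  have h := MonoidHom.noncommCoprod_range H.subtype K.subtype
    (fun a b => show Commute (H.subtype a) (K.subtype b) from hcomm a a.2 b b.2)
  rw [Subgroup.range_subtype, Subgroup.range_subtype] at h
  rw [← h] at hx
  obtain ⟨⟨a, b⟩, rfl⟩ := hx
  exact ⟨a, a.2, b, b.2, by simp [MonoidHom.noncommCoprod_apply]⟩

theorem elemAb_sup {p : ℕ} {X Y : Subgroup G} (hX : IsElementaryAbelian p X)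
    (hY : IsElementaryAbelian p Y) (hcomm : ∀ a ∈ X, ∀ b ∈ Y, a * b = b * a) :
    IsElementaryAbelian p (X ⊔ Y) := by
  have hXc : ∀ a ∈ X, ∀ b ∈ X, a * b = b * a := fun a ha b hb =>
    congrArg Subtype.val (hX.1.is_comm.comm ⟨a, ha⟩ ⟨b, hb⟩)
  have hYc : ∀ a ∈ Y, ∀ b ∈ Y, a * b = b * a := fun a ha b hb =>
    congrArg Subtype.val (hY.1.is_comm.comm ⟨a, ha⟩ ⟨b, hb⟩)
  refine ⟨⟨⟨fun e e' => ?_⟩⟩, ?_⟩
  · obtain ⟨a, ha, b, hb, he⟩ := exists_mul_of_mem_sup_commute hcomm e.2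
    obtain ⟨a', ha', b', hb', he'⟩ := exists_mul_of_mem_sup_commute hcomm e'.2
    apply Subtype.ext
    show (e : G) * (e' : G) = (e' : G) * (e : G)
    rw [he, he']
    calc a * b * (a' * b') = a * (b * a') * b' := by group
      _ = a * (a' * b) * b' := by rw [hcomm a' ha' b hb]
      _ = (a * a') * (b * b') := by group
      _ = (a' * a) * (b' * b) := by rw [hXc a ha a' ha', hYc b hb b' hb']
      _ = a' * (a * b') * b := by group
      _ = a' * (b' * a) * b := by rw [hcomm a ha b' hb']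
      _ = a' * b' * (a * b) := by group
  · intro e he
    obtain ⟨a, ha, b, hb, rfl⟩ := exists_mul_of_mem_sup_commute hcomm he
    rw [(show Commute a b from hcomm a ha b hb).mul_pow, hX.2 a ha, hY.2 b hb, mul_one]

theorem elemAb_of_card_prime {p : ℕ} [hp : Fact p.Prime] {X : Subgroup G} (hX : Nat.card X = p) :
    IsElementaryAbelian p X := by
  have hc : IsCyclic X := isCyclic_of_prime_card hX
  refine ⟨⟨⟨fun a b => ?_⟩⟩, ?_⟩
  · obtain ⟨g, hg⟩ := hc.exists_generator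
    obtain ⟨m, rfl⟩ := Subgroup.mem_zpowers_iff.mp (hg a)
    obtain ⟨n, rfl⟩ := Subgroup.mem_zpowers_iff.mp (hg b)
    exact (Commute.zpow_zpow_self g m n).eq
  · intro a ha
    have h := pow_card_eq_one' (G := X) (x := ⟨a, ha⟩)
    rw [hX] at h
    simpa using congrArg Subtype.val h

theorem inf_eq_bot_of_card_prime {p : ℕ} [hp : Fact p.Prime] {X Y : Subgroup G}
    (hX : Nat.card X = p) (hne : ¬ X ≤ Y) : X ⊓ Y = ⊥ := by
  have hXfin : Finite X := Nat.finite_of_card_ne_zero (by rw [hX]; exact hp.out.ne_zero)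
  have hdvd : Nat.card (X ⊓ Y : Subgroup G) ∣ Nat.card X := Subgroup.card_dvd_of_le inf_le_left
  rw [hX] at hdvd
  rcases (Nat.dvd_prime hp.out).mp hdvd with h | h
  · exact Subgroup.card_eq_one.mp h
  · exfalso
    apply hne
    have h1 : X ⊓ Y = X := Subgroup.eq_of_le_of_card_ge inf_le_left (by rw [h, hX])
    rw [← h1]
    exact inf_le_right

theorem elemAb_sq_of_card_prime {p : ℕ} [hp : Fact p.Prime] {X Y : Subgroup G}
    (hX : Nat.card X = p) (hY : Nat.card Y = p) (hne : X ≠ Y)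
    (hcomm : ∀ a ∈ X, ∀ b ∈ Y, a * b = b * a) :
    IsElementaryAbelian p (X ⊔ Y) ∧ Nat.card (X ⊔ Y : Subgroup G) = p ^ 2 := by
  refine ⟨elemAb_sup (elemAb_of_card_prime hX) (elemAb_of_card_prime hY) hcomm, ?_⟩
  have hXfin : Finite X := Nat.finite_of_card_ne_zero (by rw [hX]; exact hp.out.ne_zero)
  have hYfin : Finite Y := Nat.finite_of_card_ne_zero (by rw [hY]; exact hp.out.ne_zero)
  have hnle : ¬ X ≤ Y := by
    intro hle
    exact hne (Subgroup.eq_of_le_of_card_ge hle (by rw [hX, hY]))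
  have hdisj : Disjoint X Y := disjoint_iff.mpr (inf_eq_bot_of_card_prime hX hnle)
  have hcm : ∀ (a : X) (b : Y), Commute (X.subtype a) (Y.subtype b) := fun a b => hcomm a a.2 b b.2
  have hinj : Function.Injective
      (MonoidHom.noncommCoprod X.subtype Y.subtype hcm) := by
    rw [MonoidHom.noncommCoprod_injective]
    refine ⟨X.subtype_injective, Y.subtype_injective, ?_⟩
    rw [Subgroup.range_subtype, Subgroup.range_subtype]
    exact hdisj
  have hr := MonoidHom.noncommCoprod_range X.subtype Y.subtype hcm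
  rw [Subgroup.range_subtype, Subgroup.range_subtype] at hr
  have hcard := Nat.card_congr (MonoidHom.ofInjective hinj).toEquiv
  rw [hr, Nat.card_prod, hX, hY] at hcard
  rw [← hcard, sq]

theorem zpowers_eq_of_card_prime [Finite G] {p : ℕ} [hp : Fact p.Prime] {A : Subgroup G}
    (hA : Nat.card A = p) {a : G} (ha : a ∈ A) (ha1 : a ≠ 1) : Subgroup.zpowers a = A := by
  apply Subgroup.eq_of_le_of_card_ge (Subgroup.zpowers_le.mpr ha)
  rw [Nat.card_zpowers, hA]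
  have hdvd : orderOf a ∣ p := hA ▸ Subgroup.orderOf_dvd_natCard A ha
  rcases (Nat.dvd_prime hp.out).mp hdvd with h | h
  · exact absurd (orderOf_eq_one_iff.mp h) ha1
  · exact h.ge

/-! ### The central product -/

/-- The data of B&G 4.18 / statement S1412: `Q = P₁ P₂` a central product with `P₁` nonabelian of
order `p³` and exponent `p`. -/
structure CP (p : ℕ) (Q P₁ P₂ : Subgroup G) : Prop where
  sup : P₁ ⊔ P₂ = Q
  comm : ∀ a ∈ P₁, ∀ b ∈ P₂, a * b = b * a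
  na : ¬ IsMulCommutative P₁
  card : Nat.card P₁ = p ^ 3
  exp : Monoid.exponent P₁ = p
  cyc : IsCyclic P₂

/-- the centre of `P₁`, as a subgroup of `G` -/
def cpZ (P₁ : Subgroup G) : Subgroup G := P₁ ⊓ centralizer (P₁ : Set G)

theorem cpZ_eq_map (P₁ : Subgroup G) : cpZ P₁ = (Subgroup.center P₁).map P₁.subtype := by
  ext x
  constructor
  · intro hx
    have hx1 : x ∈ P₁ := hx.1
    have hx2 : x ∈ centralizer (P₁ : Set G) := hx.2
    have hc : (⟨x, hx1⟩ : P₁) ∈ Subgroup.center P₁ := by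
      rw [Subgroup.mem_center_iff]
      intro g
      apply Subtype.ext
      exact Subgroup.mem_centralizer_iff.mp hx2 g.1 g.2
    exact ⟨⟨x, hx1⟩, hc, rfl⟩
  · rintro ⟨z, hz, rfl⟩
    have hz' : z ∈ Subgroup.center P₁ := hz
    have h2 : (z : G) ∈ centralizer (P₁ : Set G) := by
      rw [Subgroup.mem_centralizer_iff]
      intro g hg
      exact congrArg Subtype.val (Subgroup.mem_center_iff.mp hz' ⟨g, hg⟩)
    exact ⟨z.2, h2⟩

variable {p : ℕ} {Q P₁ P₂ : Subgroup G}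

theorem CP.le₁ (h : CP p Q P₁ P₂) : P₁ ≤ Q := h.sup ▸ le_sup_left
theorem CP.le₂ (h : CP p Q P₁ P₂) : P₂ ≤ Q := h.sup ▸ le_sup_right

theorem CP.finite₁ [hp : Fact p.Prime] (h : CP p Q P₁ P₂) : Finite P₁ :=
  Nat.finite_of_card_ne_zero (by rw [h.card]; exact pow_ne_zero _ hp.out.ne_zero)

theorem CP.na' (h : CP p Q P₁ P₂) : ¬ ∀ a b : P₁, a * b = b * a := fun hc =>
  h.na ⟨⟨hc⟩⟩

theorem CP.card_cpZ [hp : Fact p.Prime] (h : CP p Q P₁ P₂) : Nat.card (cpZ P₁) = p := by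
  have := h.finite₁
  rw [cpZ_eq_map, Subgroup.card_map_of_injective P₁.subtype_injective]
  exact (card_center_of_card_cube p h.card h.na').1

theorem CP.cpZ_le (_h : CP p Q P₁ P₂) : cpZ P₁ ≤ P₁ := inf_le_left

theorem CP.pow_eq_one (h : CP p Q P₁ P₂) {a : G} (ha : a ∈ P₁) : a ^ p = 1 := by
  have h1 := Monoid.pow_exponent_eq_one (⟨a, ha⟩ : P₁)
  rw [h.exp] at h1
  simpa using congrArg Subtype.val h1

theorem CP.comm₂ (h : CP p Q P₁ P₂) : ∀ a ∈ P₂, ∀ b ∈ P₂, a * b = b * a := by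
  intro a ha b hb
  have := h.cyc
  obtain ⟨g, hg⟩ := h.cyc.exists_generator
  obtain ⟨m, hm⟩ := Subgroup.mem_zpowers_iff.mp (hg ⟨a, ha⟩)
  obtain ⟨n, hn⟩ := Subgroup.mem_zpowers_iff.mp (hg ⟨b, hb⟩)
  have h1 : (⟨a, ha⟩ : P₂) * ⟨b, hb⟩ = ⟨b, hb⟩ * ⟨a, ha⟩ := by
    rw [← hm, ← hn]
    exact (Commute.zpow_zpow_self g m n).eq
  exact congrArg Subtype.val h1

/-- `Z(P₁)` is central in `Q`. -/
theorem CP.central (h : CP p Q P₁ P₂) : Q ≤ centralizer (cpZ P₁ : Set G) := by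
  rw [← h.sup]
  apply sup_le
  · intro a ha
    rw [Subgroup.mem_centralizer_iff]
    intro z hz
    exact (Subgroup.mem_centralizer_iff.mp hz.2 a ha).symm
  · intro b hb
    rw [Subgroup.mem_centralizer_iff]
    intro z hz
    exact h.comm z hz.1 b hb

theorem CP.central' (h : CP p Q P₁ P₂) {g z : G} (hg : g ∈ Q) (hz : z ∈ cpZ P₁) :
    z * g = g * z :=
  Subgroup.mem_centralizer_iff.mp (h.central hg) z hz

/-- commutators of `Q` lie in `Z(P₁)` -/
theorem CP.comm_mem [hp : Fact p.Prime] (h : CP p Q P₁ P₂) {g k : G} (hg : g ∈ Q) (hk : k ∈ Q) :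
    g * k * g⁻¹ * k⁻¹ ∈ cpZ P₁ := by
  have := h.finite₁
  rw [← h.sup] at hg hk
  obtain ⟨a, ha, b, hb, rfl⟩ := exists_mul_of_mem_sup_commute h.comm hg
  obtain ⟨a', ha', b', hb', rfl⟩ := exists_mul_of_mem_sup_commute h.comm hk
  have e1 : a' * b = b * a' := h.comm a' ha' b hb
  have e2 : a * b' = b' * a := h.comm a ha b' hb'
  have e3 : b * b' = b' * b := h.comm₂ b hb b' hb'
  have e4 : a * b = b * a := h.comm a ha b hb
  have e5 : a' * b' = b' * a' := h.comm a' ha' b' hb'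
  have hcalc : a * b * (a' * b') * (a * b)⁻¹ * (a' * b')⁻¹ = a * a' * a⁻¹ * a'⁻¹ := by
    have s1 : a * b * (a' * b') = a * a' * (b * b') := by
      calc a * b * (a' * b') = a * (b * a') * b' := by group
        _ = a * (a' * b) * b' := by rw [e1]
        _ = a * a' * (b * b') := by group
    have s2 : (a * b)⁻¹ * (a' * b')⁻¹ = (b * b')⁻¹ * (a⁻¹ * a'⁻¹) := by
      calc (a * b)⁻¹ * (a' * b')⁻¹ = (a' * b' * (a * b))⁻¹ := by group
        _ = (a' * (b' * a) * b)⁻¹ := by group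
        _ = (a' * (a * b') * b)⁻¹ := by rw [e2]
        _ = (a' * a * (b' * b))⁻¹ := by group
        _ = (a' * a * (b * b'))⁻¹ := by rw [e3]
        _ = (b * b')⁻¹ * (a⁻¹ * a'⁻¹) := by group
    have hbc : ∀ c ∈ P₁, c * (b * b') = (b * b') * c := fun c hc =>
      h.comm c hc (b * b') (P₂.mul_mem hb hb')
    calc a * b * (a' * b') * (a * b)⁻¹ * (a' * b')⁻¹
        = (a * b * (a' * b')) * ((a * b)⁻¹ * (a' * b')⁻¹) := by group
      _ = a * a' * (b * b') * ((b * b')⁻¹ * (a⁻¹ * a'⁻¹)) := by rw [s1, s2]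
      _ = a * a' * a⁻¹ * a'⁻¹ := by group
  rw [hcalc, cpZ_eq_map]
  have hc := (card_center_of_card_cube p h.card h.na').2
  have hmem : ⁅(⟨a, ha⟩ : P₁), (⟨a', ha'⟩ : P₁)⁆ ∈ commutator P₁ :=
    Subgroup.commutator_mem_commutator (Subgroup.mem_top _) (Subgroup.mem_top _)
  refine ⟨_, hc hmem, ?_⟩
  simp [commutatorElement_def]

/-- there are `y₁, y₂ ∈ P₁` independent modulo `Z(P₁)` -/
theorem CP.exists_pair [Finite G] [hp : Fact p.Prime] (h : CP p Q P₁ P₂) :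
    ∃ y₁ ∈ P₁, ∃ y₂ ∈ P₁, y₂ ∉ cpZ P₁ ∧ y₁ ∉ cpZ P₁ ⊔ Subgroup.zpowers y₂ := by
  have hpp : p.Prime := hp.out
  have h13 : p ^ 1 < p ^ 3 := Nat.pow_lt_pow_right hpp.one_lt (by norm_num)
  have h23 : p ^ 2 < p ^ 3 := Nat.pow_lt_pow_right hpp.one_lt (by norm_num)
  rw [pow_one] at h13
  have hex : ∀ H : Subgroup G, Nat.card H < p ^ 3 → ∃ y ∈ P₁, y ∉ H := by
    intro H hH
    by_contra hcon
    push Not at hcon
    have hle : P₁ ≤ H := hcon
    have := Subgroup.card_le_of_le hle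
    rw [h.card] at this
    omega
  obtain ⟨y₂, hy₂, hy₂Z⟩ := hex (cpZ P₁) (by rw [h.card_cpZ]; exact h13)
  have hy₂1 : y₂ ≠ 1 := fun h1 => hy₂Z (h1 ▸ Subgroup.one_mem _)
  have hy₂o : orderOf y₂ = p := orderOf_eq_prime (h.pow_eq_one hy₂) hy₂1
  have hcardY : Nat.card (Subgroup.zpowers y₂) = p := by rw [Nat.card_zpowers, hy₂o]
  have hne : cpZ P₁ ≠ Subgroup.zpowers y₂ := fun he => hy₂Z (he ▸ Subgroup.mem_zpowers y₂)
  have hcomm : ∀ a ∈ cpZ P₁, ∀ b ∈ Subgroup.zpowers y₂, a * b = b * a := by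
    intro a ha b hb
    exact h.central' (h.le₁ (Subgroup.zpowers_le.mpr hy₂ hb)) ha
  obtain ⟨-, hc2⟩ := elemAb_sq_of_card_prime h.card_cpZ hcardY hne hcomm
  obtain ⟨y₁, hy₁, hy₁H⟩ := hex (cpZ P₁ ⊔ Subgroup.zpowers y₂) (by rw [hc2]; exact h23)
  exact ⟨y₁, hy₁, y₂, hy₂, hy₂Z, hy₁H⟩

/-- for `c ∈ P₁ ∖ Z(P₁)`, `⟨c⟩ Z(P₁)` is elementary abelian of order `p²` -/
theorem CP.elemAb_sq [Finite G] [hp : Fact p.Prime] (h : CP p Q P₁ P₂) {c : G} (hc : c ∈ P₁) (hcZ : c ∉ cpZ P₁) :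
    IsElementaryAbelian p (Subgroup.zpowers c ⊔ cpZ P₁) ∧
      Nat.card (Subgroup.zpowers c ⊔ cpZ P₁ : Subgroup G) = p ^ 2 ∧
      Subgroup.zpowers c ⊔ cpZ P₁ ≤ Q := by
  have hc1 : c ≠ 1 := fun h1 => hcZ (h1 ▸ Subgroup.one_mem _)
  have hco : orderOf c = p := orderOf_eq_prime (h.pow_eq_one hc) hc1
  have hcardY : Nat.card (Subgroup.zpowers c) = p := by rw [Nat.card_zpowers, hco]
  have hne : Subgroup.zpowers c ≠ cpZ P₁ := fun he => hcZ (he ▸ Subgroup.mem_zpowers c)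
  have hcomm : ∀ a ∈ Subgroup.zpowers c, ∀ b ∈ cpZ P₁, a * b = b * a := by
    intro a ha b hb
    exact (h.central' (h.le₁ (Subgroup.zpowers_le.mpr hc ha)) hb).symm
  obtain ⟨h1, h2⟩ := elemAb_sq_of_card_prime hcardY h.card_cpZ hne hcomm
  exact ⟨h1, h2, sup_le ((Subgroup.zpowers_le.mpr hc).trans h.le₁) (h.cpZ_le.trans h.le₁)⟩

/-- a subgroup of order `p` of `Q` other than `Z(P₁)` is not central, when `Q` has rank two -/
theorem CP.not_central [Finite G] [hp : Fact p.Prime] (h : CP p Q P₁ P₂) (hr : PRankLE p 2 ↥Q) {A₁ : Subgroup G}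
    (hA₁ : Nat.card A₁ = p) (hA₁Q : A₁ ≤ Q) (hne : A₁ ≠ cpZ P₁) :
    ¬ Q ≤ centralizer (A₁ : Set G) := by
  intro hcen
  have hpp : p.Prime := hp.out
  have hcomm : ∀ a ∈ A₁, ∀ b ∈ cpZ P₁, a * b = b * a := fun a ha b hb =>
    (h.central' (hA₁Q ha) hb).symm
  obtain ⟨hE, hEc⟩ := elemAb_sq_of_card_prime hA₁ h.card_cpZ hne hcomm
  obtain ⟨y₁, -, y, hy, hyZ, -⟩ := h.exists_pair
  have hy1 : y ≠ 1 := fun h1 => hyZ (h1 ▸ Subgroup.one_mem _)
  have hyo : orderOf y = p := orderOf_eq_prime (h.pow_eq_one hy) hy1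
  have hcardY : Nat.card (Subgroup.zpowers y) = p := by rw [Nat.card_zpowers, hyo]
  have hyQ : y ∈ Q := h.le₁ hy
  have hcomm2 : ∀ a ∈ A₁ ⊔ cpZ P₁, ∀ b ∈ Subgroup.zpowers y, a * b = b * a := by
    intro a ha b hb
    have hbQ : b ∈ Q := Subgroup.zpowers_le.mpr hyQ hb
    have hle : A₁ ⊔ cpZ P₁ ≤ centralizer ((Q : Subgroup G) : Set G) := by
      apply sup_le
      · exact Subgroup.le_centralizer_iff.mp hcen
      · exact Subgroup.le_centralizer_iff.mp h.central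
    exact (Subgroup.mem_centralizer_iff.mp (hle ha) b hbQ).symm
  have hE2 := elemAb_sup hE (elemAb_of_card_prime hcardY) hcomm2
  have hle2 : (A₁ ⊔ cpZ P₁) ⊔ Subgroup.zpowers y ≤ Q :=
    sup_le (sup_le hA₁Q (h.cpZ_le.trans h.le₁)) (Subgroup.zpowers_le.mpr hyQ)
  have hcard2 : Nat.card ((A₁ ⊔ cpZ P₁) ⊔ Subgroup.zpowers y : Subgroup G) ≤ p ^ 2 := by
    have h1 := hr (((A₁ ⊔ cpZ P₁) ⊔ Subgroup.zpowers y).subgroupOf Q)
      ⟨⟨fun a b => Subtype.ext (Subtype.ext (by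
        have h := congrArg Subtype.val (hE2.1.is_comm.comm ⟨a.1.1, a.2⟩ ⟨b.1.1, b.2⟩)
        simpa using h))⟩⟩
      (fun a ha => Subtype.ext (by
        have := hE2.2 a.1 ha
        simpa using this))
    rwa [Nat.card_congr (Subgroup.subgroupOfEquivOfLe hle2).toEquiv] at h1
  have heq : A₁ ⊔ cpZ P₁ = (A₁ ⊔ cpZ P₁) ⊔ Subgroup.zpowers y :=
    Subgroup.eq_of_le_of_card_ge le_sup_left (by rw [hEc]; exact hcard2)
  have hyA : y ∈ A₁ ⊔ cpZ P₁ := by
    rw [heq]; exact Subgroup.mem_sup_right (Subgroup.mem_zpowers y)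
  apply hyZ
  refine ⟨hy, ?_⟩
  have hle : A₁ ⊔ cpZ P₁ ≤ centralizer ((Q : Subgroup G) : Set G) := by
    apply sup_le
    · exact Subgroup.le_centralizer_iff.mp hcen
    · exact Subgroup.le_centralizer_iff.mp h.central
  exact Subgroup.centralizer_le (by exact_mod_cast h.le₁) (hle hyA)

end Cfsg.Agent.Lib.Helper30.BG1213
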