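import Mathlib
import Cfsg.Prelude.Def_OddOrderLocal
import Cfsg.Agent.Lib.Helper30.BG1213B
import Cfsg.Agent.Lib.Helper33.PStabX1
import Cfsg.Agent.Lib.Helper24.SylowInv
import Cfsg.Agent.Lib.Helper23.FitUniqueB
import Cfsg.Agent.Lib.Helper63.BG10
import Cfsg.Agent.Lib.Helper63.PLength
import Cfsg.Agent.Lib.Helper32.Rank2PLen
import Cfsg.Agent.Lib.Helper48.CoprimeGen

/-!
# B&G 12.13, rank two: conjugacy of the noncentral subgroups of order `p` and the key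
centralizer lemma (helper30)
-/

set_option autoImplicit false

namespace Cfsg.Agent.Lib.Helper30.BG1213

open Subgroup Cfsg Cfsg.Agent.Lib.Helper33 Cfsg.Agent.Lib.Helper63
open scoped commutatorElement

variable {G : Type*} [Group G] {p : ℕ} {Q P₁ P₂ : Subgroup G}

theorem cj_zpowers' (s g : G) : cj s (Subgroup.zpowers g) = Subgroup.zpowers (s * g * s⁻¹) := by
  rw [cj, MonoidHom.map_zpowers]
  simp

/-- the subgroups of order `p` of `A₁ Z(P₁)` other than `Z(P₁)` are conjugate under `Q` -/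
theorem CP.exists_conj [Finite G] [hp : Fact p.Prime] (h : CP p Q P₁ P₂) (hr : PRankLE p 2 ↥Q)
    {A₁ A₂ : Subgroup G} (hA₁ : Nat.card A₁ = p) (hA₂ : Nat.card A₂ = p) (hA₁Q : A₁ ≤ Q)
    (hA₂le : A₂ ≤ A₁ ⊔ cpZ P₁) (hne₁ : A₁ ≠ cpZ P₁) (hne₂ : A₂ ≠ cpZ P₁) :
    ∃ g ∈ Q, cj g A₁ = A₂ := by
  have hnc := h.not_central hr hA₁ hA₁Q hne₁
  rw [SetLike.not_le_iff_exists] at hnc
  obtain ⟨h0, hh0Q, hh0⟩ := hnc
  rw [Subgroup.mem_centralizer_iff] at hh0
  push Not at hh0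
  obtain ⟨a, haA, hane⟩ := hh0
  have haA' : a ∈ A₁ := haA
  have haQ : a ∈ Q := hA₁Q haA'
  obtain ⟨z, hz⟩ : ∃ z, z = h0 * a * h0⁻¹ * a⁻¹ := ⟨_, rfl⟩
  have hzZ : z ∈ cpZ P₁ := hz ▸ h.comm_mem hh0Q haQ
  have hz1 : z ≠ 1 := by
    intro h1
    apply hane
    rw [hz] at h1
    have h2 : h0 * a * h0⁻¹ = a := mul_inv_eq_one.mp h1
    calc a * h0 = (h0 * a * h0⁻¹) * h0 := by rw [h2]
      _ = h0 * a := by group
  have ha1 : a ≠ 1 := by
    rintro rfl
    exact hane (by simp)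
  have hZgen : Subgroup.zpowers z = cpZ P₁ := zpowers_eq_of_card_prime h.card_cpZ hzZ hz1
  have hconj : ∀ n : ℕ, h0 ^ n * a * (h0 ^ n)⁻¹ = a * z ^ n := by
    intro n
    induction n with
    | zero => simp
    | succ n ih =>
      have hzn : z ^ n ∈ cpZ P₁ := (cpZ P₁).pow_mem hzZ n
      have e1 : h0 * z ^ n = z ^ n * h0 := (h.central' hh0Q hzn).symm
      have e2 : z * a = a * z := h.central' haQ hzZ
      have e3 : h0 * a * h0⁻¹ = z * a := by rw [hz]; group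
      calc h0 ^ (n + 1) * a * (h0 ^ (n + 1))⁻¹ = h0 * (h0 ^ n * a * (h0 ^ n)⁻¹) * h0⁻¹ := by
            rw [pow_succ']; group
        _ = h0 * (a * z ^ n) * h0⁻¹ := by rw [ih]
        _ = (h0 * a * h0⁻¹) * (h0 * z ^ n) * h0⁻¹ := by group
        _ = (z * a) * (z ^ n * h0) * h0⁻¹ := by rw [e3, e1]
        _ = (z * a) * z ^ n := by group
        _ = a * z * z ^ n := by rw [e2]
        _ = a * z ^ (n + 1) := by rw [pow_succ']; group
  have hcomm₁ : ∀ x ∈ A₁, ∀ b ∈ cpZ P₁, x * b = b * x := fun x hx b hb =>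
    (h.central' (hA₁Q hx) hb).symm
  obtain ⟨-, hc1⟩ := elemAb_sq_of_card_prime hA₁ h.card_cpZ hne₁ hcomm₁
  have hA₂Q : A₂ ≤ Q := hA₂le.trans (sup_le hA₁Q (h.cpZ_le.trans h.le₁))
  have hcomm₂ : ∀ x ∈ A₂, ∀ b ∈ cpZ P₁, x * b = b * x := fun x hx b hb =>
    (h.central' (hA₂Q hx) hb).symm
  obtain ⟨-, hc2⟩ := elemAb_sq_of_card_prime hA₂ h.card_cpZ hne₂ hcomm₂
  have heq : A₂ ⊔ cpZ P₁ = A₁ ⊔ cpZ P₁ :=
    Subgroup.eq_of_le_of_card_ge (sup_le hA₂le le_sup_right) (by rw [hc1, hc2])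
  have haS : a ∈ A₂ ⊔ cpZ P₁ := heq ▸ Subgroup.mem_sup_left haA'
  obtain ⟨a₂, ha₂, x, hx, hax⟩ := exists_mul_of_mem_sup_commute hcomm₂ haS
  have ha₂eq : a * x⁻¹ = a₂ := by rw [hax]; group
  have hxinv : x⁻¹ ∈ Subgroup.zpowers z := by rw [hZgen]; exact (cpZ P₁).inv_mem hx
  obtain ⟨n, hn⟩ : ∃ n : ℕ, z ^ n = x⁻¹ :=
    (Submonoid.mem_powers_iff _ _).mp ((mem_powers_iff_mem_zpowers (x := z) (y := x⁻¹)).mpr hxinv)
  refine ⟨h0 ^ n, Q.pow_mem hh0Q n, ?_⟩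
  have hnle : ¬ A₁ ≤ cpZ P₁ := by
    intro hle
    exact hne₁ (Subgroup.eq_of_le_of_card_ge hle (by rw [hA₁, h.card_cpZ]))
  have ha₂1 : a₂ ≠ 1 := by
    intro h1
    have hax' : a = x := by rw [hax, h1, one_mul]
    have hinf := inf_eq_bot_of_card_prime hA₁ hnle
    have hmem : a ∈ A₁ ⊓ cpZ P₁ := ⟨haA', hax' ▸ hx⟩
    rw [hinf, Subgroup.mem_bot] at hmem
    exact ha1 hmem
  rw [← zpowers_eq_of_card_prime hA₁ haA' ha1, cj_zpowers', hconj n, hn, ha₂eq]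
  exact zpowers_eq_of_card_prime hA₂ ha₂ ha₂1

/-- **Key lemma**: if `L` contains `N_G(Q)` and the centralizers of all `E_{p²}` of `Q`, then
`C_G(Z(P₁)) ≤ L`. -/
theorem CP.centralizer_le [Finite G] [hp : Fact p.Prime] (hG : IsMinSimpleOddOrder G)
    (h : CP p Q P₁ P₂) (hQp : IsPGroup p Q) (hQi : ¬ p ∣ Q.index) (hr : PRankLE p 2 ↥Q)
    (L : Subgroup G) (hQL : Q ≤ L) (hNL : normalizer (Q : Set G) ≤ L)
    (hCL : ∀ A : Subgroup G, A ≤ Q → IsElementaryAbelian p A → Nat.card A = p ^ 2 →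
      centralizer (A : Set G) ≤ L) :
    centralizer (cpZ P₁ : Set G) ≤ L := by
  have hpp : p.Prime := hp.out
  obtain ⟨X0, hX0⟩ : ∃ X0 : Subgroup G, X0 = cpZ P₁ := ⟨_, rfl⟩
  obtain ⟨C, hC⟩ : ∃ C : Subgroup G, C = centralizer (X0 : Set G) := ⟨_, rfl⟩
  rw [← hX0, ← hC]
  have hX0card : Nat.card X0 = p := hX0 ▸ h.card_cpZ
  have hX0ne : X0 ≠ ⊥ := by
    intro hb
    rw [hb, Subgroup.card_bot] at hX0card
    exact hpp.one_lt.ne hX0card
  have hCtop : C ≠ ⊤ := hC ▸ BG10.centralizer_ne_top hG hX0ne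
  have hsolv : Group.IsSolvable ↥C := Cfsg.Agent.Lib.Helper23.isSolvable_of_ne_top hG hCtop
  have hodd : Odd (Nat.card ↥C) := Cfsg.Agent.Lib.Helper23.odd_card_subgroup hG C
  have hQC : Q ≤ C := by rw [hC, hX0]; exact h.central
  have hX0Q : X0 ≤ Q := hX0 ▸ (h.cpZ_le.trans h.le₁)
  have hX0C : X0 ≤ C := hX0Q.trans hQC
  have hQiC : ¬ p ∣ Q.relIndex C := fun hd =>
    hQi (hd.trans (Dvd.intro _ (Subgroup.relIndex_mul_index hQC)))
  obtain ⟨S, hS⟩ := Cfsg.Agent.Lib.Helper24.exists_sylow_map_eq C Q hQC hQp hQiC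
  have hmemS : ∀ s : C, s ∈ (S : Subgroup C) → (s : G) ∈ Q := by
    intro s hs
    rw [← hS]
    exact ⟨s, hs, rfl⟩
  have hrS : PRankLE p 2 ↥(S : Subgroup C) := by
    let f : ↥(S : Subgroup C) →* ↥Q :=
      { toFun := fun s => ⟨((s : C) : G), hmemS s.1 s.2⟩
        map_one' := by apply Subtype.ext; simp
        map_mul' := by intro a b; apply Subtype.ext; simp }
    have hf : Function.Injective f := by
      intro a b hab
      have h1 : (((a : C) : G)) = ((b : C) : G) := congrArg (fun q : ↥Q => (q : G)) hab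
      exact Subtype.ext (Subtype.ext h1)
    exact BG10.pRankLE_of_injective f hf hr
  obtain ⟨-, hfac⟩ :=
    Cfsg.Agent.Lib.Helper32.Rank2.pPrimeCore_sup_normalizer_of_rank_two hodd p S hrS
  -- the quotient by `X0`
  have hX0n : (X0.subgroupOf C).Normal := ⟨fun n hn g => by
    have hg : (g : G) ∈ centralizer (X0 : Set G) := hC ▸ g.2
    have hcomm := Subgroup.mem_centralizer_iff.mp hg n.1 (Subgroup.mem_subgroupOf.mp hn)
    have : g * n * g⁻¹ = n := by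
      apply Subtype.ext
      show (g : G) * (n : G) * (g : G)⁻¹ = (n : G)
      rw [← hcomm, mul_inv_cancel_right]
    rw [this]; exact hn⟩
  have hYn : (pPrimeCore p ↥C).Normal := Subgroup.sSup_normal _ (fun _ h => h.1)
  have hYcop : (Nat.card (pPrimeCore p ↥C)).Coprime p :=
    Cfsg.Agent.Lib.Helper63.pPrimeCore_card_coprime' p
  have hX0'card : Nat.card (X0.subgroupOf C) = p := by
    rw [Nat.card_congr (Subgroup.subgroupOfEquivOfLe hX0C).toEquiv, hX0card]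
  have htriv : pPrimeCore p ↥C ⊓ X0.subgroupOf C = ⊥ :=
    Subgroup.inf_eq_bot_of_coprime (by rw [hX0'card]; exact hYcop)
  obtain ⟨y₁, hy₁, y₂, hy₂, hy₂Z, hy₁H⟩ := h.exists_pair
  have hy₁C : y₁ ∈ C := hQC (h.le₁ hy₁)
  have hy₂C : y₂ ∈ C := hQC (h.le₁ hy₂)
  obtain ⟨π, hπ⟩ : ∃ π : ↥C →* ↥C ⧸ X0.subgroupOf C, π = QuotientGroup.mk' (X0.subgroupOf C) :=
    ⟨_, rfl⟩
  have hπsurj : Function.Surjective π := hπ ▸ QuotientGroup.mk'_surjective _
  have hπone : ∀ c : C, π c = 1 ↔ c ∈ X0.subgroupOf C := by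
    intro c
    rw [hπ]
    exact QuotientGroup.eq_one_iff c
  have hKn : ((pPrimeCore p ↥C).map π).Normal := hYn.map π hπsurj
  have hK : ¬ p ∣ Nat.card ((pPrimeCore p ↥C).map π) := by
    intro hd
    have h1 : p ∣ Nat.card (pPrimeCore p ↥C) := hd.trans (Subgroup.card_map_dvd _ _)
    have h2 := Nat.dvd_gcd h1 (dvd_refl p)
    rw [show (Nat.card (pPrimeCore p ↥C)).gcd p = 1 from hYcop] at h2
    exact hpp.one_lt.ne' (Nat.dvd_one.mp h2)
  have ha : π ⟨y₁, hy₁C⟩ ^ p = 1 := by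
    rw [← map_pow]
    have : (⟨y₁, hy₁C⟩ : C) ^ p = 1 := Subtype.ext (by simpa using h.pow_eq_one hy₁)
    rw [this, map_one]
  have hb : π ⟨y₂, hy₂C⟩ ^ p = 1 := by
    rw [← map_pow]
    have : (⟨y₂, hy₂C⟩ : C) ^ p = 1 := Subtype.ext (by simpa using h.pow_eq_one hy₂)
    rw [this, map_one]
  have hab : π ⟨y₁, hy₁C⟩ * π ⟨y₂, hy₂C⟩ = π ⟨y₂, hy₂C⟩ * π ⟨y₁, hy₁C⟩ := by
    rw [← map_mul, ← map_mul, ← mul_inv_eq_one, ← map_inv, ← map_mul, hπone,
      Subgroup.mem_subgroupOf]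
    have := h.comm_mem (h.le₁ hy₁) (h.le₁ hy₂)
    rw [hX0]
    simpa [mul_assoc] using this
  have hgen := Cfsg.Agent.Lib.Helper48.coprime_gen ((pPrimeCore p ↥C).map π)
    (π ⟨y₁, hy₁C⟩) (π ⟨y₂, hy₂C⟩) ha hb hab hK
  have hle : Cfsg.Agent.Lib.Helper48.genSub ((pPrimeCore p ↥C).map π)
      (π ⟨y₁, hy₁C⟩) (π ⟨y₂, hy₂C⟩) ≤ (L.subgroupOf C).map π := by
    unfold Cfsg.Agent.Lib.Helper48.genSub
    apply iSup₂_le
    intro c hc
    obtain ⟨c0, hc0, rfl⟩ := Cfsg.Agent.Lib.Helper48.exists_of_mem_genSet_map π hc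
    intro k hk
    obtain ⟨hk1, hk2⟩ := Subgroup.mem_inf.mp hk
    obtain ⟨y, hyY, rfl⟩ := hk1
    rw [Subgroup.mem_centralizer_singleton_iff] at hk2
    have hyc : y⁻¹ * (c0 * y * c0⁻¹) ∈ X0.subgroupOf C := by
      rw [← hπone]
      simp only [map_mul, map_inv]
      rw [← hk2]; group
    have hyc2 : y⁻¹ * (c0 * y * c0⁻¹) ∈ pPrimeCore p ↥C :=
      (pPrimeCore p ↥C).mul_mem ((pPrimeCore p ↥C).inv_mem hyY) (hYn.conj_mem y hyY c0)
    have hone : y⁻¹ * (c0 * y * c0⁻¹) = 1 := by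
      have : y⁻¹ * (c0 * y * c0⁻¹) ∈ pPrimeCore p ↥C ⊓ X0.subgroupOf C := ⟨hyc2, hyc⟩
      rwa [htriv, Subgroup.mem_bot] at this
    have hycomm : (y : G) * (c0 : G) = (c0 : G) * (y : G) := by
      have h1 : c0 * y * c0⁻¹ = y := by
        have := inv_mul_eq_one.mp hone
        exact this.symm
      have h2 : c0 * y = y * c0 := by
        calc c0 * y = (c0 * y * c0⁻¹) * c0 := by group
          _ = y * c0 := by rw [h1]
      exact (congrArg Subtype.val h2).symm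
    have hc0P : (c0 : G) ∈ P₁ ∧ (c0 : G) ∉ cpZ P₁ := by
      rcases hc0 with rfl | ⟨n, rfl⟩
      · exact ⟨hy₂, hy₂Z⟩
      · refine ⟨?_, ?_⟩
        · show y₁ * y₂ ^ n ∈ P₁
          exact P₁.mul_mem hy₁ (P₁.pow_mem hy₂ n)
        · intro hmem
          have hmem' : y₁ * y₂ ^ n ∈ cpZ P₁ := hmem
          apply hy₁H
          have : y₁ = (y₁ * y₂ ^ n) * (y₂ ^ n)⁻¹ := by group
          rw [this]
          exact Subgroup.mul_mem _ (Subgroup.mem_sup_left hmem')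
            (Subgroup.mem_sup_right (Subgroup.inv_mem _ (Subgroup.pow_mem _
              (Subgroup.mem_zpowers y₂) n)))
    obtain ⟨hE, hEc, hEQ⟩ := h.elemAb_sq hc0P.1 hc0P.2
    have hcl := hCL _ hEQ hE hEc
    have hyL : (y : G) ∈ L := by
      apply hcl
      rw [Subgroup.mem_centralizer_iff]
      have hsub : Subgroup.zpowers (c0 : G) ⊔ cpZ P₁ ≤ centralizer ({(y : G)} : Set G) := by
        apply sup_le
        · rw [Subgroup.zpowers_le, Subgroup.mem_centralizer_singleton_iff]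
          exact hycomm.symm
        · intro z hz
          rw [Subgroup.mem_centralizer_singleton_iff]
          have hyC : (y : G) ∈ centralizer (X0 : Set G) := hC ▸ y.2
          exact Subgroup.mem_centralizer_iff.mp hyC z (hX0 ▸ hz)
      intro g hg
      exact Subgroup.mem_centralizer_singleton_iff.mp (hsub hg)
    exact ⟨y, Subgroup.mem_subgroupOf.mpr hyL, rfl⟩
  have hgoal : (⊤ : Subgroup C) ≤ L.subgroupOf C := by
    rw [← hfac]
    apply sup_le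
    · intro y hy
      have h1 : π y ∈ (L.subgroupOf C).map π := hle (hgen ⟨y, hy, rfl⟩)
      obtain ⟨l, hl, hly⟩ := h1
      have h2 : l⁻¹ * y ∈ X0.subgroupOf C := by
        rw [← hπone, map_mul, map_inv, hly, inv_mul_cancel]
      have h3 : ((l⁻¹ * y : C) : G) ∈ L := hQL (hX0Q (Subgroup.mem_subgroupOf.mp h2))
      rw [Subgroup.mem_subgroupOf]
      have h4 : (y : G) = (l : G) * ((l⁻¹ * y : C) : G) := by
        simp
      rw [h4]
      exact L.mul_mem (Subgroup.mem_subgroupOf.mp hl) h3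
    · intro n hn
      rw [Subgroup.mem_subgroupOf]
      apply hNL
      apply mem_normalizer_of_cj_le
      intro x hx
      obtain ⟨q, hq, rfl⟩ := mem_cj'.mp hx
      rw [← hS] at hq
      obtain ⟨s, hs, rfl⟩ := hq
      have h1 : n * s * n⁻¹ ∈ (S : Subgroup C) :=
        (Subgroup.mem_normalizer_iff.mp hn s).mp hs
      have h2 := hmemS _ h1
      simpa using h2
  intro c hc
  have := hgoal (Subgroup.mem_top (⟨c, hc⟩ : C))
  exact Subgroup.mem_subgroupOf.mp this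

end Cfsg.Agent.Lib.Helper30.BG1213
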