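import Mathlib
import Cfsg.Prelude.Def_OddOrderLocal
import Cfsg.Agent.Lib.Helper30.BG1213C
import Cfsg.Agent.Lib.Helper33.Control
import Cfsg.Agent.Lib.Helper24.Coprime
import Cfsg.Agent.Lib.Helper64.BG1213

/-!
# B&G 12.13, rank two: a nonabelian Sylow `p`-subgroup of rank two lies in a unique maximal
subgroup (helper30).  Statements S1350, S1404, S1412, S1416, S1417 enter as hypotheses.
-/

set_option autoImplicit false

namespace Cfsg.Agent.Lib.Helper30.BG1213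

open Subgroup Cfsg Cfsg.Agent.Lib.Helper33 Cfsg.Agent.Lib.Helper63 Cfsg.Agent.Lib.Helper24

universe u

variable {G : Type u} [Group G] [Finite G]

/-- The part of statement S1350 that is used. -/
def Hyp50 (G : Type u) [Group G] : Prop :=
  ∀ M : Subgroup G, IsCoatom M →
    IsPiHallOf (sigma M) (sigmaCore M) M ∧ IsPiHall (sigma M) (sigmaCore M)

/-- The part of statement S1404 that is used. -/
def Hyp04 (G : Type u) [Group G] : Prop :=
  ∀ M : Subgroup G, IsCoatom M → ∀ (p : ℕ) [Fact p.Prime], p ∈ sigma M →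
    ∀ X : Subgroup G, IsPGroup p X → X ≠ ⊥ → X ≤ M →
      normalizer (X : Set G) = (M ⊓ normalizer (X : Set G)) ⊔ centralizer (X : Set G)

/-- Statement S1412. -/
def Hyp12 (G : Type u) [Group G] : Prop :=
  ∀ (p : ℕ) [Fact p.Prime] (P : Sylow p G), PRankLE p 2 (P : Subgroup G) →
    IsMulCommutative (P : Subgroup G) ∨ ∃ P₁ P₂ : Subgroup G, P₁ ⊔ P₂ = (P : Subgroup G) ∧
      (∀ a ∈ P₁, ∀ b ∈ P₂, a * b = b * a) ∧ ¬ IsMulCommutative P₁ ∧ Nat.card P₁ = p ^ 3 ∧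
      Monoid.exponent P₁ = p ∧ IsCyclic P₂ ∧
      Subgroup.closure {x : G | x ∈ P₂ ∧ x ^ p = 1} = P₁ ⊓ Subgroup.centralizer (P₁ : Set G)

/-- Statement S1416. -/
def Hyp16 (G : Type u) [Group G] : Prop :=
  ∀ M : Subgroup G, IsCoatom M → ∀ (p : ℕ) [Fact p.Prime] (A : Subgroup G),
    (A ≤ M ∧ IsElementaryAbelian p A ∧ Nat.card A = p ^ 2) →
    centralizer (A : Set G) ≤ M ∧
      ((∀ A₀ : Subgroup G, A₀ ≤ A → Nat.card A₀ = p →
          ¬ (normalizer (A₀ : Set G) ≤ M ∧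
            ∀ L : Subgroup G, IsCoatom L → normalizer (A₀ : Set G) ≤ L → L = M)) →
        p ∈ sigma M ∧ alphaCore M = ⊥ ∧ Group.IsNilpotent (sigmaCore M))

/-- The part of statement S1417 that is used. -/
def Hyp17 (G : Type u) [Group G] : Prop :=
  ∀ M : Subgroup G, IsCoatom M → ∀ (p : ℕ) [Fact p.Prime], p ∈ tau2 M →
    ∀ A : Subgroup G, (A ≤ M ∧ IsElementaryAbelian p A ∧ Nat.card A = p ^ 2) →
    ∀ P : Sylow p M, IsMulCommutative (P : Subgroup M)

/-- for `p ∈ σ(L)`, the normalizer of a Sylow `p`-subgroup of `G` inside `L` lies in `L` -/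
theorem normalizer_le_of_mem_sigma {L Q : Subgroup G} {p : ℕ} [Fact p.Prime] (hp : p ∈ sigma L)
    (hQL : Q ≤ L) (hQp : IsPGroup p Q) (hQi : ¬ p ∣ Q.index) : normalizer (Q : Set G) ≤ L := by
  obtain ⟨S, hN⟩ := hp.2.2
  obtain ⟨hUL, hUp, hUi⟩ := sylow_map_facts L S
  have hQiL : ¬ p ∣ Q.relIndex L := fun hd =>
    hQi (hd.trans (Dvd.intro _ (Subgroup.relIndex_mul_index hQL)))
  obtain ⟨c, hc, hcU⟩ := sylow_sub_eq hUL hUp hUi hQL hQp hQiL
  rw [← hcU, normalizer_cj]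
  calc cj c (normalizer (((S : Subgroup L).map L.subtype : Subgroup G) : Set G)) ≤ cj c L :=
        cj_mono hN
    _ = L := cj_eq_self_of_mem hc

/-- a Sylow `p`-subgroup of `M_σ`, `p ∈ σ(M)`, is a Sylow `p`-subgroup of `G` -/
theorem sylow_sigmaCore_facts {M : Subgroup G} {p : ℕ} [Fact p.Prime] (hp : p ∈ sigma M)
    (hHall : IsPiHall (sigma M) (sigmaCore M)) (P : Sylow p ↥(sigmaCore M)) :
    IsPGroup p ((P : Subgroup ↥(sigmaCore M)).map (sigmaCore M).subtype) ∧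
      ¬ p ∣ ((P : Subgroup ↥(sigmaCore M)).map (sigmaCore M).subtype).index ∧
      (P : Subgroup ↥(sigmaCore M)).map (sigmaCore M).subtype ≤ sigmaCore M := by
  obtain ⟨h1, h2, h3⟩ := sylow_map_facts (sigmaCore M) P
  refine ⟨h2, ?_, h1⟩
  rw [← Subgroup.relIndex_mul_index h1]
  intro hd
  rcases (Nat.Prime.dvd_mul hp.1).mp hd with h | h
  · exact h3 h
  · exact hHall.2 p hp.1 hp h

/-- conclusion of 12.13 from a uniqueness subgroup `K ≤ Q ∩ C_G(X)` -/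
theorem finish_of_uniq (hG : IsMinSimpleOddOrder G) {M Q X K : Subgroup G} (hM : IsCoatom M)
    (hQM : Q ≤ M) (hX1 : X ≠ ⊥) (hK : InUniqueMaximal K) (hKQ : K ≤ Q)
    (hKC : K ≤ centralizer (X : Set G)) :
    (centralizer (X : Set G) ≤ M ∧
      ∀ L : Subgroup G, IsCoatom L → centralizer (X : Set G) ≤ L → L = M) ∧
      InUniqueMaximal Q := by
  have hKM : K ≤ M := hKQ.trans hQM
  have huniq : ∀ L : Subgroup G, IsCoatom L → K ≤ L → L = M := by
    intro L hL hKL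
    obtain ⟨M₀, _, hu⟩ := hK
    rw [hu L ⟨hL, hKL⟩, hu M ⟨hM, hKM⟩]
  refine ⟨⟨BG10.le_of_inUniqueMaximal hK hM hKM (BG10.centralizer_ne_top hG hX1) hKC,
    fun L hL hCL => huniq L hL (hKC.trans hCL)⟩, ?_⟩
  exact ⟨M, ⟨hM, hQM⟩, fun L hL => huniq L hL.1 (hKQ.trans hL.2)⟩

/-- **Theorem T**: a nonabelian Sylow `p`-subgroup of rank two of `G` lies in a unique maximal
subgroup, and its derived group is central. -/
theorem sylow_rank_two_uniq (hG : IsMinSimpleOddOrder G) (h50 : Hyp50 G) (h04 : Hyp04 G)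
    (h12 : Hyp12 G) (h16 : Hyp16 G) (h17 : Hyp17 G) {p : ℕ} [hpf : Fact p.Prime]
    (S : Sylow p G) (hr : PRankLE p 2 ↥(S : Subgroup G))
    (hna : ¬ IsMulCommutative ↥(S : Subgroup G)) :
    InUniqueMaximal (S : Subgroup G) ∧
      ⁅(S : Subgroup G), (S : Subgroup G)⁆ ≤ centralizer (((S : Subgroup G)) : Set G) := by
  have hpp : p.Prime := hpf.out
  obtain ⟨Q, hQ⟩ : ∃ Q : Subgroup G, Q = (S : Subgroup G) := ⟨_, rfl⟩
  have hQp : IsPGroup p Q := hQ ▸ S.2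
  have hQi : ¬ p ∣ Q.index := hQ ▸ S.not_dvd_index
  have hrQ : PRankLE p 2 ↥Q := hQ ▸ hr
  have hnaQ : ¬ IsMulCommutative ↥Q := hQ ▸ hna
  rcases h12 p S hr with hab | ⟨P₁, P₂, hsup, hcomm, hna1, hcard, hexp, hcyc, -⟩
  · exact absurd hab hna
  have hcp : CP p Q P₁ P₂ := ⟨hQ ▸ hsup, hcomm, hna1, hcard, hexp, hcyc⟩
  rw [← hQ]
  have hder : ⁅Q, Q⁆ ≤ centralizer (Q : Set G) := by
    rw [Subgroup.commutator_le]
    intro g hg k hk
    have h1 := hcp.comm_mem hg hk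
    have h2 : cpZ P₁ ≤ centralizer (Q : Set G) := Subgroup.le_centralizer_iff.mp hcp.central
    exact h2 h1
  refine ⟨?_, hder⟩
  have hQtop : Q ≠ ⊤ := Cfsg.Agent.Lib.Helper64.ne_top_of_isPGroup hG hQp
  obtain ⟨y₁, -, y, hy, hyZ, -⟩ := hcp.exists_pair
  obtain ⟨hA'e, hA'c, hA'Q⟩ := hcp.elemAb_sq hy hyZ
  obtain ⟨A', hA'⟩ : ∃ A' : Subgroup G, A' = Subgroup.zpowers y ⊔ cpZ P₁ := ⟨_, rfl⟩
  rw [← hA'] at hA'e hA'c hA'Q
  have hZA' : cpZ P₁ ≤ A' := hA' ▸ le_sup_right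
  have hZp : IsPGroup p (cpZ P₁) := hQp.to_le (hcp.cpZ_le.trans hcp.le₁)
  have hZ1 : cpZ P₁ ≠ ⊥ := by
    intro hb
    have := hcp.card_cpZ
    rw [hb, Subgroup.card_bot] at this
    exact hpp.one_lt.ne this
  -- facts about every maximal subgroup containing `Q`
  have T1 : ∀ L : Subgroup G, IsCoatom L → Q ≤ L →
      normalizer (Q : Set G) ≤ L ∧ normalizer (cpZ P₁ : Set G) ≤ L ∧
      (L ≤ normalizer (Q : Set G) ∨ ∃ A₀ : Subgroup G, A₀ ≤ A' ∧ Nat.card A₀ = p ∧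
        (normalizer (A₀ : Set G) ≤ L ∧
          ∀ L' : Subgroup G, IsCoatom L' → normalizer (A₀ : Set G) ≤ L' → L' = L)) := by
    intro L hL hQL
    have hQiL : ¬ p ∣ Q.relIndex L := fun hd =>
      hQi (hd.trans (Dvd.intro _ (Subgroup.relIndex_mul_index hQL)))
    obtain ⟨SL, hSL⟩ := exists_sylow_map_eq L Q hQL hQp hQiL
    have hmemSL : ∀ s : L, s ∈ (SL : Subgroup L) → (s : G) ∈ Q := by
      intro s hs
      rw [← hSL]
      exact ⟨s, hs, rfl⟩
    have hA'L : A' ≤ L := hA'Q.trans hQL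
    have hσ : p ∈ sigma L := by
      by_contra hσ
      have hr2 : PRankLE p 2 ↥L := by
        apply BG10.pRankLE_of_sylow p SL
        let f : ↥(SL : Subgroup L) →* ↥Q :=
          { toFun := fun s => ⟨((s : L) : G), hmemSL s.1 s.2⟩
            map_one' := by apply Subtype.ext; simp
            map_mul' := by intro a b; apply Subtype.ext; simp }
        have hf : Function.Injective f := by
          intro a b hab
          have h1 : (((a : L) : G)) = ((b : L) : G) := congrArg (fun q : ↥Q => (q : G)) hab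
          exact Subtype.ext (Subtype.ext h1)
        exact BG10.pRankLE_of_injective f hf hrQ
      have hr1 : ¬ PRankLE p 1 ↥L := by
        intro h1
        have h2 := BG10.card_le_of_pRankLE h1 hA'L hA'e
        rw [hA'c, pow_one] at h2
        have : p ^ 1 < p ^ 2 := Nat.pow_lt_pow_right hpp.one_lt (by norm_num)
        rw [pow_one] at this
        omega
      have hτ : p ∈ tau2 L := ⟨hpp, hσ, hr2, hr1⟩
      have hSc := h17 L hL p hτ A' ⟨hA'L, hA'e, hA'c⟩ SL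
      apply hnaQ
      refine ⟨⟨fun a b => ?_⟩⟩
      have ha : (⟨a.1, hQL a.2⟩ : L) ∈ (SL : Subgroup L) := by
        have h1 : (a : G) ∈ (SL : Subgroup L).map L.subtype := hSL ▸ a.2
        obtain ⟨s, hs, hsa⟩ := h1
        have : s = ⟨a.1, hQL a.2⟩ := Subtype.ext hsa
        rwa [← this]
      have hb : (⟨b.1, hQL b.2⟩ : L) ∈ (SL : Subgroup L) := by
        have h1 : (b : G) ∈ (SL : Subgroup L).map L.subtype := hSL ▸ b.2
        obtain ⟨s, hs, hsb⟩ := h1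
        have : s = ⟨b.1, hQL b.2⟩ := Subtype.ext hsb
        rwa [← this]
      have := hSc.is_comm.comm ⟨_, ha⟩ ⟨_, hb⟩
      apply Subtype.ext
      simpa using congrArg (fun z : (SL : Subgroup L) => ((z : L) : G)) this
    have hNL : normalizer (Q : Set G) ≤ L := normalizer_le_of_mem_sigma hσ hQL hQp hQi
    have hCL : ∀ A : Subgroup G, A ≤ Q → IsElementaryAbelian p A → Nat.card A = p ^ 2 →
        centralizer (A : Set G) ≤ L := fun A hAQ hAe hAc =>
      (h16 L hL p A ⟨hAQ.trans hQL, hAe, hAc⟩).1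
    have hCX : centralizer (cpZ P₁ : Set G) ≤ L :=
      hcp.centralizer_le hG hQp hQi hrQ L hQL hNL hCL
    have hNX : normalizer (cpZ P₁ : Set G) ≤ L := by
      rw [h04 L hL p hσ (cpZ P₁) hZp hZ1 ((hcp.cpZ_le.trans hcp.le₁).trans hQL)]
      exact sup_le inf_le_left hCX
    refine ⟨hNL, hNX, ?_⟩
    by_cases hex : ∃ A₀ : Subgroup G, A₀ ≤ A' ∧ Nat.card A₀ = p ∧
        (normalizer (A₀ : Set G) ≤ L ∧
          ∀ L' : Subgroup G, IsCoatom L' → normalizer (A₀ : Set G) ≤ L' → L' = L)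
    · exact Or.inr hex
    · left
      have hall : ∀ A₀ : Subgroup G, A₀ ≤ A' → Nat.card A₀ = p →
          ¬ (normalizer (A₀ : Set G) ≤ L ∧
            ∀ L' : Subgroup G, IsCoatom L' → normalizer (A₀ : Set G) ≤ L' → L' = L) :=
        fun A₀ h1 h2 h3 => hex ⟨A₀, h1, h2, h3⟩
      obtain ⟨-, -, hnil⟩ := (h16 L hL p A' ⟨hA'L, hA'e, hA'c⟩).2 hall
      obtain ⟨hHall, -⟩ := h50 L hL
      have hQσ : Q ≤ sigmaCore L :=
        Cfsg.Agent.Lib.Helper64.le_of_isPGroup_of_not_dvd_relIndex hHall.1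
          (Cfsg.Agent.Lib.Helper24.BG.le_normalizer_sigmaCore L) hQL hQp (hHall.2.2 p hpp hσ)
      have hQiK : ¬ p ∣ Q.relIndex (sigmaCore L) := fun hd =>
        hQi (hd.trans (Dvd.intro _ (Subgroup.relIndex_mul_index hQσ)))
      obtain ⟨SK, hSK⟩ := exists_sylow_map_eq (sigmaCore L) Q hQσ hQp hQiK
      have hnil' : Group.IsNilpotent ↥(sigmaCore L) := hnil
      have hSKn : (SK : Subgroup ↥(sigmaCore L)).Normal := inferInstance
      have hSKc : (SK : Subgroup ↥(sigmaCore L)).Characteristic :=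
        Sylow.characteristic_of_normal SK hSKn
      have := normalizer_le_normalizer_map_of_characteristic (sigmaCore L)
        (SK : Subgroup ↥(sigmaCore L))
      rw [hSK] at this
      exact (Cfsg.Agent.Lib.Helper24.BG.le_normalizer_sigmaCore L).trans this
  obtain ⟨M₀, hM₀, hQM₀⟩ := Cfsg.Agent.Lib.Helper64.BG9.exists_coatom_ge hQtop
  refine ⟨M₀, ⟨hM₀, hQM₀⟩, ?_⟩
  rintro L ⟨hL, hQL⟩
  obtain ⟨hNM, hXM, hcaseM⟩ := T1 M₀ hM₀ hQM₀
  obtain ⟨hNL, hXL, hcaseL⟩ := T1 L hL hQL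
  have heq_of_le : ∀ {A B : Subgroup G}, IsCoatom A → IsCoatom B → A ≤ B → A = B := by
    intro A B hA hB hAB
    rcases hA.le_iff.mp hAB with h | h
    · exact absurd h hB.1
    · exact h.symm
  rcases hcaseL with hLn | ⟨A_L, hA_L, hA_Lc, hgoodL⟩
  · exact heq_of_le hL hM₀ (hLn.trans hNM)
  rcases hcaseM with hMn | ⟨A_M, hA_M, hA_Mc, hgoodM⟩
  · exact (heq_of_le hM₀ hL (hMn.trans hNL)).symm
  by_cases hAMZ : A_M = cpZ P₁
  · rw [hAMZ] at hgoodM
    exact hgoodM.2 L hL hXL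
  by_cases hALZ : A_L = cpZ P₁
  · rw [hALZ] at hgoodL
    exact (hgoodL.2 M₀ hM₀ hXM).symm
  -- both noncentral: conjugate under `Q`
  have hA_MQ : A_M ≤ Q := hA_M.trans hA'Q
  have hnle : ¬ A_M ≤ cpZ P₁ := by
    intro hle
    exact hAMZ (Subgroup.eq_of_le_of_card_ge hle (by rw [hA_Mc, hcp.card_cpZ]))
  have hcommM : ∀ x ∈ A_M, ∀ b ∈ cpZ P₁, x * b = b * x := fun x hx b hb =>
    (hcp.central' (hA_MQ hx) hb).symm
  obtain ⟨-, hcM⟩ := elemAb_sq_of_card_prime hA_Mc hcp.card_cpZ hAMZ hcommM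
  have hsupM : A_M ⊔ cpZ P₁ = A' :=
    Subgroup.eq_of_le_of_card_ge (sup_le hA_M hZA') (by rw [hcM, hA'c])
  obtain ⟨g, hgQ, hg⟩ := hcp.exists_conj hrQ hA_Mc hA_Lc hA_MQ (hsupM ▸ hA_L) hAMZ hALZ
  have h1 : normalizer (A_L : Set G) ≤ M₀ := by
    rw [← hg, normalizer_cj]
    calc cj g (normalizer (A_M : Set G)) ≤ cj g M₀ := cj_mono hgoodM.1
      _ = M₀ := cj_eq_self_of_mem (hQM₀ hgQ)
  exact (hgoodL.2 M₀ hM₀ h1).symm

end Cfsg.Agent.Lib.Helper30.BG1213
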