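import Mathlib
import Cfsg.Prelude.Def_OddOrderLocal
import Cfsg.Agent.Lib.Helper30.BG1213D
import Cfsg.Agent.Lib.Helper63.ProdCard

/-!
# B&G Lemma 12.13 (statement S1423) from the statements S1350, S1403, S1404, S1412, S1414,
S1416, S1417 as hypotheses (helper30)
-/

set_option autoImplicit false

namespace Cfsg.Agent.Lib.Helper30.BG1213

open Subgroup Cfsg Cfsg.Agent.Lib.Helper33 Cfsg.Agent.Lib.Helper63 Cfsg.Agent.Lib.Helper24

universe u

variable {G : Type u} [Group G] [Finite G]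

/-- The part of statement S1414 that is used. -/
def Hyp14 (G : Type u) [Group G] : Prop :=
  ∀ M : Subgroup G, IsCoatom M → ∀ p : ℕ, p.Prime → p ∣ Nat.card M → p ∉ beta M →
    HasNormalPComplement p ↥(sigmaCore M)

/-- conclusion of 12.13 from an elementary abelian subgroup of order `> p²` of `Q ∩ C_G(X)` -/
theorem finish_of_elemAb (hG : IsMinSimpleOddOrder G) (hU : BG10.UniqStmt G)
    {M Q X B : Subgroup G} (hM : IsCoatom M) {p : ℕ} [hpf : Fact p.Prime] (hQp : IsPGroup p Q)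
    (hQM : Q ≤ M) (hX1 : X ≠ ⊥) (hBQ : B ≤ Q) (hB : IsElementaryAbelian p B)
    (hBc : p ^ 2 < Nat.card B) (hBC : B ≤ centralizer (X : Set G)) :
    (centralizer (X : Set G) ≤ M ∧
      ∀ L : Subgroup G, IsCoatom L → centralizer (X : Set G) ≤ L → L = M) ∧
      InUniqueMaximal Q := by
  have hQtop : Q ≠ ⊤ := Cfsg.Agent.Lib.Helper64.ne_top_of_isPGroup hG hQp
  have hBtop : B ≠ ⊤ := fun h => hQtop (top_le_iff.mp (h ▸ hBQ))
  have hp1 : p < Nat.card B := by
    have : p ^ 1 ≤ p ^ 2 := Nat.pow_le_pow_right hpf.out.pos (by norm_num)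
    rw [pow_one] at this
    omega
  have hK : InUniqueMaximal B := hU B hBtop (BG10.not_rankLE_one_of_elemAb hB le_rfl hp1)
    (Or.inl (BG10.not_rankLE_two_of_elemAb hB le_rfl hBc))
  exact finish_of_uniq hG hM hQM hX1 hK hBQ hBC

/-- 12.13 when `X` lies in the given Sylow subgroup -/
theorem bg1213_of_le (hG : IsMinSimpleOddOrder G) (hU : BG10.UniqStmt G) (h50 : Hyp50 G)
    (h04 : Hyp04 G) (h12 : Hyp12 G) (h14 : Hyp14 G) (h16 : Hyp16 G) (h17 : Hyp17 G)
    {M : Subgroup G} (hM : IsCoatom M) {p : ℕ} [hpf : Fact p.Prime] (hp : p ∈ sigma M)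
    {X : Subgroup G} (hX : Nat.card X = p) (P : Sylow p ↥(sigmaCore M))
    (hXP : X ≤ (P : Subgroup ↥(sigmaCore M)).map (sigmaCore M).subtype)
    (h : p ∈ beta M ∨ X ≤ ⁅sigmaCore M, sigmaCore M⁆) :
    (centralizer (X : Set G) ≤ M ∧
      ∀ L : Subgroup G, IsCoatom L → centralizer (X : Set G) ≤ L → L = M) ∧
      InUniqueMaximal ((P : Subgroup ↥(sigmaCore M)).map (sigmaCore M).subtype) := by
  have hpp : p.Prime := hpf.out
  obtain ⟨hHallM, hHall⟩ := h50 M hM
  obtain ⟨hQp, hQi, hQσ⟩ := sylow_sigmaCore_facts hp hHall P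
  obtain ⟨Q, hQ⟩ : ∃ Q : Subgroup G,
      Q = (P : Subgroup ↥(sigmaCore M)).map (sigmaCore M).subtype := ⟨_, rfl⟩
  rw [← hQ] at hQp hQi hQσ hXP ⊢
  have hQM : Q ≤ M := hQσ.trans hHallM.1
  have hX1 : X ≠ ⊥ := by
    intro hb
    rw [hb, Subgroup.card_bot] at hX
    exact hpp.one_lt.ne hX
  obtain ⟨S, hS⟩ : ∃ S : Sylow p G, (S : Subgroup G) = Q := ⟨hQp.toSylow hQi, rfl⟩
  -- a generator of `X`
  obtain ⟨x, hxX, hx1⟩ : ∃ x ∈ X, x ≠ 1 := by
    by_contra hcon
    push Not at hcon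
    exact hX1 ((Subgroup.eq_bot_iff_forall X).mpr hcon)
  have hXgen : Subgroup.zpowers x = X := zpowers_eq_of_card_prime hX hxX hx1
  have hxp : x ^ p = 1 := (elemAb_of_card_prime hX).2 x hxX
  by_cases hβ : p ∈ beta M
  · -- an ideal prime
    obtain ⟨-, -, hI2, hI3⟩ := hβ
    have hrQ : ¬ PRankLE p 2 ↥Q := by
      intro hr
      apply hI2
      apply BG10.pRankLE_of_sylow p S
      rw [hS]; exact hr
    have hrQ1 : ¬ PRankLE p 1 ↥Q := by
      intro hr
      apply hrQ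
      intro A hAc hAe
      have h1 := hr A hAc hAe
      have : p ^ 1 ≤ p ^ 2 := Nat.pow_le_pow_right hpp.pos (by norm_num)
      omega
    have hX' : Nat.card (X.subgroupOf Q) = p := by
      rw [Nat.card_congr (Subgroup.subgroupOfEquivOfLe hXP).toEquiv, hX]
    obtain ⟨A, hAe, hAc, hXA⟩ := BG10.exists_elemAb_sq_ge hQp hrQ1 (X.subgroupOf Q) hX'
    have hAS : A.map Q.subtype ≤ (S : Subgroup G) := hS ▸ Subgroup.map_subtype_le A
    have hAcard : Nat.card (A.map Q.subtype) = p ^ 2 := by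
      rw [Subgroup.card_map_of_injective Q.subtype_injective, hAc]
    obtain ⟨B, hBS, hBe, hAB⟩ := hI3 S (A.map Q.subtype) hAS (BG10.map_elemAb Q.subtype hAe) hAcard
    have hBQ : B ≤ Q := hS ▸ hBS
    have hBc : p ^ 2 < Nat.card B := by
      by_contra hge
      push Not at hge
      have := Subgroup.eq_of_le_of_card_ge hAB.le (by rw [hAcard]; exact hge)
      exact hAB.ne this
    have hXB : X ≤ B := by
      intro y hy
      apply hAB.le
      exact ⟨⟨y, hXP hy⟩, hXA (Subgroup.mem_subgroupOf.mpr hy), rfl⟩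
    exact finish_of_elemAb hG hU hM hQp hQM hX1 hBQ hBe hBc (BG10.le_centralizer_of_elemAb hXB hBe)
  · have hXder : X ≤ ⁅sigmaCore M, sigmaCore M⁆ := h.resolve_left hβ
    have hdvd : p ∣ Nat.card M := hp.2.1
    obtain ⟨S₀, N, hNn, hNc⟩ := h14 M hM p hpp hdvd hβ
    -- `N` is also a complement of `P`
    have hcardSP : Nat.card (S₀ : Subgroup ↥(sigmaCore M)) =
        Nat.card (P : Subgroup ↥(sigmaCore M)) := by
      rw [Sylow.card_eq_multiplicity, Sylow.card_eq_multiplicity]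
    have hmul : Nat.card N * Nat.card (S₀ : Subgroup ↥(sigmaCore M)) =
        Nat.card ↥(sigmaCore M) := hNc.card_mul_card
    have hNidx : Nat.card N = (S₀ : Subgroup ↥(sigmaCore M)).index := by
      have h1 := Subgroup.card_mul_index (S₀ : Subgroup ↥(sigmaCore M))
      have hpos : 0 < Nat.card (S₀ : Subgroup ↥(sigmaCore M)) := Nat.card_pos
      have h2 : Nat.card (S₀ : Subgroup ↥(sigmaCore M)) * Nat.card N =
          Nat.card (S₀ : Subgroup ↥(sigmaCore M)) * (S₀ : Subgroup ↥(sigmaCore M)).index := by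
        rw [h1, mul_comm, hmul]
      exact Nat.eq_of_mul_eq_mul_left hpos h2
    have hNcop : (Nat.card N).Coprime p := by
      rw [Nat.coprime_comm, Nat.Prime.coprime_iff_not_dvd hpp, hNidx]
      exact S₀.not_dvd_index
    have hinf : N ⊓ (P : Subgroup ↥(sigmaCore M)) = ⊥ := by
      obtain ⟨k, hk⟩ := IsPGroup.iff_card.mp P.2
      apply Subgroup.inf_eq_bot_of_coprime
      rw [hk]
      exact Nat.Coprime.pow_right k hNcop
    have hsup : N ⊔ (P : Subgroup ↥(sigmaCore M)) = ⊤ := by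
      apply Subgroup.eq_top_of_le_card
      have h1 := (card_mul_le_of_le N (P : Subgroup ↥(sigmaCore M))
        (N ⊔ (P : Subgroup ↥(sigmaCore M))) le_sup_left le_sup_right).1
      rw [hinf, Subgroup.card_bot, mul_one, ← hcardSP, hmul] at h1
      exact h1
    have hfoc := focal_of_normal_complement N (P : Subgroup ↥(sigmaCore M)) hinf hsup
    have hXQ' : X ≤ ⁅Q, Q⁆ := by
      intro y hy
      have hyK : y ∈ sigmaCore M := hQσ (hXP hy)
      have h1 : (⟨y, hyK⟩ : ↥(sigmaCore M)) ∈ commutator ↥(sigmaCore M) := by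
        have h0 := hXder hy
        rw [← Subgroup.map_subtype_commutator] at h0
        obtain ⟨k, hk, hky⟩ := h0
        have : k = ⟨y, hyK⟩ := Subtype.ext hky
        rwa [← this]
      have h2 : (⟨y, hyK⟩ : ↥(sigmaCore M)) ∈ (P : Subgroup ↥(sigmaCore M)) := by
        have h0 := hXP hy
        rw [hQ] at h0
        obtain ⟨k, hk, hky⟩ := h0
        have : k = ⟨y, hyK⟩ := Subtype.ext hky
        rwa [← this]
      have h3 := hfoc ⟨h1, h2⟩
      have h4 : ⁅Q, Q⁆ = (⁅(P : Subgroup ↥(sigmaCore M)), (P : Subgroup ↥(sigmaCore M))⁆).map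
          (sigmaCore M).subtype := by
        rw [Subgroup.map_commutator, hQ]
      rw [h4]
      exact ⟨_, h3, rfl⟩
    by_cases hr : PRankLE p 2 ↥Q
    · -- rank two
      have hnaQ : ¬ IsMulCommutative ↥Q := by
        intro hc
        apply hx1
        have h1 : x ∈ ⁅Q, Q⁆ := hXQ' hxX
        have h2 : ⁅Q, Q⁆ = ⊥ := by
          rw [Subgroup.commutator_eq_bot_iff_le_centralizer]
          intro a ha
          rw [Subgroup.mem_centralizer_iff]
          intro b hb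
          exact congrArg Subtype.val (hc.is_comm.comm ⟨b, hb⟩ ⟨a, ha⟩)
        rw [h2, Subgroup.mem_bot] at h1
        exact h1
      obtain ⟨hT, hTc⟩ := sylow_rank_two_uniq hG h50 h04 h12 h16 h17 S (hS ▸ hr) (hS ▸ hnaQ)
      rw [hS] at hT hTc
      have hQC : Q ≤ centralizer (X : Set G) := by
        rw [Subgroup.le_centralizer_iff]
        exact hXQ'.trans hTc
      exact finish_of_uniq hG hM hQM hX1 hT le_rfl hQC
    · -- rank at least three
      have hp2 : p ≠ 2 :=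
        BG10.ne_two_of_dvd hG (hdvd.trans (Subgroup.card_subgroup_dvd_card M))
      have hxQ : x ∈ Q := hXP hxX
      have hx'c : (⟨x, hxQ⟩ : ↥Q) ∈ commutator ↥Q := by
        have h0 := hXQ' hxX
        rw [← Subgroup.map_subtype_commutator] at h0
        obtain ⟨k, hk, hkx⟩ := h0
        have : k = ⟨x, hxQ⟩ := Subtype.ext hkx
        rwa [← this]
      have hx'p : (⟨x, hxQ⟩ : ↥Q) ^ p = 1 := Subtype.ext (by simpa using hxp)
      obtain ⟨E, hEc, hEe, hEcard, hEx⟩ :=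
        exists_elemAb_commuting hp2 hQp hr (⟨x, hxQ⟩ : ↥Q) hx'c hx'p
      have hBe : IsElementaryAbelian p (E.map Q.subtype) := BG10.map_elemAb Q.subtype ⟨hEc, hEe⟩
      have hBc : p ^ 2 < Nat.card (E.map Q.subtype) := by
        rw [Subgroup.card_map_of_injective Q.subtype_injective]; exact hEcard
      have hBC : E.map Q.subtype ≤ centralizer (X : Set G) := by
        rw [Subgroup.le_centralizer_iff, ← hXgen, Subgroup.zpowers_le,
          Subgroup.mem_centralizer_iff]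
        rintro _ ⟨e, he, rfl⟩
        exact congrArg Subtype.val (hEx e he)
      exact finish_of_elemAb hG hU hM hQp hQM hX1 (Subgroup.map_subtype_le E) hBe hBc hBC

/-- **B&G Lemma 12.13** (statement S1423), from the upstream statements as hypotheses. -/
theorem bg1213 (hG : IsMinSimpleOddOrder G) (hU : BG10.UniqStmt G) (h50 : Hyp50 G)
    (h04 : Hyp04 G) (h12 : Hyp12 G) (h14 : Hyp14 G) (h16 : Hyp16 G) (h17 : Hyp17 G)
    (M : Subgroup G) (hM : IsCoatom M) (p : ℕ) [hpf : Fact p.Prime] (hp : p ∈ sigma M)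
    (X : Subgroup G) (hXM : X ≤ M) (hX : Nat.card X = p) (P : Sylow p ↥(sigmaCore M))
    (h : p ∈ beta M ∨ X ≤ ⁅sigmaCore M, sigmaCore M⁆) :
    (centralizer (X : Set G) ≤ M ∧
      ∀ L : Subgroup G, IsCoatom L → centralizer (X : Set G) ≤ L → L = M) ∧
      InUniqueMaximal ((P : Subgroup ↥(sigmaCore M)).map (sigmaCore M).subtype) ∧
      (P : Subgroup ↥(sigmaCore M)).map (sigmaCore M).subtype ≤ M := by
  have hpp : p.Prime := hpf.out
  obtain ⟨hHallM, hHall⟩ := h50 M hM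
  have hXp : IsPGroup p X := IsPGroup.of_card (n := 1) (by rw [hX, pow_one])
  have hXσ : X ≤ sigmaCore M :=
    Cfsg.Agent.Lib.Helper64.le_of_isPGroup_of_not_dvd_relIndex hHallM.1
      (Cfsg.Agent.Lib.Helper24.BG.le_normalizer_sigmaCore M) hXM hXp (hHallM.2.2 p hpp hp)
  have hXp' : IsPGroup p (X.subgroupOf (sigmaCore M)) := hXp.comap_subtype
  obtain ⟨P₂, hP₂⟩ := hXp'.exists_le_sylow
  have hXP₂ : X ≤ (P₂ : Subgroup ↥(sigmaCore M)).map (sigmaCore M).subtype := by
    intro y hy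
    exact ⟨⟨y, hXσ hy⟩, hP₂ (Subgroup.mem_subgroupOf.mpr hy), rfl⟩
  obtain ⟨hA, hB⟩ := bg1213_of_le hG hU h50 h04 h12 h14 h16 h17 hM hp hX P₂ hXP₂ h
  obtain ⟨hQ₂σ, hQ₂p, hQ₂i⟩ := sylow_map_facts (sigmaCore M) P₂
  obtain ⟨hQσ, hQp, hQi⟩ := sylow_map_facts (sigmaCore M) P
  have hQM : (P : Subgroup ↥(sigmaCore M)).map (sigmaCore M).subtype ≤ M := hQσ.trans hHallM.1
  refine ⟨hA, ?_, hQM⟩
  obtain ⟨c, hc, hcQ⟩ := sylow_sub_eq hQ₂σ hQ₂p hQ₂i hQσ hQp hQi
  have hcM : c ∈ M := hHallM.1 hc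
  have hQ₂M : (P₂ : Subgroup ↥(sigmaCore M)).map (sigmaCore M).subtype ≤ M :=
    hQ₂σ.trans hHallM.1
  refine ⟨M, ⟨hM, hQM⟩, ?_⟩
  rintro L ⟨hL, hQL⟩
  have h1 : (P₂ : Subgroup ↥(sigmaCore M)).map (sigmaCore M).subtype ≤ cj c⁻¹ L := by
    rw [← cj_le_iff, hcQ]; exact hQL
  have h2 : cj c⁻¹ L ≠ ⊤ := by
    intro ht
    apply hL.1
    have := congrArg (cj c) ht
    rwa [cj_cj_inv, cj_top] at this
  have h3 : cj c⁻¹ L ≤ M := BG10.le_of_inUniqueMaximal hB hM hQ₂M h2 h1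
  have h4 : L ≤ M := by
    have := cj_mono (g := c) h3
    rwa [cj_cj_inv, cj_eq_self_of_mem hcM] at this
  rcases hL.le_iff.mp h4 with h5 | h5
  · exact absurd h5 hM.1
  · exact h5.symm

end Cfsg.Agent.Lib.Helper30.BG1213
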