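import Cfsg.Agent.Lib.Helper32.BG142Defs
import Cfsg.Agent.Lib.Helper35.HallBurnside
import Cfsg.Agent.Lib.Helper47.BG1312
import Cfsg.Agent.Lib.Helper47.BG139T7
import Cfsg.Agent.Lib.Helper10.BG133
import Cfsg.Agent.Lib.Helper56.BG143
import Cfsg.Agent.Lib.Helper71.BadB3
import Cfsg.Agent.Lib.Helper63.BG13b
import Cfsg.Agent.S1420

/-!
# BG Theorem 14.2 = S1430, LEAF I4 (`exists_U`): the abelian Hall subgroup `U`
-/

set_option autoImplicit false
set_option linter.unusedSectionVars false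
set_option linter.unusedVariables false

namespace Cfsg.Agent.Lib.Helper32.BG142

open Subgroup Cfsg Cfsg.Agent.Lib.Helper33 Cfsg.Agent.Lib.Helper63

universe u

variable {G : Type u} [Group G] [Finite G]

/-- two subgroups of the same prime order `p ∈ κ(M)` of an abelian subgroup `K ≤ M` are equal -/
theorem exists_U_eq_of_card {M K X X' : Subgroup G} (hKM : K ≤ M)
    (hKc : ∀ a ∈ K, ∀ b ∈ K, a * b = b * a) {p : ℕ} [Fact p.Prime] (hpκ : p ∈ kappa M)
    (hXK : X ≤ K) (hX'K : X' ≤ K) (hX : Nat.card X = p) (hX' : Nat.card X' = p) : X = X' := by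
  have hXp : IsPGroup p X := IsPGroup.of_card (n := 1) (by rw [pow_one, hX])
  have hX'p : IsPGroup p X' := IsPGroup.of_card (n := 1) (by rw [pow_one, hX'])
  have hnorm : X ≤ normalizer (X' : Set G) := by
    intro a ha
    rw [mem_normalizer_iff]
    intro b
    constructor
    · intro hb
      have h1 : a * b * a⁻¹ = b := by
        rw [hKc a (hXK ha) b (hX'K hb)]; group
      rw [h1]; exact hb
    · intro hb
      have hbK : b ∈ K := by
        have h2 : a * b * a⁻¹ ∈ K := hX'K hb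
        have h3 : b = a⁻¹ * (a * b * a⁻¹) * a := by group
        rw [h3]
        exact K.mul_mem (K.mul_mem (K.inv_mem (hXK ha)) h2) (hXK ha)
      have h1 : a * b * a⁻¹ = b := by
        rw [hKc a (hXK ha) b hbK]; group
      rwa [h1] at hb
  have hsup : IsPGroup p (X ⊔ X' : Subgroup G) := IsPGroup.to_sup_of_normal_right' hXp hX'p hnorm
  have hsupM : X ⊔ X' ≤ M := (sup_le hXK hX'K).trans hKM
  obtain ⟨Q, hQ⟩ := Cfsg.Agent.Lib.Helper32.BG12.exists_sylow_map_ge hsupM hsup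
  have hQc : IsCyclic ↥((Q : Subgroup M).map M.subtype) := by
    have h1 : IsCyclic ↥(Q : Subgroup M) := (hpκ.2.2.2 Q).1
    exact isCyclic_of_surjective
      ((Q : Subgroup M).equivMapOfInjective M.subtype M.subtype_injective).toMonoidHom
      ((Q : Subgroup M).equivMapOfInjective M.subtype M.subtype_injective).surjective
  exact Cfsg.Agent.Lib.Helper71.BadB3.eq_of_le_cyclic hQc (le_sup_left.trans hQ)
    (le_sup_right.trans hQ) (by rw [hX, hX'])

/-- no fusion in `K` inside `E` -/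
theorem exists_U_fusion {M E K : Subgroup G} (hK : IsPiHallOf (kappa M) K M)
    (hKc : ∀ a ∈ K, ∀ b ∈ K, a * b = b * a)
    (hN : ∀ X : Subgroup G, X ≤ K → (Nat.card X).Prime → E ⊓ normalizer (X : Set G) = K)
    {h g : G} (hh : h ∈ K) (hg : g ∈ E) (hgh : g⁻¹ * h * g ∈ K) : g⁻¹ * h * g = h := by
  by_cases h1 : h = 1
  · rw [h1]; group
  have hz : zpowers h ≠ ⊥ := by
    intro h0
    exact h1 (zpowers_eq_bot.1 h0)
  obtain ⟨x, hxle, hxp⟩ := Cfsg.Agent.Lib.Helper56.BG143.exists_prime_sub hz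
  obtain ⟨X, hXdef⟩ : ∃ X : Subgroup G, X = zpowers x := ⟨_, rfl⟩
  rw [← hXdef] at hxle hxp
  have hXK : X ≤ K := hxle.trans (zpowers_le.2 hh)
  obtain ⟨p, hp⟩ : ∃ p, p = Nat.card X := ⟨_, rfl⟩
  have hpp : p.Prime := hp ▸ hxp
  have : Fact p.Prime := ⟨hpp⟩
  have hpκ : p ∈ kappa M := hK.2.1 p hpp (hp ▸ Subgroup.card_dvd_of_le hXK)
  -- the conjugate of `X`
  have hX'K : cj g⁻¹ X ≤ K := by
    intro y hy
    obtain ⟨a, ha, rfl⟩ := mem_cj'.1 hy
    obtain ⟨n, rfl⟩ := mem_zpowers_iff.1 (hxle ha)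
    have h2 : g⁻¹ * h ^ n * g⁻¹⁻¹ = (g⁻¹ * h * g) ^ n := by
      rw [inv_inv]
      have := map_zpow (MulAut.conj g⁻¹) h n
      simpa [MulAut.conj_apply] using this
    rw [h2]
    exact K.zpow_mem hgh n
  have heq : X = cj g⁻¹ X :=
    exists_U_eq_of_card hK.1 hKc hpκ hXK hX'K hp.symm (by rw [card_cj, hp])
  have hgN : g ∈ E ⊓ normalizer (X : Set G) := by
    refine ⟨hg, ?_⟩
    have h3 : cj g⁻¹ X = X := heq.symm
    have h4 : g⁻¹ ∈ normalizer (X : Set G) := cj_eq_self_iff.1 h3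
    simpa using (normalizer (X : Set G)).inv_mem h4
  rw [hN X hXK hxp] at hgN
  rw [mul_assoc, ← hKc g hgN h hh]; group

/-- LEAF I4 (= piece V): the abelian Hall subgroup `U`. -/
theorem exists_U (hG : IsMinSimpleOddOrder G) {M E K : Subgroup G} (hM : IsCoatom M)
    (hE : IsComplIn E (sigmaCore M) M) (hK : IsPiHallOf (kappa M) K M) (hKE : K ≤ E)
    (hK1 : K ≠ ⊥) (hKc : ∀ a ∈ K, ∀ b ∈ K, a * b = b * a)
    (hN : ∀ X : Subgroup G, X ≤ K → (Nat.card X).Prime → E ⊓ normalizer (X : Set G) = K) :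
    ∃ U : Subgroup G, IsMulCommutative U ∧
      IsPiHallOf {q | q.Prime ∧ q ∉ kappa M ∧ q ∉ sigma M} U M ∧
      K ≤ normalizer (U : Set G) ∧
      ∀ k ∈ K, k ≠ 1 → U ⊓ centralizer ({k} : Set G) = ⊥ := by
  classical
  have hσM := BG13.hallStmt hG M hM
  have hEM : E ≤ M := hE.1
  have hKHallE : IsPiHallOf (kappa M) K E :=
    Cfsg.Agent.Lib.Helper47.BG139.isPiHallOf_of_le hK hKE hEM
  -- the transfer inside `E`
  set H : Subgroup ↥E := K.subgroupOf E with hHdef
  have hHcomm : IsMulCommutative ↥H := by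
    refine ⟨⟨fun a b => ?_⟩⟩
    apply Subtype.ext
    apply Subtype.ext
    exact hKc a.1.1 a.2 b.1.1 b.2
  have hHcard : Nat.card H = Nat.card K :=
    Nat.card_congr (Subgroup.subgroupOfEquivOfLe hKE).toEquiv
  have hHidx : H.index = K.relIndex E := rfl
  have hHall : Nat.Coprime (Nat.card H) H.index := by
    apply Nat.coprime_of_dvd
    intro q hq hqH hqi
    rw [hHcard] at hqH
    rw [hHidx] at hqi
    exact hKHallE.2.2 q hq (hK.2.1 q hq hqH) hqi
  have hfus : ∀ h ∈ H, ∀ g : ↥E, g⁻¹ * h * g ∈ H → g⁻¹ * h * g = h := by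
    intro h hh g hgh
    apply Subtype.ext
    have := exists_U_fusion hK hKc hN (h := (h : G)) (g := (g : G)) hh g.2 hgh
    simpa using this
  obtain ⟨N, hNn, hNc⟩ := Cfsg.Agent.Lib.Helper35.exists_normal_complement_of_fusion H hHall hfus
  -- `U`
  obtain ⟨U, hUdef⟩ : ∃ U : Subgroup G, U = N.map E.subtype := ⟨_, rfl⟩
  have hUE : U ≤ E := hUdef ▸ map_subtype_le N
  have hUM : U ≤ M := hUE.trans hEM
  have hUcard : Nat.card U = Nat.card N := by
    rw [hUdef]
    exact (Nat.card_congr (N.equivMapOfInjective E.subtype E.subtype_injective).toEquiv).symm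
  have hEU : E ≤ normalizer (U : Set G) := by
    intro e he
    rw [mem_normalizer_iff]
    intro u
    have key : ∀ (e : G) (he : e ∈ E) (u : G), u ∈ U → e * u * e⁻¹ ∈ U := by
      intro e he u hu
      rw [hUdef] at hu ⊢
      obtain ⟨n, hn, rfl⟩ := hu
      exact ⟨⟨e, he⟩ * n * ⟨e, he⟩⁻¹, hNn.conj_mem n hn ⟨e, he⟩, by simp⟩
    constructor
    · exact key e he u
    · intro hu
      have := key e⁻¹ (E.inv_mem he) _ hu
      have h2 : e⁻¹ * (e * u * e⁻¹) * e⁻¹⁻¹ = u := by group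
      rwa [h2] at this
  have hUK : U ⊓ K = ⊥ := by
    rw [eq_bot_iff]
    rintro y ⟨hyU, hyK⟩
    rw [hUdef] at hyU
    obtain ⟨n, hn, rfl⟩ := hyU
    have h1 : n ∈ N ⊓ H := ⟨hn, hyK⟩
    rw [hNc.disjoint.eq_bot, mem_bot] at h1
    rw [h1]; exact Subgroup.one_mem _
  have hcardE : Nat.card U * Nat.card K = Nat.card E := by
    rw [hUcard, ← hHcard]
    exact hNc.card_mul_card
  have hcardM : Nat.card E * Nat.card (sigmaCore M) = Nat.card M :=
    Cfsg.Agent.Lib.Helper23.card_isComplIn hE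
  -- regular action
  have hreg : ∀ k ∈ K, k ≠ 1 → U ⊓ centralizer ({k} : Set G) = ⊥ := by
    intro k hk hk1
    have hz : zpowers k ≠ ⊥ := fun h0 => hk1 (zpowers_eq_bot.1 h0)
    obtain ⟨x, hxle, hxp⟩ := Cfsg.Agent.Lib.Helper56.BG143.exists_prime_sub hz
    have hXK : zpowers x ≤ K := hxle.trans (zpowers_le.2 hk)
    rw [eq_bot_iff]
    rintro u ⟨huU, huC⟩
    have huN : u ∈ E ⊓ normalizer ((zpowers x : Subgroup G) : Set G) := by
      refine ⟨hUE huU, Subgroup.centralizer_le_normalizer _ ?_⟩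
      rw [mem_centralizer_iff]
      intro y hy
      obtain ⟨n, rfl⟩ := mem_zpowers_iff.1 (hxle hy)
      have hc : Commute k u := (mem_centralizer_iff.1 huC) k rfl
      exact (hc.zpow_left n).eq
    rw [hN _ hXK hxp] at huN
    have : u ∈ U ⊓ K := ⟨huU, huN⟩
    rwa [hUK] at this
  -- nilpotent (Thompson), hence abelian (S1420)
  obtain ⟨x, hxK, hxp⟩ := Cfsg.Agent.Lib.Helper56.BG143.exists_prime_sub hK1
  have hxKm : x ∈ K := hxK (mem_zpowers x)
  have hx1 : x ≠ 1 := by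
    rintro rfl
    rw [zpowers_one_eq_bot, Subgroup.card_bot] at hxp
    exact Nat.not_prime_one hxp
  have hxpow : x ^ Nat.card (zpowers x) = 1 := by
    rw [Nat.card_zpowers]; exact pow_orderOf_eq_one x
  have hUnil : Group.IsNilpotent ↥U := by
    apply Cfsg.Agent.Lib.Helper10.BG13.nilpotent_of_fpf_elt hxp U x
      (cj_eq_self_iff.2 (hEU (hKE hxKm))) hxpow
    intro y hyU hxy
    have hy : y ∈ U ⊓ centralizer ({x} : Set G) := by
      refine mem_inf.2 ⟨hyU, ?_⟩
      rw [mem_centralizer_iff]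
      intro z hz
      rw [Set.mem_singleton_iff] at hz
      rw [hz]; exact hxy
    rw [hreg x hxKm hx1, mem_bot] at hy
    exact hy
  have hUσ : ∀ q : ℕ, q.Prime → q ∣ Nat.card U → q ∉ sigma M := by
    intro q hq hqU
    exact Cfsg.Agent.Lib.Helper47.BG1312.not_mem_sigma_of_dvd_card_compl hσM hE hq
      (hqU.trans (Subgroup.card_dvd_of_le hUE))
  have hUab : IsMulCommutative ↥U :=
    (Cfsg.Agent.S1420.result hG M hM E hE).1 U hUM hUnil hUσ
  -- Hall
  have hK_rel : Nat.card K * K.relIndex E = Nat.card E :=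
    Cfsg.Agent.Lib.Helper76.BGSigU.card_mul_relIndex hKE
  have hU_eq : Nat.card U = K.relIndex E := by
    have hpos : 0 < Nat.card K := Nat.card_pos
    apply Nat.eq_of_mul_eq_mul_left hpos
    rw [hK_rel, mul_comm, hcardE]
  have hU_rel : Nat.card U * U.relIndex M = Nat.card M :=
    Cfsg.Agent.Lib.Helper76.BGSigU.card_mul_relIndex hUM
  have hU_relM : U.relIndex M = Nat.card K * Nat.card (sigmaCore M) := by
    have hpos : 0 < Nat.card U := Nat.card_pos
    apply Nat.eq_of_mul_eq_mul_left hpos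
    rw [hU_rel, ← hcardM, ← hcardE]; ring
  refine ⟨U, hUab, ⟨hUM, ?_, ?_⟩, hKE.trans hEU, hreg⟩
  · intro q hq hqU
    refine ⟨hq, ?_, hUσ q hq hqU⟩
    intro hqκ
    exact hKHallE.2.2 q hq hqκ (hU_eq ▸ hqU)
  · rintro q hq ⟨-, hqκ, hqσ⟩ hqd
    rw [hU_relM] at hqd
    rcases (Nat.Prime.dvd_mul hq).1 hqd with h | h
    · exact hqκ (hK.2.1 q hq h)
    · exact hqσ (hσM.2.1 q hq h)

end Cfsg.Agent.Lib.Helper32.BG142
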