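import Cfsg.Agent.Lib.Helper30.BG142B

/-!
# BG Theorem 14.2 (e)-(g) = S1431, part C: the Sylow clause and the assembly
-/

set_option autoImplicit false
set_option linter.unusedSectionVars false
set_option linter.unusedVariables false

universe u

namespace Cfsg.Agent.Lib.Helper30.BG142

open Subgroup Cfsg Cfsg.Agent.Lib.Helper33 Cfsg.Agent.Lib.Helper63
open Cfsg.Agent.Lib.Helper56.BG143 (Stmt1430 C1430 C1431 exists_prime_sub)
open Cfsg.Agent.Lib.Helper70.BG14 (Stmt1378b)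
open scoped commutatorElement

variable {G : Type u} [Group G] [Finite G]

/-- `E = U K` is a complement of `M_σ` in `M`. -/
theorem isComplIn_UK {M K U : Subgroup G}
    (hσ : IsPiHallOf (sigma M) (sigmaCore M) M) (hK : IsPiHallOf (kappa M) K M)
    (hU : IsPiHallOf {q | q.Prime ∧ q ∉ kappa M ∧ q ∉ sigma M} U M)
    (hKU : K ≤ normalizer (U : Set G)) : IsComplIn (U ⊔ K) (sigmaCore M) M := by
  have hEM : U ⊔ K ≤ M := sup_le hU.1 hK.1
  have hMN := Cfsg.Agent.Lib.Helper24.BG.le_normalizer_sigmaCore M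
  have hcop : (Nat.card ↥(U ⊔ K)).Coprime (Nat.card ↥(sigmaCore M)) := by
    apply Nat.coprime_of_dvd
    intro q hq hqE hqW
    have hqσ : q ∈ sigma M := hσ.2.1 q hq hqW
    have h1 : q ∣ Nat.card U * Nat.card K :=
      hqE.trans (Cfsg.Agent.Lib.Helper56.BG117.card_sup_dvd_mul_of_le_normalizer hKU)
    rcases (Nat.Prime.dvd_mul hq).1 h1 with h | h
    · exact (hU.2.1 q hq h).2.2 hqσ
    · exact (hK.2.1 q hq h).2.2.1 hqσ
  have hsup : M ≤ (U ⊔ K) ⊔ sigmaCore M := by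
    rw [← Subgroup.relIndex_eq_one]
    by_contra hne
    obtain ⟨q, hq, hqd⟩ := Nat.exists_prime_and_dvd hne
    by_cases hqσ : q ∈ sigma M
    · exact hσ.2.2 q hq hqσ
        (hqd.trans (Subgroup.relIndex_dvd_of_le_left M (le_sup_right : sigmaCore M ≤ _)))
    · by_cases hqκ : q ∈ kappa M
      · exact hK.2.2 q hq hqκ
          (hqd.trans (Subgroup.relIndex_dvd_of_le_left M
            ((le_sup_right : K ≤ U ⊔ K).trans le_sup_left)))
      · exact hU.2.2 q hq ⟨hq, hqκ, hqσ⟩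
          (hqd.trans (Subgroup.relIndex_dvd_of_le_left M
            ((le_sup_left : U ≤ U ⊔ K).trans le_sup_left)))
  refine ⟨hEM, hσ.1, (Subgroup.disjoint_of_coprime_natCard hcop).eq_bot, ?_⟩
  intro m hm
  exact Cfsg.Agent.Lib.Helper24.exists_mul_of_mem_sup_of_le_normalizer (U ⊔ K) (sigmaCore M)
    (hEM.trans hMN) m (hsup hm)

/-- **(c1)**: for a prime `t` dividing `|K*|`, `M` is the unique maximal subgroup containing
a Sylow `t`-subgroup of `M_σ`. -/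
theorem part_c1 (hG : IsMinSimpleOddOrder G) (h30 : Stmt1430 G)
    {M K : Subgroup G} (hM : IsCoatom M) (hK : IsPiHallOf (kappa M) K M) (hK1 : K ≠ ⊥)
    {t : ℕ} (htp : t.Prime) (htd : t ∣ Nat.card ↥(sigmaCore M ⊓ centralizer (K : Set G)))
    (S : Sylow t ↥(sigmaCore M)) :
    InUniqueMaximal ((S : Subgroup ↥(sigmaCore M)).map (sigmaCore M).subtype) ∧
      (S : Subgroup ↥(sigmaCore M)).map (sigmaCore M).subtype ≤ M := by
  classical
  have : Fact t.Prime := ⟨htp⟩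
  have hσM := BG13.hallStmt hG M hM
  have hWM : sigmaCore M ≤ M := hσM.1
  have htσM : t ∈ sigma M :=
    hσM.2.1 t htp (htd.trans (Subgroup.card_dvd_of_le inf_le_left))
  by_cases hβ : t ∈ beta M
  · -- `t ∈ β(M)`: S1423 directly
    obtain ⟨a, ha⟩ := exists_prime_orderOf_dvd_card' (G := ↥(sigmaCore M ⊓ centralizer (K : Set G)))
      t htd
    have hY0c : Nat.card (zpowers (a : G)) = t := by
      rw [Nat.card_zpowers, Subgroup.orderOf_coe, ha]
    have hY0M : zpowers (a : G) ≤ M := by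
      rw [zpowers_le]; exact hWM a.2.1
    exact (Cfsg.Agent.S1423.result hG M hM t htσM (zpowers (a : G)) hY0M hY0c S (Or.inl hβ)).2
  · -- `t ∉ β(M)`: Lemma K
    obtain ⟨hsemi, ⟨U, hUab, hU, hKU, hreg⟩, h3⟩ := h30 M hM K hK hK1
    have hE := isComplIn_UK hσM hK hU hKU
    obtain ⟨E, hEdef⟩ : ∃ E : Subgroup G, E = U ⊔ K := ⟨_, rfl⟩
    rw [← hEdef] at hE
    have hUE : U ≤ E := hEdef ▸ le_sup_left
    have hKE : K ≤ E := hEdef ▸ le_sup_right
    obtain ⟨S₁, hS₁p, hS₁1, hS₁i, hS₁W, hES₁, -, hEE⟩ :=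
      Cfsg.Agent.Lib.Helper62.BG13K.lemmaK_beta hG hM htσM hβ hE
    -- `U ≤ [E,E]`
    obtain ⟨⟨k, hkK⟩, hk1⟩ := (Subgroup.ne_bot_iff_exists_ne_one).1 hK1
    have hk1' : k ≠ 1 := fun h => hk1 (Subtype.ext h)
    have hUcomm : U ≤ ⁅E, E⁆ :=
      Cfsg.Agent.Lib.Helper56.BG143.U_le_commutator hKE hUE hKU hkK (hreg k hkK hk1')
    -- `C_{S₁}(K) ≠ 1`
    have hMN := Cfsg.Agent.Lib.Helper24.BG.le_normalizer_sigmaCore M
    have hWtop : sigmaCore M ≠ ⊤ := fun h => hM.1 (top_le_iff.mp (h ▸ hWM))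
    have hcopKW : (Nat.card K).Coprime (Nat.card ↥(sigmaCore M)) := by
      apply Nat.coprime_of_dvd
      intro q hq hqK hqW
      exact (hK.2.1 q hq hqK).2.2.1 (hσM.2.1 q hq hqW)
    have hS₁r : ¬ t ∣ S₁.relIndex (sigmaCore M) := fun h =>
      hS₁i (h.trans (Subgroup.relIndex_dvd_index_of_le hS₁W))
    have hC4 := Cfsg.Agent.Lib.Helper70.BG134.inf_centralizer_sylow' K (sigmaCore M)
      (hK.1.trans hMN) hcopKW (Or.inr (hG.2.2.2 _ hWtop)) S₁ hS₁W hS₁p hS₁r (hKE.trans hES₁)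
    have hne : S₁ ⊓ centralizer (K : Set G) ≠ ⊥ := by
      intro h
      rw [h, Subgroup.relIndex_bot_left] at hC4
      exact hC4 htd
    obtain ⟨y, hyle, hyp⟩ := exists_prime_sub hne
    obtain ⟨Y, hYdef⟩ : ∃ Y : Subgroup G, Y = zpowers y := ⟨_, rfl⟩
    rw [← hYdef] at hyle hyp
    have hYS₁ : Y ≤ S₁ := hyle.trans inf_le_left
    have hYCK : Y ≤ centralizer (K : Set G) := hyle.trans inf_le_right
    have hYc : Nat.card Y = t := by
      obtain ⟨n, hn⟩ := IsPGroup.iff_card.1 hS₁p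
      have h1 : Nat.card Y ∣ t ^ n := hn ▸ Subgroup.card_dvd_of_le hYS₁
      exact (Nat.prime_dvd_prime_iff_eq hyp htp).1 (hyp.dvd_of_dvd_pow h1)
    -- `E` centralizes `Y`
    have hEY : E ≤ centralizer (Y : Set G) := by
      rw [hEdef]
      apply sup_le
      · exact (hUcomm.trans hEE).trans (Subgroup.centralizer_le hYS₁)
      · exact Subgroup.le_centralizer_iff.1 hYCK
    have hYcomm : Y ≤ ⁅sigmaCore M, sigmaCore M⁆ :=
      (le_inf (hYS₁.trans hS₁W) (Subgroup.le_centralizer_iff.1 hEY)).trans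
        (Cfsg.Agent.S1426.result hG M hM E hE).1
    exact (Cfsg.Agent.S1423.result hG M hM t htσM Y ((hYS₁.trans hS₁W).trans hWM) hYc S
      (Or.inr hYcomm)).2

/-- **BG 14.2 (e)-(g)** from the statement of S1430 and the second clause of S1378. -/
theorem s1431_of (hG : IsMinSimpleOddOrder G) (h30 : Stmt1430 G) (h78 : Stmt1378b G)
    {M K : Subgroup G} (hM : IsCoatom M) (hK : IsPiHallOf (kappa M) K M) (hK1 : K ≠ ⊥) :
    C1431 M K := by
  have ha : ∀ g : G, g ∉ M →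
      (sigmaCore M ⊓ centralizer (K : Set G)) ⊓ M.map (MulAut.conj g).toMonoidHom = ⊥ :=
    fun g hg => part_a hG h30 h78 hM hK hK1 hg
  refine ⟨ha, fun g hgM hg => part_b hG h30 hM hK hK1 hgM hg, ?_,
    fun Y hYσ hne => part_d hG hM ha hYσ hne⟩
  intro t htp htd S
  obtain ⟨huniq, hSM⟩ := part_c1 hG h30 hM hK hK1 htp htd S
  refine ⟨huniq, hSM, ?_⟩
  -- (c2)
  intro hle
  obtain ⟨x, hxK, hxp⟩ := exists_prime_sub hK1
  obtain ⟨X, hXdef⟩ : ∃ X : Subgroup G, X = zpowers x := ⟨_, rfl⟩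
  rw [← hXdef] at hxK hxp
  have hX1 : X ≠ ⊥ := ne_bot_of_card_prime hxp
  have hXM : X ≤ M := hxK.trans hK.1
  have hXtop : X ≠ ⊤ := fun h => hM.1 (top_le_iff.mp (h ▸ hXM))
  obtain ⟨H, hH, hNXH⟩ :=
    Cfsg.Agent.Lib.Helper64.BG9.exists_coatom_ge (BG10.normalizer_ne_top hG hX1 hXtop)
  have hSH : (S : Subgroup ↥(sigmaCore M)).map (sigmaCore M).subtype ≤ H :=
    hle.trans (inf_le_right.trans ((Subgroup.centralizer_le hxK).trans
      ((Subgroup.centralizer_le_normalizer _).trans hNXH)))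
  obtain ⟨M₀, -, hM₀⟩ := huniq
  have hHM : H = M := (hM₀ H ⟨hH, hSH⟩).trans (hM₀ M ⟨hM, hSM⟩).symm
  obtain ⟨-, -, h3⟩ := h30 M hM K hK hK1
  obtain ⟨-, -, hstar⟩ := h3 X hxK hxp
  have hXσ : X ≤ sigmaCore M := hstar M hM (hHM ▸ hNXH)
  have hσM := BG13.hallStmt hG M hM
  have h1 : Nat.card X ∈ sigma M := hσM.2.1 _ hxp (Subgroup.card_dvd_of_le hXσ)
  exact (hK.2.1 _ hxp (Subgroup.card_dvd_of_le hxK)).2.2.1 h1

end Cfsg.Agent.Lib.Helper30.BG142
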