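import Mathlib

set_option autoImplicit false

namespace Cfsg.Agent.Lib.Helper30

/-- In a finite cyclic group, an element killed by `p` lies in the subgroup generated by any
element of order `p`. -/
theorem mem_zpowers_of_isCyclic_of_pow_eq_one {C : Type*} [Group C] [Finite C] [IsCyclic C]
    {p : ℕ} [hp : Fact p.Prime] {a b : C} (ha : orderOf a = p) (hb : b ^ p = 1) :
    b ∈ Subgroup.zpowers a := by
  classical
  let _ : Fintype C := Fintype.ofFinite C
  by_contra hba
  have hT : (Finset.univ.filter (fun y : C => y ^ p = 1)).card ≤ p :=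
    IsCyclic.card_pow_eq_one_le hp.out.pos
  set Z : Finset C := Finset.univ.filter (fun y : C => y ∈ Subgroup.zpowers a) with hZ
  have hZcard : Z.card = p := by
    have h1 : Nat.card (Subgroup.zpowers a) = p := by rw [Nat.card_zpowers, ha]
    rw [← h1, Nat.card_eq_fintype_card]
    exact (Fintype.card_of_subtype Z (by simp [hZ])).symm
  have hsub : insert b Z ⊆ Finset.univ.filter (fun y : C => y ^ p = 1) := by
    intro y hy
    rw [Finset.mem_insert] at hy
    rw [Finset.mem_filter]
    refine ⟨Finset.mem_univ _, ?_⟩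
    rcases hy with rfl | hy
    · exact hb
    · rw [hZ, Finset.mem_filter] at hy
      obtain ⟨k, rfl⟩ := Subgroup.mem_zpowers_iff.mp hy.2
      rw [← zpow_natCast, ← zpow_mul, mul_comm, zpow_mul, zpow_natCast, ← ha, pow_orderOf_eq_one,
        one_zpow]
  have hbZ : b ∉ Z := by
    rw [hZ, Finset.mem_filter]
    exact fun h => hba h.2
  have := Finset.card_le_card hsub
  rw [Finset.card_insert_of_notMem hbZ, hZcard] at this
  omega

/-- A subgroup of order prime to `p` of the automorphism group of a cyclic group of order `p ^ k`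
is cyclic of order dividing `p - 1`. -/
theorem isCyclic_and_card_dvd_of_coprime_subgroup_mulAut {C : Type*} [Group C] [Finite C]
    [hCc : IsCyclic C] {p k : ℕ} [hp : Fact p.Prime] (hk : 1 ≤ k) (hC : Nat.card C = p ^ k)
    (H : Subgroup (MulAut C)) (hH : (Nat.card H).Coprime p) :
    IsCyclic H ∧ Nat.card H ∣ p - 1 := by
  have hdvd : p ∣ Nat.card C := by rw [hC]; exact dvd_pow_self p (by omega)
  have : NeZero (Nat.card C) := ⟨Nat.card_pos.ne'⟩
  let ψ : MulAut C →* (ZMod p)ˣ :=
    (ZMod.unitsMap hdvd).comp (IsCyclic.mulAutMulEquiv C).toMonoidHom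
  have hψs : Function.Surjective ψ :=
    (ZMod.unitsMap_surjective hdvd).comp (IsCyclic.mulAutMulEquiv C).surjective
  have hcardU : Nat.card (ZMod p)ˣ = p - 1 := by
    rw [Nat.card_eq_fintype_card, ZMod.card_units_eq_totient, Nat.totient_prime hp.out]
  have hcardA : Nat.card (MulAut C) = p ^ (k - 1) * (p - 1) := by
    rw [IsCyclic.card_mulAut, hC, Nat.totient_prime_pow hp.out (by omega)]
  have hker : Nat.card ψ.ker = p ^ (k - 1) := by
    have h1 := Subgroup.card_mul_index ψ.ker
    rw [Subgroup.index_ker, MonoidHom.range_eq_top.mpr hψs, Subgroup.card_top, hcardU, hcardA] at h1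
    have hp1 : 0 < p - 1 := by have := hp.out.two_le; omega
    exact Nat.eq_of_mul_eq_mul_right hp1 h1
  have hinf : H ⊓ ψ.ker = ⊥ := by
    apply (Subgroup.disjoint_of_coprime_natCard ?_).eq_bot
    rw [hker]
    exact Nat.Coprime.pow_right _ hH
  let f : H →* (ZMod p)ˣ := ψ.comp H.subtype
  have hf : Function.Injective f := by
    rw [← MonoidHom.ker_eq_bot_iff, eq_bot_iff]
    intro x hx
    have hx' : (x : MulAut C) ∈ H ⊓ ψ.ker := ⟨x.2, hx⟩
    rw [hinf, Subgroup.mem_bot] at hx'
    rw [Subgroup.mem_bot]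
    exact Subtype.ext hx'
  refine ⟨isCyclic_of_injective f hf, ?_⟩
  rw [← hcardU]
  exact Subgroup.card_dvd_of_injective f hf

open scoped IsMulCommutative in
/-- In a perfect finite group with an abelian Sylow `p`-subgroup `R`, a central element of `R` is
trivial. -/
theorem eq_one_of_mem_center_of_mem_sylow_of_perfect {X : Type*} [Group X] [Finite X] {p : ℕ}
    [hp : Fact p.Prime] (hX : commutator X = ⊤) (R : Sylow p X) [hR : IsMulCommutative R]
    {z : X} (hzR : z ∈ R) (hzc : z ∈ Subgroup.center X) : z = 1 := by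
  have key : ∀ (k : ℕ) (g₀ : X), g₀⁻¹ * z ^ k * g₀ ∈ (R : Subgroup X) →
      g₀⁻¹ * z ^ k * g₀ = z ^ k := by
    intro k g₀ _
    have hc : z ^ k ∈ Subgroup.center X := Subgroup.pow_mem _ hzc k
    rw [Subgroup.mem_center_iff] at hc
    rw [mul_assoc, ← hc g₀, inv_mul_cancel_left]
  have h1 := MonoidHom.transfer_eq_pow (MonoidHom.id (R : Subgroup X)) z key
  have h2 : MonoidHom.transfer (MonoidHom.id (R : Subgroup X)) z = 1 := by
    have hk : commutator X ≤ (MonoidHom.transfer (MonoidHom.id (R : Subgroup X))).ker :=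
      Abelianization.commutator_subset_ker _
    rw [hX] at hk
    exact hk (Subgroup.mem_top z)
  rw [h2] at h1
  have h3 : z ^ (R : Subgroup X).index = 1 := by
    have := congrArg Subtype.val h1
    simpa using this.symm
  obtain ⟨k, hk⟩ := R.2 ⟨z, hzR⟩
  have h4 : z ^ (p ^ k) = 1 := by
    have := congrArg Subtype.val hk
    simpa using this
  have hcop : Nat.Coprime (p ^ k) (R : Subgroup X).index :=
    Nat.Coprime.pow_left _ ((Nat.Prime.coprime_iff_not_dvd hp.out).mpr R.not_dvd_index)
  have := pow_gcd_eq_one.mpr ⟨h4, h3⟩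
  rwa [hcop, pow_one] at this

/-- If a finite group is the product of a normal subgroup `N` and a cyclic Sylow `p`-subgroup `P`, and
`p` divides the order of the commutator subgroup, then `P ≤ N`. -/
theorem sylow_le_of_sup_eq_top_of_dvd_card_commutator {X : Type*} [Group X] [Finite X] {p : ℕ}
    [hp : Fact p.Prime] (N : Subgroup X) [N.Normal] (P : Sylow p X) [hPc : IsCyclic P]
    (hsup : N ⊔ (P : Subgroup X) = ⊤) (hdvd : p ∣ Nat.card (commutator X)) :
    (P : Subgroup X) ≤ N := by
  have h1 : ¬ p ∣ (commutator X).index :=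
    (P.not_dvd_card_commutator_or_not_dvd_index_commutator).resolve_left (fun h => h hdvd)
  have hPcomm : IsMulCommutative (P : Subgroup X) := by
    obtain ⟨g, hg⟩ := hPc.exists_generator
    refine ⟨⟨fun a b => ?_⟩⟩
    obtain ⟨m, rfl⟩ := Subgroup.mem_zpowers_iff.mp (hg a)
    obtain ⟨n, rfl⟩ := Subgroup.mem_zpowers_iff.mp (hg b)
    rw [← zpow_add, ← zpow_add, add_comm]
  have h2 : commutator X ≤ N :=
    Subgroup.Normal.commutator_le_of_self_sup_commutative_eq_top hsup hPcomm
  have h3 : ¬ p ∣ N.index := fun h => h1 (h.trans (Subgroup.index_dvd_of_le h2))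
  have h4 : N.relIndex (P : Subgroup X) ∣ N.index := Subgroup.relIndex_dvd_index_of_normal N _
  obtain ⟨n, hn⟩ := P.2.index (N.subgroupOf (P : Subgroup X))
  have h5 : N.relIndex (P : Subgroup X) = 1 := by
    change (N.subgroupOf (P : Subgroup X)).index = 1
    rw [hn]
    rcases Nat.eq_zero_or_pos n with h0 | hpos
    · rw [h0, pow_zero]
    · exfalso
      apply h3
      refine dvd_trans ?_ h4
      change p ∣ (N.subgroupOf (P : Subgroup X)).index
      rw [hn]
      exact dvd_pow_self p (by omega)
  exact Subgroup.relIndex_eq_one.mp h5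

end Cfsg.Agent.Lib.Helper30
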