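import Mathlib

set_option autoImplicit false

/-!
Arithmetic core of the Brauer–Suzuki theorem for a quaternion Sylow subgroup of order eight.
-/

namespace Cfsg.Agent.Lib.Helper30

/-- Cauchy–Schwarz step: sign pattern `(+,+,-)`. -/
theorem bsq8_titu (x₁ x₂ x₃ d₁ d₂ d₃ : ℤ) (hx₁ : 0 < x₁) (hx₂ : 0 < x₂)
    (hd₁ : 0 ≤ d₁) (hd₂ : 0 ≤ d₂) (hx : x₃ = 1 + x₁ + x₂) (hd : d₃ = d₁ + d₂)
    (h : d₁ ^ 2 * x₂ * x₃ + d₂ ^ 2 * x₁ * x₃ = d₃ ^ 2 * x₁ * x₂) : d₁ = 0 ∧ d₂ = 0 := by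
  subst hx hd
  have key : d₁ ^ 2 * x₂ + d₂ ^ 2 * x₁ ≤ 0 := by
    nlinarith [sq_nonneg (d₁ * x₂ - d₂ * x₁)]
  have h1 : 0 ≤ d₁ ^ 2 * x₂ := mul_nonneg (sq_nonneg _) hx₂.le
  have h2 : 0 ≤ d₂ ^ 2 * x₁ := mul_nonneg (sq_nonneg _) hx₁.le
  have h3 : d₁ ^ 2 * x₂ = 0 := by linarith
  have h4 : d₂ ^ 2 * x₁ = 0 := by linarith
  constructor
  · rcases mul_eq_zero.mp h3 with h5 | h5
    · exact pow_eq_zero_iff (two_ne_zero) |>.mp h5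
    · omega
  · rcases mul_eq_zero.mp h4 with h5 | h5
    · exact pow_eq_zero_iff (two_ne_zero) |>.mp h5
    · omega

theorem bsq8_zmod4 : ∀ g n₂ n₃ : ZMod 4,
    (n₂ * (2 * g * n₃ - 1) - n₃ * (2 * g * n₂ - 1)) ^ 2 =
      n₂ ^ 2 * (2 * g * n₃ - 1) + n₃ ^ 2 * (2 * g * n₂ - 1) →
    (n₂ = 0 ∨ n₂ = 2) ∧ (n₃ = 0 ∨ n₃ = 2) := by decide

theorem even_of_zmod4 (n : ℕ) (h : (n : ZMod 4) = 0 ∨ (n : ZMod 4) = 2) : 2 ∣ n := by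
  rcases h with h | h
  · have : 4 ∣ n := (ZMod.natCast_eq_zero_iff n 4).mp h
    exact dvd_trans (by norm_num) this
  · have h2 : ((n : ℕ) : ZMod 4) = ((2 : ℕ) : ZMod 4) := by simpa using h
    rw [ZMod.natCast_eq_natCast_iff'] at h2
    omega

/-- Descent step: sign pattern `(+,-,-)`. -/
theorem bsq8_descent (m₂ m₃ k₂ k₃ : ℕ) (x₂ x₃ : ℤ) (hx₂ : x₂ = 2 * m₂ + 4 * k₂ - 1)
    (hx₃ : x₃ = 2 * m₃ + 4 * k₃ - 1)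
    (h : ((m₂ : ℤ) * x₃ - m₃ * x₂) ^ 2 = (m₂ : ℤ) ^ 2 * x₃ + (m₃ : ℤ) ^ 2 * x₂) :
    m₂ = 0 ∧ m₃ = 0 := by
  by_contra hcon
  have hg : 0 < Nat.gcd m₂ m₃ := by
    apply Nat.pos_of_ne_zero
    intro h0
    rw [Nat.gcd_eq_zero_iff] at h0
    exact hcon h0
  obtain ⟨g, n₂, n₃, hgpos, hcop, h2, h3⟩ := Nat.exists_coprime' hg
  have hgne : (g : ℤ) ≠ 0 := by exact_mod_cast hgpos.ne'
  have h' : ((n₂ : ℤ) * x₃ - n₃ * x₂) ^ 2 = (n₂ : ℤ) ^ 2 * x₃ + (n₃ : ℤ) ^ 2 * x₂ := by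
    have e : (g : ℤ) ^ 2 * (((n₂ : ℤ) * x₃ - n₃ * x₂) ^ 2) =
        (g : ℤ) ^ 2 * ((n₂ : ℤ) ^ 2 * x₃ + (n₃ : ℤ) ^ 2 * x₂) := by
      have e2 : (m₂ : ℤ) = n₂ * g := by exact_mod_cast h2
      have e3 : (m₃ : ℤ) = n₃ * g := by exact_mod_cast h3
      rw [e2, e3] at h
      linear_combination h
    exact mul_left_cancel₀ (pow_ne_zero 2 hgne) e
  have hz := congrArg (Int.cast : ℤ → ZMod 4) h'
  rw [hx₂, hx₃, h2, h3] at hz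
  push_cast at hz
  have e4 : (4 : ZMod 4) = 0 := by decide
  rw [e4] at hz
  have hz' : ((n₂ : ZMod 4) * (2 * (g : ZMod 4) * (n₃ : ZMod 4) - 1) -
      (n₃ : ZMod 4) * (2 * (g : ZMod 4) * (n₂ : ZMod 4) - 1)) ^ 2 =
      (n₂ : ZMod 4) ^ 2 * (2 * (g : ZMod 4) * (n₃ : ZMod 4) - 1) +
      (n₃ : ZMod 4) ^ 2 * (2 * (g : ZMod 4) * (n₂ : ZMod 4) - 1) := by
    linear_combination hz
  obtain ⟨ha, hb⟩ := bsq8_zmod4 _ _ _ hz'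
  have hd2 : 2 ∣ n₂ := even_of_zmod4 n₂ ha
  have hd3 : 2 ∣ n₃ := even_of_zmod4 n₃ hb
  have := Nat.dvd_gcd hd2 hd3
  rw [hcop] at this
  omega

/-- The arithmetic core: three exceptional characters with degrees `nᵢ`, values
`nᵢ - 4 mᵢ` at the involution and `εᵢ = nᵢ - 2 mᵢ - 4 kᵢ = ±1` at the elements of order four. -/
theorem bsq8_arith (n₁ n₂ n₃ m₁ m₂ m₃ k₁ k₂ k₃ : ℕ) (ε₁ ε₂ ε₃ : ℤ)
    (hn₁ : 0 < n₁) (hn₂ : 0 < n₂) (hn₃ : 0 < n₃)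
    (hε₁ : ε₁ = 1 ∨ ε₁ = -1) (hε₂ : ε₂ = 1 ∨ ε₂ = -1) (hε₃ : ε₃ = 1 ∨ ε₃ = -1)
    (hy₁ : (n₁ : ℤ) - 2 * m₁ - 4 * k₁ = ε₁) (hy₂ : (n₂ : ℤ) - 2 * m₂ - 4 * k₂ = ε₂)
    (hy₃ : (n₃ : ℤ) - 2 * m₃ - 4 * k₃ = ε₃)
    (E1 : 1 + ε₁ * n₁ + ε₂ * n₂ + ε₃ * n₃ = 0)
    (E2 : 1 + ε₁ * ((n₁ : ℤ) - 4 * m₁) + ε₂ * ((n₂ : ℤ) - 4 * m₂) + ε₃ * ((n₃ : ℤ) - 4 * m₃) = 0)
    (E3 : (n₁ : ℤ) * n₂ * n₃ + ε₁ * ((n₁ : ℤ) - 4 * m₁) ^ 2 * n₂ * n₃ +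
      ε₂ * ((n₂ : ℤ) - 4 * m₂) ^ 2 * n₁ * n₃ + ε₃ * ((n₃ : ℤ) - 4 * m₃) ^ 2 * n₁ * n₂ = 0) :
    m₁ = 0 ∧ m₂ = 0 ∧ m₃ = 0 := by
  have p₁ : (0 : ℤ) < n₁ := by exact_mod_cast hn₁
  have p₂ : (0 : ℤ) < n₂ := by exact_mod_cast hn₂
  have p₃ : (0 : ℤ) < n₃ := by exact_mod_cast hn₃
  have q₁ : (0 : ℤ) ≤ 4 * m₁ := by positivity
  have q₂ : (0 : ℤ) ≤ 4 * m₂ := by positivity
  have q₃ : (0 : ℤ) ≤ 4 * m₃ := by positivity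
  -- the combined relation `Σ εᵢ dᵢ² * (product of the other degrees) = 0`
  have E4 : ε₁ * (4 * (m₁ : ℤ)) ^ 2 * n₂ * n₃ + ε₂ * (4 * (m₂ : ℤ)) ^ 2 * n₁ * n₃ +
      ε₃ * (4 * (m₃ : ℤ)) ^ 2 * n₁ * n₂ = 0 := by
    linear_combination E3 - (n₁ : ℤ) * n₂ * n₃ * E1 + 2 * (n₁ : ℤ) * n₂ * n₃ * (E1 - E2)
  have E5 : ε₁ * (4 * (m₁ : ℤ)) + ε₂ * (4 * (m₂ : ℤ)) + ε₃ * (4 * (m₃ : ℤ)) = 0 := by
    linear_combination E1 - E2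
  rcases hε₁ with rfl | rfl <;> rcases hε₂ with rfl | rfl <;> rcases hε₃ with rfl | rfl
  · -- (+,+,+)
    exfalso; nlinarith
  · -- (+,+,-)
    obtain ⟨h1, h2⟩ := bsq8_titu n₁ n₂ n₃ (4 * m₁) (4 * m₂) (4 * m₃) p₁ p₂ q₁ q₂
      (by linarith) (by linarith) (by linear_combination E4)
    refine ⟨by omega, by omega, by omega⟩
  · -- (+,-,+)
    obtain ⟨h1, h2⟩ := bsq8_titu n₁ n₃ n₂ (4 * m₁) (4 * m₃) (4 * m₂) p₁ p₃ q₁ q₃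
      (by linarith) (by linarith) (by linear_combination E4)
    refine ⟨by omega, by omega, by omega⟩
  · -- (+,-,-)
    have hm : (m₁ : ℤ) = m₂ + m₃ := by linarith
    have hn : (n₁ : ℤ) = n₂ + n₃ - 1 := by linarith
    obtain ⟨h1, h2⟩ := bsq8_descent m₂ m₃ k₂ k₃ n₂ n₃ (by linarith) (by linarith) (by
      rw [hm, hn] at E4
      have : (16 : ℤ) * (((m₂ : ℤ) * n₃ - m₃ * n₂) ^ 2 - ((m₂ : ℤ) ^ 2 * n₃ + (m₃ : ℤ) ^ 2 * n₂)) = 0 := by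
        linear_combination -E4
      have h16 : (16 : ℤ) ≠ 0 := by norm_num
      have := (mul_eq_zero.mp this).resolve_left h16
      linarith)
    refine ⟨by omega, h1, h2⟩
  · -- (-,+,+)
    obtain ⟨h1, h2⟩ := bsq8_titu n₂ n₃ n₁ (4 * m₂) (4 * m₃) (4 * m₁) p₂ p₃ q₂ q₃
      (by linarith) (by linarith) (by linear_combination E4)
    refine ⟨by omega, by omega, by omega⟩
  · -- (-,+,-)
    have hm : (m₂ : ℤ) = m₁ + m₃ := by linarith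
    have hn : (n₂ : ℤ) = n₁ + n₃ - 1 := by linarith
    obtain ⟨h1, h2⟩ := bsq8_descent m₁ m₃ k₁ k₃ n₁ n₃ (by linarith) (by linarith) (by
      rw [hm, hn] at E4
      have : (16 : ℤ) * (((m₁ : ℤ) * n₃ - m₃ * n₁) ^ 2 - ((m₁ : ℤ) ^ 2 * n₃ + (m₃ : ℤ) ^ 2 * n₁)) = 0 := by
        linear_combination -E4
      have h16 : (16 : ℤ) ≠ 0 := by norm_num
      have := (mul_eq_zero.mp this).resolve_left h16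
      linarith)
    refine ⟨h1, by omega, h2⟩
  · -- (-,-,+)
    have hm : (m₃ : ℤ) = m₁ + m₂ := by linarith
    have hn : (n₃ : ℤ) = n₁ + n₂ - 1 := by linarith
    obtain ⟨h1, h2⟩ := bsq8_descent m₁ m₂ k₁ k₂ n₁ n₂ (by linarith) (by linarith) (by
      rw [hm, hn] at E4
      have : (16 : ℤ) * (((m₁ : ℤ) * n₂ - m₂ * n₁) ^ 2 - ((m₁ : ℤ) ^ 2 * n₂ + (m₂ : ℤ) ^ 2 * n₁)) = 0 := by
        linear_combination -E4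
      have h16 : (16 : ℤ) ≠ 0 := by norm_num
      have := (mul_eq_zero.mp this).resolve_left h16
      linarith)
    refine ⟨h1, h2, by omega⟩
  · -- (-,-,-)
    exfalso; nlinarith

end Cfsg.Agent.Lib.Helper30
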