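import Mathlib
import Cfsg.Agent.Lib.Helper3.BrauerSuzuki
import Cfsg.Agent.Lib.Helper3.CharOps
import Cfsg.Agent.Lib.Helper25.IndNormal
import Cfsg.Agent.Lib.Helper25.DualOrth
import Cfsg.Agent.Lib.Helper79.Basic

set_option autoImplicit false

/-!
Congruences for the values of a character on a quaternion subgroup of order eight
(restriction to a cyclic subgroup of order four, and to the quaternion group).
-/

namespace Cfsg.Agent.Lib.Helper30

open Cfsg
open Cfsg.Agent.Lib.Helper25
open scoped ComplexConjugate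

section cyclic

variable {G : Type*} [Group G] [Finite G]

/-- Restriction to a cyclic subgroup of order four: if `χ (α ^ 3) = χ α` then
`χ 1 - χ (α ^ 2)` is four times a natural number. -/
theorem char_sub_sq_eq_four_mul {χ : G → ℂ} (hχ : IsCharacter G χ) (α : G) (ho : orderOf α = 4)
    (h3 : χ (α ^ 3) = χ α) : ∃ m : ℕ, χ 1 - χ (α ^ 2) = 4 * (m : ℂ) := by
  classical
  set P : Subgroup G := Subgroup.zpowers α with hP
  have : Fintype P := Fintype.ofFinite P
  set gen : P := ⟨α, Subgroup.mem_zpowers α⟩ with hgen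
  have hgenall : ∀ x : P, x ∈ Subgroup.zpowers gen := by
    intro x
    obtain ⟨j, hj⟩ := Subgroup.mem_zpowers_iff.mp x.2
    refine Subgroup.mem_zpowers_iff.mpr ⟨j, ?_⟩
    apply Subtype.ext
    simp [hgen, hj]
  have hogen : orderOf gen = 4 := by
    rw [hgen, Subgroup.orderOf_mk, ho]
  have hdvd : orderOf Cfsg.Agent.Lib.Helper3.unitI ∣ orderOf gen := by
    rw [hogen]
    exact orderOf_dvd_of_pow_eq_one Cfsg.Agent.Lib.Helper3.unitI_pow_four
  set μ : P →* ℂˣ := monoidHomOfForallMemZpowers hgenall hdvd with hμ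
  have hμgen : μ gen = Cfsg.Agent.Lib.Helper3.unitI :=
    monoidHomOfForallMemZpowers_apply_gen hgenall hdvd
  have hirr : IsIrrCharacter P (fun x => ((μ x : ℂˣ) : ℂ)) :=
    Cfsg.Agent.Lib.Helper79.isIrrCharacter_of_monoidHom μ
  have hres : IsCharacter P (fun x : P => χ (x : G)) :=
    Cfsg.Agent.Lib.Helper3.IsCharacter.restrict hχ P
  obtain ⟨m, hm⟩ := Cfsg.Agent.Lib.Helper3.IsCharacter.classInner_irr_nat hres hirr
  refine ⟨m, ?_⟩
  have hcard : (Nat.card P : ℂ) = 4 := by
    rw [hP, Nat.card_zpowers, ho]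
    norm_num
  have hfin : IsOfFinOrder α := isOfFinOrder_of_finite α
  have hsum : ∑ x : P, χ (x : G) * conj (((μ x : ℂˣ) : ℂ)) =
      ∑ k ∈ Finset.range (orderOf α),
        χ (α ^ k) * conj (((Cfsg.Agent.Lib.Helper3.unitI ^ k : ℂˣ) : ℂ)) := by
    rw [← Fin.sum_univ_eq_sum_range
      (fun k => χ (α ^ k) * conj (((Cfsg.Agent.Lib.Helper3.unitI ^ k : ℂˣ) : ℂ))) (orderOf α)]
    rw [← Equiv.sum_comp (finEquivZPowers hfin)]
    apply Finset.sum_congr rfl
    intro i _
    have e1 : (finEquivZPowers hfin i : P) = gen ^ (i : ℕ) := by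
      apply Subtype.ext
      simp [hgen, finEquivZPowers_apply]
    rw [e1, map_pow, hμgen]
    simp [hgen]
  unfold classInner at hm
  rw [hcard, hsum, ho] at hm
  simp only [Finset.sum_range_succ, Finset.sum_range_zero, zero_add, pow_zero, pow_one,
    Units.val_one, map_one, mul_one, Units.val_pow_eq_pow_val] at hm
  have hI : ((Cfsg.Agent.Lib.Helper3.unitI : ℂˣ) : ℂ) = Complex.I := rfl
  rw [hI, h3] at hm
  simp only [map_pow, Complex.conj_I] at hm
  have e2 : (-Complex.I) ^ 2 = -1 := by
    rw [neg_sq, Complex.I_sq]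
  have e3 : (-Complex.I) ^ 3 = Complex.I := by
    have : (-Complex.I) ^ 3 = (-Complex.I) ^ 2 * (-Complex.I) := by ring
    rw [this, e2]
    ring
  rw [e2, e3] at hm
  linear_combination 4 * hm

end cyclic

section quat

open QuaternionGroup

/-- The linear character of the quaternion group of order eight with kernel `⟨a⟩`. -/
noncomputable def quatSign : QuaternionGroup 2 →* ℂˣ :=
  MonoidHom.mk' (fun q => match q with
    | a _ => 1
    | xa _ => -1) (by
    rintro (i | i) (j | j) <;> simp)

theorem quatSign_a (i : ZMod (2 * 2)) : quatSign (a i) = 1 := rfl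

theorem quatSign_xa (i : ZMod (2 * 2)) : quatSign (xa i) = -1 := rfl

/-- Splitting a sum over the quaternion group of order eight. -/
theorem sum_quat_two (f : QuaternionGroup 2 → ℂ) :
    ∑ q : QuaternionGroup 2, f q =
      (f (a 0) + f (a 1) + f (a 2) + f (a 3)) + (f (xa 0) + f (xa 1) + f (xa 2) + f (xa 3)) := by
  let E : Fin 4 ⊕ Fin 4 ≃ QuaternionGroup 2 :=
    { toFun := fun s => match s with
        | Sum.inl i => a i
        | Sum.inr i => xa i
      invFun := fun q => match q with
        | a i => Sum.inl i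
        | xa i => Sum.inr i
      left_inv := by rintro (i | i) <;> rfl
      right_inv := by rintro (i | i) <;> rfl }
  rw [← Equiv.sum_comp E, Fintype.sum_sum_type, Fin.sum_univ_four, Fin.sum_univ_four]
  rfl

variable {G : Type*} [Group G]

/-- The embedding of the quaternion group given by an isomorphism onto a subgroup. -/
noncomputable def quatEmb (S : Subgroup G) (e : S ≃* QuaternionGroup 2) : QuaternionGroup 2 →* G :=
  S.subtype.comp e.symm.toMonoidHom

theorem quatEmb_apply (S : Subgroup G) (e : S ≃* QuaternionGroup 2) (q : QuaternionGroup 2) :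
    quatEmb S e q = ((e.symm q : S) : G) := rfl

theorem quatEmb_mem (S : Subgroup G) (e : S ≃* QuaternionGroup 2) (q : QuaternionGroup 2) :
    quatEmb S e q ∈ S := (e.symm q).2

theorem quatEmb_injective (S : Subgroup G) (e : S ≃* QuaternionGroup 2) :
    Function.Injective (quatEmb S e) := by
  intro x y h
  have : (e.symm x : S) = e.symm y := Subtype.ext h
  exact e.symm.injective this

theorem quatEmb_surj (S : Subgroup G) (e : S ≃* QuaternionGroup 2) (s : G) (hs : s ∈ S) :
    ∃ q, quatEmb S e q = s :=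
  ⟨e ⟨s, hs⟩, by simp [quatEmb_apply]⟩

theorem orderOf_quatEmb (S : Subgroup G) (e : S ≃* QuaternionGroup 2) (q : QuaternionGroup 2) :
    orderOf (quatEmb S e q) = orderOf q :=
  orderOf_injective _ (quatEmb_injective S e) q

/-- Restriction to a quaternion subgroup of order eight on whose elements of order four the
character is constant: `χ 1 + χ z - 2 y` is eight times a natural number. -/
theorem char_quat_eq_eight_mul {χ : G → ℂ} (hχ : IsCharacter G χ) (S : Subgroup G)
    (e : S ≃* QuaternionGroup 2) (y : ℂ) (hy : ∀ s ∈ S, orderOf s = 4 → χ s = y) :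
    ∃ k : ℕ, χ 1 + χ ((quatEmb S e (a 1)) ^ 2) - 2 * y = 8 * (k : ℂ) := by
  classical
  have hres : IsCharacter (QuaternionGroup 2) (fun q => χ (quatEmb S e q)) :=
    IsCharacter.comp_hom (quatEmb S e) hχ
  have hirr : IsIrrCharacter (QuaternionGroup 2) (fun q => ((quatSign q : ℂˣ) : ℂ)) :=
    Cfsg.Agent.Lib.Helper79.isIrrCharacter_of_monoidHom quatSign
  obtain ⟨k, hk⟩ := Cfsg.Agent.Lib.Helper3.IsCharacter.classInner_irr_nat hres hirr
  refine ⟨k, ?_⟩
  have hcard : (Nat.card (QuaternionGroup 2) : ℂ) = 8 := by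
    rw [Nat.card_eq_fintype_card, QuaternionGroup.card]
    norm_num
  have ho4 : ∀ q : QuaternionGroup 2, orderOf q = 4 → χ (quatEmb S e q) = y := by
    intro q hq
    apply hy _ (quatEmb_mem S e q)
    rw [orderOf_quatEmb, hq]
  have oa1 : orderOf (a 1 : QuaternionGroup 2) = 4 := by
    rw [QuaternionGroup.orderOf_a_one]
  have oa3 : orderOf (a 3 : QuaternionGroup 2) = 4 := by
    have : (a 3 : QuaternionGroup 2) = (a 1)⁻¹ := by decide
    rw [this, orderOf_inv, oa1]
  have e0 : quatEmb S e (a 0) = 1 := by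
    rw [QuaternionGroup.a_zero, map_one]
  have e2 : quatEmb S e (a 2) = (quatEmb S e (a 1)) ^ 2 := by
    rw [← map_pow]
    congr 1
  unfold classInner at hk
  rw [hcard, sum_quat_two] at hk
  simp only [quatSign_a, quatSign_xa, Units.val_one, Units.val_neg, map_one, map_neg, mul_one,
    mul_neg] at hk
  rw [e0, e2, ho4 _ oa1, ho4 _ oa3, ho4 _ (QuaternionGroup.orderOf_xa 0),
    ho4 _ (QuaternionGroup.orderOf_xa 1), ho4 _ (QuaternionGroup.orderOf_xa 2),
    ho4 _ (QuaternionGroup.orderOf_xa 3)] at hk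
  linear_combination 8 * hk

end quat

end Cfsg.Agent.Lib.Helper30
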