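import Mathlib
import Cfsg.Agent.Lib.Helper30.BSQ8Arith
import Cfsg.Agent.Lib.Helper30.BSQ8Cong
import Cfsg.Agent.Lib.Helper3.BrauerSuzuki2
import Cfsg.Agent.Lib.Helper75.PrincipalSection
import Cfsg.Agent.Lib.Helper77.StrongOrth
import Cfsg.Agent.Lib.Helper74.Osima5
import Cfsg.Agent.Lib.Helper80.IrrApi

set_option autoImplicit false

/-!
Brauer–Suzuki for a quaternion Sylow subgroup of order eight: the character-theoretic step.
If all elements of order four of the Sylow subgroup are fused, some nonprincipal irreducible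
character has the involution in its kernel.
-/

namespace Cfsg.Agent.Lib.Helper30

open Cfsg
open Cfsg.Agent.Lib.Helper77 Cfsg.Agent.Lib.Helper81
open scoped ComplexConjugate

universe u

/-- A family of integers with squares summing to four, one of them being `1`, has exactly three
other nonzero members, all `±1`. -/
theorem three_support {ι : Type*} [DecidableEq ι] (F : Finset ι) (Y : ι → ℤ) (o : ι) (ho : o ∈ F)
    (hYo : Y o = 1) (hsum : ∑ i ∈ F, (Y i) ^ 2 = 4) :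
    ∃ i₁ i₂ i₃ : ι, i₁ ≠ o ∧ i₂ ≠ o ∧ i₃ ≠ o ∧ i₁ ≠ i₂ ∧ i₁ ≠ i₃ ∧ i₂ ≠ i₃ ∧
      (Y i₁ = 1 ∨ Y i₁ = -1) ∧ (Y i₂ = 1 ∨ Y i₂ = -1) ∧ (Y i₃ = 1 ∨ Y i₃ = -1) ∧
      ∀ f : ι → ℂ, ∑ i ∈ F, (Y i : ℂ) * f i =
        f o + (Y i₁ : ℂ) * f i₁ + (Y i₂ : ℂ) * f i₂ + (Y i₃ : ℂ) * f i₃ := by
  set F₁ := (F.erase o).filter (fun i => Y i ≠ 0) with hF₁
  have h3 : ∑ i ∈ F.erase o, (Y i) ^ 2 = 3 := by
    have := Finset.add_sum_erase F (fun i => (Y i) ^ 2) ho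
    rw [hsum] at this
    simp only [hYo] at this
    linarith
  have h3' : ∑ i ∈ F₁, (Y i) ^ 2 = 3 := by
    rw [hF₁, Finset.sum_filter, ← h3]
    apply Finset.sum_congr rfl
    intro i _
    split_ifs with h
    · rfl
    · push Not at h
      rw [h]
      norm_num
  have hpm : ∀ i ∈ F₁, Y i = 1 ∨ Y i = -1 := by
    intro i hi
    have hne : Y i ≠ 0 := (Finset.mem_filter.mp hi).2
    have hle : (Y i) ^ 2 ≤ 3 := by
      rw [← h3']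
      exact Finset.single_le_sum (f := fun j => (Y j) ^ 2) (fun j _ => sq_nonneg (Y j)) hi
    have h1 : -1 ≤ Y i := by nlinarith
    have h2 : Y i ≤ 1 := by nlinarith
    omega
  have hsq : ∀ i ∈ F₁, (Y i) ^ 2 = 1 := by
    intro i hi
    rcases hpm i hi with h | h <;> rw [h] <;> norm_num
  have hcard : F₁.card = 3 := by
    have : ∑ i ∈ F₁, (Y i) ^ 2 = F₁.card := by
      rw [Finset.sum_congr rfl hsq]
      simp
    rw [h3'] at this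
    exact_mod_cast this.symm
  obtain ⟨i₁, i₂, i₃, h12, h13, h23, hF⟩ := Finset.card_eq_three.mp hcard
  have hm1 : i₁ ∈ F₁ := by rw [hF]; simp
  have hm2 : i₂ ∈ F₁ := by rw [hF]; simp
  have hm3 : i₃ ∈ F₁ := by rw [hF]; simp
  have hne : ∀ i ∈ F₁, i ≠ o := fun i hi =>
    (Finset.mem_erase.mp (Finset.mem_filter.mp hi).1).1
  refine ⟨i₁, i₂, i₃, hne _ hm1, hne _ hm2, hne _ hm3, h12, h13, h23, hpm _ hm1, hpm _ hm2,
    hpm _ hm3, ?_⟩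
  intro f
  rw [← Finset.add_sum_erase F (fun i => (Y i : ℂ) * f i) ho, hYo]
  have e1 : ∑ i ∈ F.erase o, (Y i : ℂ) * f i = ∑ i ∈ F₁, (Y i : ℂ) * f i := by
    rw [hF₁, Finset.sum_filter]
    apply Finset.sum_congr rfl
    intro i _
    split_ifs with h
    · rfl
    · push Not at h
      rw [h]
      simp
  rw [e1, hF, Finset.sum_insert (by simp [h12, h13]), Finset.sum_insert (by simp [h23]),
    Finset.sum_singleton]
  push_cast
  ring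

open QuaternionGroup in
/-- **Brauer–Suzuki, order eight: the character-theoretic step.** -/
theorem bsq8_exists_char {G : Type u} [Group G] [Finite G] (S : Sylow 2 G)
    (e : (S : Subgroup G) ≃* QuaternionGroup 2)
    (hfus : ∀ s ∈ (S : Subgroup G), orderOf s = 4 →
      ∃ c : G, c * quatEmb (S : Subgroup G) e (a 1) * c⁻¹ = s)
    (hidx : ∃ k : ℕ, (pPrimeCore 2 (Subgroup.centralizer
      ({quatEmb (S : Subgroup G) e (a 1)} : Set G))).index = 2 ^ k)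
    (hfac : (Nat.card (Subgroup.centralizer
      ({quatEmb (S : Subgroup G) e (a 1)} : Set G))).factorization 2 = 2) :
    ∃ χ : IrrCharacter G, (χ : G → ℂ) ≠ (fun _ => 1) ∧
      (χ : G → ℂ) ((quatEmb (S : Subgroup G) e (a 1)) ^ 2) = (χ : G → ℂ) 1 := by
  classical
  have : Fintype G := Fintype.ofFinite G
  have : Fintype (IrrCharacter G) := Fintype.ofFinite _
  have : Fact (Nat.Prime 2) := ⟨Nat.prime_two⟩
  obtain ⟨M, hM⟩ := Cfsg.Agent.Lib.Helper74.exists_isPModular Nat.prime_two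
  have hMp : M.IsPrime := isPrime_of_isPModular hM
  set α : G := quatEmb (S : Subgroup G) e (a 1) with hα
  have hαS : α ∈ (S : Subgroup G) := quatEmb_mem _ e _
  have hoα : orderOf α = 4 := by
    rw [hα, orderOf_quatEmb, QuaternionGroup.orderOf_a_one]
  have hoz : orderOf (α ^ 2) = 2 := by
    rw [orderOf_pow_of_dvd (by norm_num) (by rw [hoα]; norm_num), hoα]
  have hz : ∀ s ∈ (S : Subgroup G), orderOf s = 2 → s = α ^ 2 := by
    intro s hs ho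
    exact Cfsg.Agent.Lib.Helper3.involution_eq_of_quat (S : Subgroup G) 2 e s hs ho
  -- values on the elements of order four
  have hcls : ∀ (χ : IrrCharacter G) (s : G), s ∈ (S : Subgroup G) → orderOf s = 4 →
      (χ : G → ℂ) s = (χ : G → ℂ) α := by
    intro χ s hs ho
    obtain ⟨c, hc⟩ := hfus s hs ho
    rw [← hc, Cfsg.Agent.Lib.Helper80.irr_class]
  have hα3 : ∀ χ : IrrCharacter G, (χ : G → ℂ) (α ^ 3) = (χ : G → ℂ) α := by
    intro χ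
    apply hcls χ _ (Subgroup.pow_mem _ hαS 3)
    have hcop : Nat.Coprime (orderOf α) 3 := by rw [hoα]; norm_num
    rw [hcop.orderOf_pow, hoα]
  have hdata : ∀ χ : IrrCharacter G, ∃ n m k : ℕ, 0 < n ∧ (χ : G → ℂ) 1 = (n : ℂ) ∧
      (χ : G → ℂ) (α ^ 2) = (n : ℂ) - 4 * (m : ℂ) ∧
      (χ : G → ℂ) α = (((n : ℤ) - 2 * (m : ℤ) - 4 * (k : ℤ) : ℤ) : ℂ) := by
    intro χ
    obtain ⟨n, hn, h1⟩ := Cfsg.Agent.Lib.Helper80.irr_one_eq_natCast χ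
    have hch : IsCharacter G (χ : G → ℂ) := Cfsg.Agent.Lib.Helper3.IsIrrCharacter.isCharacter χ.2
    obtain ⟨m, hm⟩ := char_sub_sq_eq_four_mul hch α hoα (hα3 χ)
    obtain ⟨k, hk⟩ := char_quat_eq_eight_mul hch (S : Subgroup G) e ((χ : G → ℂ) α)
      (fun s hs ho => hcls χ s hs ho)
    refine ⟨n, m, k, hn, h1, ?_, ?_⟩
    · rw [← h1]
      linear_combination -hm
    · push_cast
      rw [← h1]
      linear_combination (-1 / 2 : ℂ) * hk - (1 / 2 : ℂ) * hm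
  choose n m k hn h1 hzv hαv using hdata
  set Y : IrrCharacter G → ℤ := fun χ => (n χ : ℤ) - 2 * (m χ : ℤ) - 4 * (k χ : ℤ) with hY
  have hαv' : ∀ χ : IrrCharacter G, (χ : G → ℂ) α = ((Y χ : ℤ) : ℂ) := hαv
  have hconj : ∀ χ : IrrCharacter G, conj ((χ : G → ℂ) α) = ((Y χ : ℤ) : ℂ) := by
    intro χ
    rw [hαv' χ]
    exact map_intCast (starRingEnd ℂ) _
  set F₀ : Finset (IrrCharacter G) :=
    Finset.univ.filter (fun χ : IrrCharacter G => χ ∈ principalBlock M G) with hF₀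
  -- the section sum
  have hsec : ∑ χ ∈ F₀, (Y χ) ^ 2 = 4 := by
    have hx : ∃ k : ℕ, orderOf α = 2 ^ k := ⟨2, by rw [hoα]; norm_num⟩
    have : Fintype (Subgroup.centralizer ({α} : Set G)) := Fintype.ofFinite _
    have : Fintype (IrrCharacter (Subgroup.centralizer ({α} : Set G))) := Fintype.ofFinite _
    have h := Cfsg.Agent.Lib.Helper75.sum_principalBlock_section_of_pnilpotent hM hx hidx
      (1 : Subgroup.centralizer ({α} : Set G)) (by rw [orderOf_one]; norm_num)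
    rw [hfac] at h
    have e1 : ∀ χ : IrrCharacter G, (χ : G → ℂ) (α * ((1 : Subgroup.centralizer ({α} : Set G)) : G)) *
        conj ((χ : G → ℂ) (α * ((1 : Subgroup.centralizer ({α} : Set G)) : G))) =
        (((Y χ) ^ 2 : ℤ) : ℂ) := by
      intro χ
      rw [Subgroup.coe_one, mul_one, hconj χ, hαv' χ]
      push_cast
      ring
    rw [Finset.sum_congr rfl (fun χ _ => e1 χ)] at h
    have h' : ((∑ χ ∈ F₀, (Y χ) ^ 2 : ℤ) : ℂ) = ((4 : ℤ) : ℂ) := by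
      rw [Int.cast_sum]
      rw [h]
      norm_num
    exact_mod_cast h'
  have hone : oneIrr G ∈ F₀ := by
    rw [hF₀, Finset.mem_filter]
    exact ⟨Finset.mem_univ _, oneIrr_mem_principalBlock hMp⟩
  have hYone : Y (oneIrr G) = 1 := by
    have h := hαv' (oneIrr G)
    rw [oneIrr_apply] at h
    have : ((1 : ℤ) : ℂ) = ((Y (oneIrr G) : ℤ) : ℂ) := by
      rw [Int.cast_one]
      exact h
    exact_mod_cast this.symm
  obtain ⟨χ₁, χ₂, χ₃, hne1, hne2, hne3, h12, h13, h23, hε1, hε2, hε3, hform⟩ :=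
    three_support F₀ Y (oneIrr G) hone hYone hsec
  -- block orthogonality against the section of `α`
  obtain ⟨K, r, N, hcard, hpr, hrN, hN1⟩ := exists_ppart_exponent G 2 Nat.prime_two
  have hαpart : IsPPart 2 α α :=
    ⟨1, mul_one α, Commute.one_right α, ⟨2, by rw [hoα]; norm_num⟩, by rw [orderOf_one]; norm_num⟩
  have horth : ∀ w : G, ¬ 4 ∣ orderOf w → ∑ χ ∈ F₀, ((Y χ : ℤ) : ℂ) * (χ : G → ℂ) w = 0 := by
    intro w hw
    have hwpart : IsPPart 2 w (w ^ N) := isPPart_pow Nat.prime_two hcard hpr hrN hN1 w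
    have hnc : ¬ IsConj (w ^ N) α := by
      intro hc
      apply hw
      have h4 : orderOf (w ^ N) = 4 := by
        obtain ⟨c, hc⟩ := isConj_iff.mp hc
        have e2 : α = MulAut.conj c (w ^ N) := by simp [hc]
        rw [← hoα, e2, MulEquiv.orderOf_eq]
      rw [← h4]
      exact orderOf_pow_dvd N
    have h := Cfsg.Agent.Lib.Helper77.IdemTrace.strong_block_orthogonality_finset hM (oneIrr G)
      hwpart hαpart hnc
    rw [← h]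
    apply Finset.sum_congr rfl
    intro χ _
    rw [hconj χ]
    ring
  -- the three relations
  have hG : (Nat.card G : ℂ) ≠ 0 := by
    have : 0 < Nat.card G := Nat.card_pos
    exact_mod_cast this.ne'
  have E1c := horth 1 (by rw [orderOf_one]; norm_num)
  have E2c := horth (α ^ 2) (by rw [hoz]; norm_num)
  have E3c : ∑ χ ∈ F₀, ((Y χ : ℤ) : ℂ) *
      ((Nat.card G : ℂ) * (χ : G → ℂ) (α ^ 2) * (χ : G → ℂ) (α ^ 2) / (χ : G → ℂ) 1) = 0 := by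
    have h : ∑ x : G, ∑ χ ∈ F₀, ((Y χ : ℤ) : ℂ) *
        (χ : G → ℂ) (α ^ 2 * (x * α ^ 2 * x⁻¹)) = 0 := by
      apply Finset.sum_eq_zero
      intro x _
      apply horth
      apply Cfsg.Agent.Lib.Helper3.not_four_dvd_orderOf_mul_involutions S (α ^ 2) hz _ _ hoz
      have : x * α ^ 2 * x⁻¹ = MulAut.conj x (α ^ 2) := by simp
      rw [this, MulEquiv.orderOf_eq, hoz]
    rw [Finset.sum_comm] at h
    rw [← h]
    apply Finset.sum_congr rfl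
    intro χ _
    rw [← Finset.mul_sum, Cfsg.Agent.Lib.Helper80.irr_sum_char_mul_conj χ (α ^ 2) (α ^ 2)]
  rw [hform] at E1c E2c E3c
  rw [oneIrr_apply] at E1c E2c
  simp only [oneIrr_apply] at E3c
  rw [h1 χ₁, h1 χ₂, h1 χ₃] at E1c
  rw [hzv χ₁, hzv χ₂, hzv χ₃] at E2c
  rw [hzv χ₁, hzv χ₂, hzv χ₃, h1 χ₁, h1 χ₂, h1 χ₃] at E3c
  have p₁ : (n χ₁ : ℂ) ≠ 0 := by exact_mod_cast (hn χ₁).ne'
  have p₂ : (n χ₂ : ℂ) ≠ 0 := by exact_mod_cast (hn χ₂).ne'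
  have p₃ : (n χ₃ : ℂ) ≠ 0 := by exact_mod_cast (hn χ₃).ne'
  have E1 : 1 + Y χ₁ * (n χ₁ : ℤ) + Y χ₂ * (n χ₂ : ℤ) + Y χ₃ * (n χ₃ : ℤ) = 0 := by
    exact_mod_cast E1c
  have E2 : 1 + Y χ₁ * ((n χ₁ : ℤ) - 4 * (m χ₁ : ℤ)) + Y χ₂ * ((n χ₂ : ℤ) - 4 * (m χ₂ : ℤ)) +
      Y χ₃ * ((n χ₃ : ℤ) - 4 * (m χ₃ : ℤ)) = 0 := by
    exact_mod_cast E2c
  have E3 : (n χ₁ : ℤ) * (n χ₂ : ℤ) * (n χ₃ : ℤ) +
      Y χ₁ * ((n χ₁ : ℤ) - 4 * (m χ₁ : ℤ)) ^ 2 * (n χ₂ : ℤ) * (n χ₃ : ℤ) +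
      Y χ₂ * ((n χ₂ : ℤ) - 4 * (m χ₂ : ℤ)) ^ 2 * (n χ₁ : ℤ) * (n χ₃ : ℤ) +
      Y χ₃ * ((n χ₃ : ℤ) - 4 * (m χ₃ : ℤ)) ^ 2 * (n χ₁ : ℤ) * (n χ₂ : ℤ) = 0 := by
    have h : ((n χ₁ : ℂ) * (n χ₂ : ℂ) * (n χ₃ : ℂ) +
        ((Y χ₁ : ℤ) : ℂ) * ((n χ₁ : ℂ) - 4 * (m χ₁ : ℂ)) ^ 2 * (n χ₂ : ℂ) * (n χ₃ : ℂ) +
        ((Y χ₂ : ℤ) : ℂ) * ((n χ₂ : ℂ) - 4 * (m χ₂ : ℂ)) ^ 2 * (n χ₁ : ℂ) * (n χ₃ : ℂ) +
        ((Y χ₃ : ℤ) : ℂ) * ((n χ₃ : ℂ) - 4 * (m χ₃ : ℂ)) ^ 2 * (n χ₁ : ℂ) * (n χ₂ : ℂ)) = 0 := by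
      have h2 : (Nat.card G : ℂ) * ((n χ₁ : ℂ) * (n χ₂ : ℂ) * (n χ₃ : ℂ) +
        ((Y χ₁ : ℤ) : ℂ) * ((n χ₁ : ℂ) - 4 * (m χ₁ : ℂ)) ^ 2 * (n χ₂ : ℂ) * (n χ₃ : ℂ) +
        ((Y χ₂ : ℤ) : ℂ) * ((n χ₂ : ℂ) - 4 * (m χ₂ : ℂ)) ^ 2 * (n χ₁ : ℂ) * (n χ₃ : ℂ) +
        ((Y χ₃ : ℤ) : ℂ) * ((n χ₃ : ℂ) - 4 * (m χ₃ : ℂ)) ^ 2 * (n χ₁ : ℂ) * (n χ₂ : ℂ)) = 0 := by
        field_simp at E3c
        linear_combination E3c
      exact (mul_eq_zero.mp h2).resolve_left hG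
    exact_mod_cast h
  obtain ⟨hm1, _, _⟩ := bsq8_arith (n χ₁) (n χ₂) (n χ₃) (m χ₁) (m χ₂) (m χ₃) (k χ₁) (k χ₂) (k χ₃)
    (Y χ₁) (Y χ₂) (Y χ₃) (hn χ₁) (hn χ₂) (hn χ₃) hε1 hε2 hε3 rfl rfl rfl E1 E2 E3
  refine ⟨χ₁, ?_, ?_⟩
  · intro h
    apply hne1
    exact Subtype.ext h
  · rw [hzv χ₁, h1 χ₁, hm1]
    simp

end Cfsg.Agent.Lib.Helper30
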