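import Mathlib
import Cfsg.Agent.Lib.Helper30.BSQ8Cong

set_option autoImplicit false

/-!
Elementary facts on a subgroup isomorphic to the quaternion group of order eight, obtained by
finite checks in `QuaternionGroup 2` and transported along the isomorphism.
-/

namespace Cfsg.Agent.Lib.Helper30

open QuaternionGroup

/-- `c` is one of `1, q, q², q³`. -/
def Pw4 {X : Type*} [Mul X] [One X] (q c : X) : Prop :=
  c = 1 ∨ c = q ∨ c = q * q ∨ c = q * q * q

instance {X : Type*} [Mul X] [One X] [DecidableEq X] (q c : X) : Decidable (Pw4 q c) := by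
  unfold Pw4
  infer_instance

theorem quat2_centralizer : ∀ q c : QuaternionGroup 2, q * q ≠ 1 → c * q = q * c → Pw4 q c := by
  decide

theorem quat2_pow_four : ∀ q : QuaternionGroup 2, q * q * q * q = 1 := by decide

theorem quat2_sq_eq : ∀ q : QuaternionGroup 2, q * q ≠ 1 → q * q = a 1 * a 1 := by decide

theorem quat2_index_two : ∀ q s t : QuaternionGroup 2, q * q ≠ 1 → ¬ Pw4 q s → ¬ Pw4 q t →
    Pw4 q (s * t) := by decide

theorem quat2_out_sq : ∀ q s : QuaternionGroup 2, q * q ≠ 1 → ¬ Pw4 q s → s * s ≠ 1 := by decide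

theorem quat2_conj_inv : ∀ q : QuaternionGroup 2, ∃ s : QuaternionGroup 2, s * q * s⁻¹ = q⁻¹ := by
  decide

theorem quat2_gen : ∀ x y q : QuaternionGroup 2, Pw4 x y ∨ Pw4 y x ∨
    (q = 1 ∨ q = x ∨ q = x * x ∨ q = x * x * x ∨ q = y ∨ q = x * y ∨ q = x * x * y ∨
      q = x * x * x * y) := by decide

theorem quat2_cover : ∀ x y s t : QuaternionGroup 2, x * x ≠ 1 → y * y ≠ 1 → s * s ≠ 1 →
    ¬ Pw4 x y → ¬ Pw4 x s → ¬ Pw4 y s → ¬ Pw4 s t → Pw4 x t ∨ Pw4 y t := by decide

theorem quat2_central : ∀ c : QuaternionGroup 2, c * a 1 = a 1 * c → c * xa 0 = xa 0 * c →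
    c = 1 ∨ c = a 1 * a 1 := by decide

section general

variable {G : Type*} [Group G]

theorem Pw4.mem_zpowers {β x : G} (h : Pw4 β x) : x ∈ Subgroup.zpowers β := by
  rcases h with rfl | rfl | rfl | rfl
  · exact Subgroup.one_mem _
  · exact Subgroup.mem_zpowers _
  · exact Subgroup.mul_mem _ (Subgroup.mem_zpowers _) (Subgroup.mem_zpowers _)
  · exact Subgroup.mul_mem _ (Subgroup.mul_mem _ (Subgroup.mem_zpowers _) (Subgroup.mem_zpowers _))
      (Subgroup.mem_zpowers _)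

theorem pw4_of_mem_zpowers {β x : G} (h4 : β * β * β * β = 1) (h : x ∈ Subgroup.zpowers β) :
    Pw4 β x := by
  obtain ⟨j, rfl⟩ := Subgroup.mem_zpowers_iff.mp h
  have h4' : β ^ (4 : ℤ) = 1 := by
    have : β ^ (4 : ℤ) = β * β * β * β := by
      have : β ^ (4 : ℤ) = β ^ (4 : ℕ) := by norm_cast
      rw [this, pow_succ, pow_succ, pow_succ, pow_one]
    rw [this, h4]
  have e : β ^ j = β ^ (j % 4) := by
    conv_lhs => rw [← Int.mul_ediv_add_emod j 4, zpow_add, zpow_mul, h4', one_zpow, one_mul]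
  have h0 : 0 ≤ j % 4 := Int.emod_nonneg _ (by norm_num)
  have h1 : j % 4 < 4 := Int.emod_lt_of_pos _ (by norm_num)
  rw [e]
  unfold Pw4
  have hcases : j % 4 = 0 ∨ j % 4 = 1 ∨ j % 4 = 2 ∨ j % 4 = 3 := by omega
  rcases hcases with h | h | h | h <;> rw [h]
  · left; simp
  · right; left; simp
  · right; right; left
    have : β ^ (2 : ℤ) = β ^ (2 : ℕ) := by norm_cast
    rw [this, pow_succ, pow_one]
  · right; right; right
    have : β ^ (3 : ℤ) = β ^ (3 : ℕ) := by norm_cast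
    rw [this, pow_succ, pow_succ, pow_one]

variable (S : Subgroup G)

theorem pw4_quatEmb_iff (e : S ≃* QuaternionGroup 2) (q c : QuaternionGroup 2) :
    Pw4 (quatEmb S e q) (quatEmb S e c) ↔ Pw4 q c := by
  unfold Pw4
  simp only [← map_mul, ← map_one (quatEmb S e), (quatEmb_injective S e).eq_iff]

theorem qs_pow_four (e : S ≃* QuaternionGroup 2) {s : G} (hs : s ∈ S) : s * s * s * s = 1 := by
  obtain ⟨q, rfl⟩ := quatEmb_surj S e s hs
  simp only [← map_mul, quat2_pow_four, map_one]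

theorem qs_mem_zpowers_iff (e : S ≃* QuaternionGroup 2) {β x : G} (hβ : β ∈ S) : x ∈ Subgroup.zpowers β ↔ Pw4 β x :=
  ⟨pw4_of_mem_zpowers (qs_pow_four S e hβ), Pw4.mem_zpowers⟩

/-- The centralizer in `S` of an element of order four is the cyclic group it generates. -/
theorem qs_centralizer (e : S ≃* QuaternionGroup 2) {s t : G} (hs : s ∈ S) (ht : t ∈ S) (h2 : s * s ≠ 1) (hc : t * s = s * t) :
    t ∈ Subgroup.zpowers s := by
  obtain ⟨q, rfl⟩ := quatEmb_surj S e s hs
  obtain ⟨c, rfl⟩ := quatEmb_surj S e t ht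
  apply Pw4.mem_zpowers
  rw [pw4_quatEmb_iff]
  apply quat2_centralizer
  · intro h
    apply h2
    rw [← map_mul, h, map_one]
  · apply quatEmb_injective S e
    rw [map_mul, map_mul, hc]

/-- The square of an element of order four is the involution. -/
theorem qs_sq_eq (e : S ≃* QuaternionGroup 2) {s : G} (hs : s ∈ S) (h2 : s * s ≠ 1) :
    s * s = quatEmb S e (a 1) * quatEmb S e (a 1) := by
  obtain ⟨q, rfl⟩ := quatEmb_surj S e s hs
  rw [← map_mul, ← map_mul]
  congr 1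
  apply quat2_sq_eq
  intro h
  apply h2
  rw [← map_mul, h, map_one]

theorem qs_index_two (e : S ≃* QuaternionGroup 2) {β s t : G} (hβ : β ∈ S) (hs : s ∈ S) (ht : t ∈ S) (h2 : β * β ≠ 1)
    (hsβ : s ∉ Subgroup.zpowers β) (htβ : t ∉ Subgroup.zpowers β) :
    s * t ∈ Subgroup.zpowers β := by
  obtain ⟨q, rfl⟩ := quatEmb_surj S e β hβ
  obtain ⟨c, rfl⟩ := quatEmb_surj S e s hs
  obtain ⟨d, rfl⟩ := quatEmb_surj S e t ht
  rw [← map_mul]
  apply Pw4.mem_zpowers
  rw [pw4_quatEmb_iff]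
  apply quat2_index_two
  · intro h
    apply h2
    rw [← map_mul, h, map_one]
  · intro h
    exact hsβ (Pw4.mem_zpowers ((pw4_quatEmb_iff S e q c).mpr h))
  · intro h
    exact htβ (Pw4.mem_zpowers ((pw4_quatEmb_iff S e q d).mpr h))

theorem qs_out_sq (e : S ≃* QuaternionGroup 2) {β s : G} (hβ : β ∈ S) (hs : s ∈ S) (h2 : β * β ≠ 1)
    (hsβ : s ∉ Subgroup.zpowers β) : s * s ≠ 1 := by
  obtain ⟨q, rfl⟩ := quatEmb_surj S e β hβ
  obtain ⟨c, rfl⟩ := quatEmb_surj S e s hs
  intro h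
  rw [← map_mul, ← map_one (quatEmb S e), (quatEmb_injective S e).eq_iff] at h
  revert h
  apply quat2_out_sq q c
  · intro h
    apply h2
    rw [← map_mul, h, map_one]
  · intro h
    exact hsβ (Pw4.mem_zpowers ((pw4_quatEmb_iff S e q c).mpr h))

theorem qs_conj_inv (e : S ≃* QuaternionGroup 2) {s : G} (hs : s ∈ S) : ∃ t ∈ S, t * s * t⁻¹ = s⁻¹ := by
  obtain ⟨q, rfl⟩ := quatEmb_surj S e s hs
  obtain ⟨c, hc⟩ := quat2_conj_inv q
  refine ⟨quatEmb S e c, quatEmb_mem S e c, ?_⟩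
  rw [← map_inv, ← map_inv, ← map_mul, ← map_mul, hc]

/-- Two elements of `S`, neither a power of the other, generate `S`. -/
theorem qs_gen (e : S ≃* QuaternionGroup 2) {x y : G} (hx : x ∈ S) (hy : y ∈ S) (hxy : y ∉ Subgroup.zpowers x)
    (hyx : x ∉ Subgroup.zpowers y) (H : Subgroup G) (hxH : x ∈ H) (hyH : y ∈ H) : S ≤ H := by
  obtain ⟨p, rfl⟩ := quatEmb_surj S e x hx
  obtain ⟨r, rfl⟩ := quatEmb_surj S e y hy
  intro s hs
  obtain ⟨q, rfl⟩ := quatEmb_surj S e s hs
  rcases quat2_gen p r q with h | h | h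
  · exact absurd (Pw4.mem_zpowers ((pw4_quatEmb_iff S e p r).mpr h)) hxy
  · exact absurd (Pw4.mem_zpowers ((pw4_quatEmb_iff S e r p).mpr h)) hyx
  · rcases h with rfl | rfl | rfl | rfl | rfl | rfl | rfl | rfl
    · rw [map_one]; exact H.one_mem
    · exact hxH
    · rw [map_mul]; exact H.mul_mem hxH hxH
    · rw [map_mul, map_mul]; exact H.mul_mem (H.mul_mem hxH hxH) hxH
    · exact hyH
    · rw [map_mul]; exact H.mul_mem hxH hyH
    · rw [map_mul, map_mul]; exact H.mul_mem (H.mul_mem hxH hxH) hyH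
    · rw [map_mul, map_mul, map_mul]; exact H.mul_mem (H.mul_mem (H.mul_mem hxH hxH) hxH) hyH

theorem qs_cover (e : S ≃* QuaternionGroup 2) {x y s t : G} (hx : x ∈ S) (hy : y ∈ S) (hs : s ∈ S) (ht : t ∈ S)
    (hx2 : x * x ≠ 1) (hy2 : y * y ≠ 1) (hs2 : s * s ≠ 1) (hxy : y ∉ Subgroup.zpowers x)
    (hxs : s ∉ Subgroup.zpowers x) (hys : s ∉ Subgroup.zpowers y) (hst : t ∉ Subgroup.zpowers s) :
    t ∈ Subgroup.zpowers x ∨ t ∈ Subgroup.zpowers y := by
  obtain ⟨p, rfl⟩ := quatEmb_surj S e x hx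
  obtain ⟨r, rfl⟩ := quatEmb_surj S e y hy
  obtain ⟨c, rfl⟩ := quatEmb_surj S e s hs
  obtain ⟨d, rfl⟩ := quatEmb_surj S e t ht
  have hne : ∀ q : QuaternionGroup 2, quatEmb S e q * quatEmb S e q ≠ 1 → q * q ≠ 1 := by
    intro q h h'
    apply h
    rw [← map_mul, h', map_one]
  have hnp : ∀ q c : QuaternionGroup 2, quatEmb S e c ∉ Subgroup.zpowers (quatEmb S e q) →
      ¬ Pw4 q c := by
    intro q c h h'
    exact h (Pw4.mem_zpowers ((pw4_quatEmb_iff S e q c).mpr h'))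
  rcases quat2_cover p r c d (hne _ hx2) (hne _ hy2) (hne _ hs2) (hnp _ _ hxy) (hnp _ _ hxs)
    (hnp _ _ hys) (hnp _ _ hst) with h | h
  · left; exact Pw4.mem_zpowers ((pw4_quatEmb_iff S e p d).mpr h)
  · right; exact Pw4.mem_zpowers ((pw4_quatEmb_iff S e r d).mpr h)

/-- The centre of `S`. -/
theorem qs_central (e : S ≃* QuaternionGroup 2) {c : G} (hc : c ∈ S) (h1 : c * quatEmb S e (a 1) = quatEmb S e (a 1) * c)
    (h2 : c * quatEmb S e (xa 0) = quatEmb S e (xa 0) * c) :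
    c = 1 ∨ c = quatEmb S e (a 1) * quatEmb S e (a 1) := by
  obtain ⟨q, rfl⟩ := quatEmb_surj S e c hc
  rw [← map_mul, ← map_mul, (quatEmb_injective S e).eq_iff] at h1 h2
  rcases quat2_central q h1 h2 with h | h
  · left; rw [h, map_one]
  · right; rw [h, map_mul]

/-- For `s ∈ S`: order four iff the square is nontrivial. -/
theorem qs_orderOf_eq_four_iff (e : S ≃* QuaternionGroup 2) {s : G} (hs : s ∈ S) : orderOf s = 4 ↔ s * s ≠ 1 := by
  constructor
  · intro ho h
    have : orderOf s ∣ 2 := orderOf_dvd_of_pow_eq_one (by rw [sq]; exact h)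
    rw [ho] at this
    omega
  · intro h
    have h4 : s ^ 4 = 1 := by
      rw [pow_succ, pow_succ, pow_succ, pow_one]
      exact qs_pow_four S e hs
    have hd : orderOf s ∣ 4 := orderOf_dvd_of_pow_eq_one h4
    have hle : orderOf s ≤ 4 := Nat.le_of_dvd (by norm_num) hd
    have hpos : 0 < orderOf s := Nat.pos_of_dvd_of_pos hd (by norm_num)
    have h2 : ¬ orderOf s ∣ 2 := by
      intro hd2
      apply h
      have := orderOf_dvd_iff_pow_eq_one.mp hd2
      rwa [sq] at this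
    interval_cases hn : orderOf s
    · exact absurd (one_dvd 2) h2
    · exact absurd (dvd_refl 2) h2
    · omega
    · rfl

/-- A proper subgroup of `S` is contained in a cyclic subgroup. -/
theorem qs_proper_le_zpowers (e : S ≃* QuaternionGroup 2) [Finite G] (H : Subgroup G) (hHS : H ≤ S) (hne : H ≠ S) :
    ∃ β : G, H ≤ Subgroup.zpowers β := by
  by_cases hpair : ∃ x ∈ H, ∃ y ∈ H, y ∉ Subgroup.zpowers x ∧ x ∉ Subgroup.zpowers y
  · exfalso
    obtain ⟨x, hx, y, hy, hxy, hyx⟩ := hpair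
    exact hne (le_antisymm hHS (qs_gen S e (hHS hx) (hHS hy) hxy hyx H hx hy))
  · push Not at hpair
    obtain ⟨β, hβH, hmax⟩ := Set.exists_max_image (H : Set G) (fun g => orderOf g)
      (Set.toFinite _) ⟨1, H.one_mem⟩
    refine ⟨β, ?_⟩
    intro y hy
    by_contra hyβ
    have hβy : β ∈ Subgroup.zpowers y := hpair β hβH y hy hyβ
    have hle : Subgroup.zpowers β ≤ Subgroup.zpowers y := by
      rw [Subgroup.zpowers_le]; exact hβy
    have hcard : Nat.card (Subgroup.zpowers y) ≤ Nat.card (Subgroup.zpowers β) := by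
      rw [Nat.card_zpowers, Nat.card_zpowers]
      exact hmax y hy
    have heq : Subgroup.zpowers β = Subgroup.zpowers y :=
      Subgroup.eq_of_le_of_card_ge hle hcard
    apply hyβ
    rw [heq]
    exact Subgroup.mem_zpowers y

end general

end Cfsg.Agent.Lib.Helper30
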