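import Mathlib
import Cfsg.Agent.Lib.Helper30.BSQ8Quat
import Cfsg.Agent.Lib.Helper30.PPrimeCore
import Cfsg.Agent.Lib.Helper84.PCore
import Cfsg.Agent.Lib.Helper78.PNilpotent

set_option autoImplicit false

/-!
Group-theoretic input for Brauer–Suzuki with a quaternion Sylow subgroup of order eight:
the centralizer of an element of order four, and fusion of the elements of order four.
-/

namespace Cfsg.Agent.Lib.Helper30

open Cfsg QuaternionGroup
open scoped Pointwise commutatorElement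

section

variable {G : Type*} [Group G] [Finite G]

/-- The centralizer of an element of order four of a quaternion Sylow subgroup of order eight
has a normal `2`-complement and Sylow `2`-subgroups of order four. -/
theorem bsq8_centralizer_facts (S : Sylow 2 G) (e : (S : Subgroup G) ≃* QuaternionGroup 2) :
    (∃ k : ℕ, (pPrimeCore 2 (Subgroup.centralizer
      ({quatEmb (S : Subgroup G) e (a 1)} : Set G))).index = 2 ^ k) ∧
    (Nat.card (Subgroup.centralizer
      ({quatEmb (S : Subgroup G) e (a 1)} : Set G))).factorization 2 = 2 := by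
  have : Fact (Nat.Prime 2) := ⟨Nat.prime_two⟩
  set α : G := quatEmb (S : Subgroup G) e (a 1) with hα
  have hαS : α ∈ (S : Subgroup G) := quatEmb_mem _ e _
  have hoα : orderOf α = 4 := by
    rw [hα, orderOf_quatEmb, QuaternionGroup.orderOf_a_one]
  have hα2 : α * α ≠ 1 := (qs_orderOf_eq_four_iff (S : Subgroup G) e hαS).mp hoα
  set C : Subgroup G := Subgroup.centralizer ({α} : Set G) with hC
  have hαC : α ∈ C := Subgroup.mem_centralizer_singleton_iff.mpr rfl
  set αC : C := ⟨α, hαC⟩ with hαCdef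
  have hcomm : ∀ c : C, (c : G) * α = α * (c : G) := fun c =>
    Subgroup.mem_centralizer_singleton_iff.mp c.2
  have hcommC : ∀ c : C, c * αC = αC * c := fun c => Subtype.ext (hcomm c)
  have hcommZ : ∀ (c : C) (j : ℤ), c * αC ^ j = αC ^ j * c := by
    intro c j
    have h0 : Commute c αC := hcommC c
    have : Commute c (αC ^ j) := h0.zpow_right j
    exact this.eq
  obtain ⟨P⟩ : Nonempty (Sylow 2 C) := inferInstance
  have hnormA : (Subgroup.zpowers αC).Normal := by
    constructor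
    intro x hx c
    obtain ⟨j, rfl⟩ := Subgroup.mem_zpowers_iff.mp hx
    rw [hcommZ c j, mul_assoc, mul_inv_cancel, mul_one]
    exact hx
  have hpA : IsPGroup 2 (Subgroup.zpowers αC) := by
    apply IsPGroup.of_card (n := 2)
    rw [Nat.card_zpowers, hαCdef, Subgroup.orderOf_mk, hoα]
    norm_num
  have hAP : Subgroup.zpowers αC ≤ (P : Subgroup C) :=
    Cfsg.Agent.Lib.Helper84.normal_pGroup_le_sylow hnormA hpA P
  have hPA : (P : Subgroup C) ≤ Subgroup.zpowers αC := by
    have hP' : IsPGroup 2 ((P : Subgroup C).map C.subtype) := P.isPGroup'.map C.subtype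
    obtain ⟨R, hR⟩ := hP'.exists_le_sylow
    obtain ⟨g, hg⟩ := MulAction.exists_smul_eq G R S
    have key : ∀ x : C, x ∈ (P : Subgroup C) → g * (x : G) * g⁻¹ ∈ (S : Subgroup G) := by
      intro x hx
      have h1 : (x : G) ∈ (R : Subgroup G) := hR ⟨x, hx, rfl⟩
      rw [← hg, Sylow.coe_subgroup_smul]
      have := Subgroup.smul_mem_pointwise_smul (x : G) (MulAut.conj g) (R : Subgroup G) h1
      simpa [MulAut.smul_def] using this
    set β : G := g * α * g⁻¹ with hβ
    have hβS : β ∈ (S : Subgroup G) := key αC (hAP (Subgroup.mem_zpowers αC))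
    have hβ2 : β * β ≠ 1 := by
      intro h
      apply hα2
      have e1 : β * β = g * (α * α) * g⁻¹ := by rw [hβ]; group
      rw [e1] at h
      have := congrArg (fun t => g⁻¹ * t * g) h
      simpa [mul_assoc] using this
    intro x hx
    have hxS := key x hx
    have hcx : (g * (x : G) * g⁻¹) * β = β * (g * (x : G) * g⁻¹) := by
      rw [hβ]
      calc g * (x : G) * g⁻¹ * (g * α * g⁻¹) = g * ((x : G) * α) * g⁻¹ := by group
        _ = g * (α * (x : G)) * g⁻¹ := by rw [hcomm x]
        _ = g * α * g⁻¹ * (g * (x : G) * g⁻¹) := by group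
    have hmem := qs_centralizer (S : Subgroup G) e hβS hxS hβ2 hcx
    obtain ⟨j, hj⟩ := Subgroup.mem_zpowers_iff.mp hmem
    refine Subgroup.mem_zpowers_iff.mpr ⟨j, ?_⟩
    apply Subtype.ext
    have e2 : β ^ j = g * α ^ j * g⁻¹ := by
      rw [hβ, conj_zpow]
    rw [e2] at hj
    have e3 : α ^ j = (x : G) := by
      have := congrArg (fun t => g⁻¹ * t * g) hj
      simpa [mul_assoc] using this
    rw [← e3]
    simp [hαCdef]
  have hPeq : (P : Subgroup C) = Subgroup.zpowers αC := le_antisymm hPA hAP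
  have hcardP : Nat.card (P : Subgroup C) = 4 := by
    rw [hPeq, Nat.card_zpowers, hαCdef, Subgroup.orderOf_mk, hoα]
  have hfac : (Nat.card C).factorization 2 = 2 := by
    have h1 := P.card_eq_multiplicity
    rw [hcardP] at h1
    have h2 : (2 : ℕ) ^ 2 = 2 ^ (Nat.card C).factorization 2 := by
      rw [← h1]; norm_num
    exact (Nat.pow_right_injective (le_refl 2) h2).symm
  refine ⟨?_, hfac⟩
  have hNC : Subgroup.normalizer ((P : Subgroup C) : Set C) ≤
      Subgroup.centralizer ((P : Subgroup C) : Set C) := by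
    intro c _
    rw [Subgroup.mem_centralizer_iff]
    intro p hp
    have hp' : p ∈ Subgroup.zpowers αC := by
      rw [← hPeq]; exact hp
    obtain ⟨j, rfl⟩ := Subgroup.mem_zpowers_iff.mp hp'
    exact (hcommZ c j).symm
  obtain ⟨K, hKn, hKc, hKcop, -⟩ :=
    Cfsg.Agent.Lib.Helper78.exists_normal_pComplement_of_normalizer_le_centralizer P hNC
  have hle : K ≤ pPrimeCore 2 C := le_pPrimeCore 2 K hKcop
  have hdvd : (pPrimeCore 2 C).index ∣ K.index := Subgroup.index_dvd_of_le hle
  have hKidx : K.index = 4 := by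
    rw [hKc.symm.index_eq_card, hcardP]
  rw [hKidx] at hdvd
  have h4 : (4 : ℕ) = 2 ^ 2 := by norm_num
  rw [h4] at hdvd
  obtain ⟨k, _, hk⟩ := (Nat.dvd_prime_pow Nat.prime_two).mp hdvd
  exact ⟨k, hk⟩

/-- One fusion step: if no proper normal subgroup contains the involution, an element of order
four of `S` is conjugate to an element of `S` outside the cyclic group it generates. -/
theorem bsq8_fusion_step (S : Sylow 2 G) (e : (S : Subgroup G) ≃* QuaternionGroup 2)
    (hnorm : ∀ N : Subgroup G, N.Normal →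
      quatEmb (S : Subgroup G) e (a 1) * quatEmb (S : Subgroup G) e (a 1) ∈ N → N = ⊤)
    (β : G) (hβS : β ∈ (S : Subgroup G)) (hβ2 : β * β ≠ 1) :
    ∃ s ∈ (S : Subgroup G), s ∉ Subgroup.zpowers β ∧ ∃ c : G, c * β * c⁻¹ = s := by
  have : Fact (Nat.Prime 2) := ⟨Nat.prime_two⟩
  by_contra hcon
  push Not at hcon
  set A : Subgroup G := Subgroup.zpowers β with hA
  have h4 : β * β * β * β = 1 := qs_pow_four (S : Subgroup G) e hβS
  have hconj : ∀ c : G, c * β * c⁻¹ ∈ (S : Subgroup G) → c * β * c⁻¹ ∈ A := by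
    intro c hc
    by_contra h
    exact hcon _ hc h c rfl
  have hconj' : ∀ c : G, c * β⁻¹ * c⁻¹ ∈ (S : Subgroup G) → c * β⁻¹ * c⁻¹ ∈ A := by
    intro c hc
    have e1 : c * β * c⁻¹ = (c * β⁻¹ * c⁻¹)⁻¹ := by group
    have h1 : c * β * c⁻¹ ∈ (S : Subgroup G) := by
      rw [e1]; exact Subgroup.inv_mem _ hc
    have h2 := A.inv_mem (hconj c h1)
    rwa [e1, inv_inv] at h2
  -- elements of order four of `A` are `β` or `β⁻¹`
  have hstar : ∀ y ∈ A, y * y ≠ 1 → ∀ c : G, c * y * c⁻¹ ∈ (S : Subgroup G) →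
      c * y * c⁻¹ ∈ A := by
    intro y hy hy2 c hc
    rcases (qs_mem_zpowers_iff (S : Subgroup G) e hβS).mp hy with rfl | rfl | rfl | rfl
    · exact absurd (mul_one 1) hy2
    · exact hconj c hc
    · exfalso
      apply hy2
      rw [← h4]; group
    · have e1 : β * β * β = β⁻¹ := by
        have : β * β * β * β = β⁻¹ * β := by rw [h4, inv_mul_cancel]
        exact mul_right_cancel this
      rw [e1] at hc ⊢
      exact hconj' c hc
  have hfoc : Subgroup.focalSubgroup (S : Subgroup G) ≤ A := by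
    rw [Subgroup.focalSubgroup_def, Subgroup.closure_le]
    rintro g ⟨hgS, x, hxS, u, rfl⟩
    by_contra hgA
    set x' : G := u * x⁻¹ * u⁻¹ with hx'
    have hg : ⁅x, u⁆ = x * x' := by
      rw [commutatorElement_def, hx']; group
    have hx'S : x' ∈ (S : Subgroup G) := by
      have : x' = x⁻¹ * ⁅x, u⁆ := by rw [hg]; group
      rw [this]
      exact Subgroup.mul_mem _ (Subgroup.inv_mem _ hxS) hgS
    have hsq : x' * x' = u * (x * x)⁻¹ * u⁻¹ := by rw [hx']; group
    by_cases hxA : x ∈ A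
    · have hx'A : x' ∉ A := fun h => hgA (by
        show ⁅x, u⁆ ∈ A
        rw [hg]; exact A.mul_mem hxA h)
      have hx'2 : x' * x' ≠ 1 := qs_out_sq (S : Subgroup G) e hβS hx'S hβ2 hx'A
      have hx2 : x⁻¹ * x⁻¹ ≠ 1 := by
        intro h
        apply hx'2
        have : (x * x)⁻¹ = x⁻¹ * x⁻¹ := by group
        rw [hsq, this, h]; group
      exact hx'A (hstar x⁻¹ (A.inv_mem hxA) hx2 u hx'S)
    · have hx'A : x' ∈ A := by
        by_contra h
        apply hgA
        show ⁅x, u⁆ ∈ A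
        rw [hg]
        exact qs_index_two (S : Subgroup G) e hβS hxS hx'S hβ2 hxA h
      have hx2 : x * x ≠ 1 := qs_out_sq (S : Subgroup G) e hβS hxS hβ2 hxA
      have hx'2 : x' * x' ≠ 1 := by
        intro h
        apply hx2
        rw [hsq] at h
        have h1 := congrArg (fun t => u⁻¹ * t * u) h
        have h2 : (x * x)⁻¹ = 1 := by simpa [mul_assoc] using h1
        exact inv_eq_one.mp h2
      have e1 : u⁻¹ * x' * u⁻¹⁻¹ = x⁻¹ := by rw [hx']; group
      have h3 : u⁻¹ * x' * u⁻¹⁻¹ ∈ A := by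
        apply hstar x' hx'A hx'2 u⁻¹
        rw [e1]; exact Subgroup.inv_mem _ hxS
      rw [e1] at h3
      exact hxA (by simpa using A.inv_mem h3)
  have hfst : _root_.commutator G ⊓ (S : Subgroup G) = Subgroup.focalSubgroup (S : Subgroup G) :=
    Subgroup.commutator_inf_eq_focalSubgroup S
  -- the normal subgroup `G' A`
  set N : Subgroup G := _root_.commutator G ⊔ A with hN
  have hNn : N.Normal := by
    constructor
    intro n hn g
    have e1 : g * n * g⁻¹ = ⁅g, n⁆ * n := by rw [commutatorElement_def]; group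
    rw [e1]
    apply Subgroup.mul_mem _ _ hn
    apply (le_sup_left : _root_.commutator G ≤ N)
    exact Subgroup.commutator_mem_commutator (Subgroup.mem_top g) (Subgroup.mem_top n)
  have hzN : quatEmb (S : Subgroup G) e (a 1) * quatEmb (S : Subgroup G) e (a 1) ∈ N := by
    rw [← qs_sq_eq (S : Subgroup G) e hβS hβ2]
    apply (le_sup_right : A ≤ N)
    exact A.mul_mem (Subgroup.mem_zpowers β) (Subgroup.mem_zpowers β)
  have hNtop := hnorm N hNn hzN
  obtain ⟨t, htS, ht⟩ := qs_conj_inv (S : Subgroup G) e hβS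
  have htA : t ∉ A := by
    intro h
    obtain ⟨j, rfl⟩ := Subgroup.mem_zpowers_iff.mp h
    have hc : Commute (β ^ j) β := (Commute.refl β).zpow_left j
    rw [hc.eq, mul_assoc, mul_inv_cancel, mul_one] at ht
    apply hβ2
    nth_rewrite 1 [ht]
    exact inv_mul_cancel β
  have htN : t ∈ N := by rw [hNtop]; exact Subgroup.mem_top t
  have htN' : t ∈ ((_root_.commutator G ⊔ A : Subgroup G) : Set G) := htN
  rw [Subgroup.normal_mul] at htN'
  obtain ⟨c, hc, a', ha', hca⟩ := Set.mem_mul.mp htN'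
  have hcS : c ∈ (S : Subgroup G) := by
    have : c = t * a'⁻¹ := by rw [← hca]; group
    rw [this]
    exact Subgroup.mul_mem _ htS (Subgroup.inv_mem _
      ((Subgroup.zpowers_le.mpr hβS : A ≤ (S : Subgroup G)) ha'))
  have hcA : c ∈ A := by
    apply hfoc
    rw [← hfst]
    exact ⟨hc, hcS⟩
  apply htA
  rw [← hca]
  exact A.mul_mem hcA ha'

/-- Fusion: if no proper normal subgroup contains the involution, all elements of order four of
`S` are conjugate in `G`. -/
theorem bsq8_fusion (S : Sylow 2 G) (e : (S : Subgroup G) ≃* QuaternionGroup 2)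
    (hnorm : ∀ N : Subgroup G, N.Normal →
      quatEmb (S : Subgroup G) e (a 1) * quatEmb (S : Subgroup G) e (a 1) ∈ N → N = ⊤) :
    ∀ s ∈ (S : Subgroup G), orderOf s = 4 →
      ∃ c : G, c * quatEmb (S : Subgroup G) e (a 1) * c⁻¹ = s := by
  set α : G := quatEmb (S : Subgroup G) e (a 1) with hα
  have hαS : α ∈ (S : Subgroup G) := quatEmb_mem _ e _
  have hoα : orderOf α = 4 := by
    rw [hα, orderOf_quatEmb, QuaternionGroup.orderOf_a_one]
  have hα2 : α * α ≠ 1 := (qs_orderOf_eq_four_iff (S : Subgroup G) e hαS).mp hoα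
  have hstep := bsq8_fusion_step S e hnorm
  have htrans : ∀ x y w : G, (∃ c : G, c * x * c⁻¹ = y) → (∃ c : G, c * y * c⁻¹ = w) →
      ∃ c : G, c * x * c⁻¹ = w := by
    rintro x y w ⟨c, rfl⟩ ⟨d, rfl⟩
    exact ⟨d * c, by group⟩
  have hsymm : ∀ x y : G, (∃ c : G, c * x * c⁻¹ = y) → ∃ c : G, c * y * c⁻¹ = x := by
    rintro x y ⟨c, rfl⟩
    exact ⟨c⁻¹, by group⟩
  -- inside a cyclic subgroup generated by an element of order four
  have hcyc : ∀ β ∈ (S : Subgroup G), β * β ≠ 1 → ∀ x ∈ Subgroup.zpowers β, x * x ≠ 1 →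
      ∃ c : G, c * β * c⁻¹ = x := by
    intro β hβS hβ2 x hx hx2
    have h4 : β * β * β * β = 1 := qs_pow_four (S : Subgroup G) e hβS
    rcases (qs_mem_zpowers_iff (S : Subgroup G) e hβS).mp hx with rfl | rfl | rfl | rfl
    · exact absurd (mul_one 1) hx2
    · exact ⟨1, by group⟩
    · exfalso
      apply hx2
      rw [← h4]; group
    · obtain ⟨t, _, ht⟩ := qs_conj_inv (S : Subgroup G) e hβS
      refine ⟨t, ?_⟩
      rw [ht]
      have : β * β * β * β = β⁻¹ * β := by rw [h4, inv_mul_cancel]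
      exact (mul_right_cancel this).symm
  obtain ⟨s₁, hs₁S, hs₁α, hRαs₁⟩ := hstep α hαS hα2
  have hs₁2 : s₁ * s₁ ≠ 1 := qs_out_sq (S : Subgroup G) e hαS hs₁S hα2 hs₁α
  intro s hsS hs4
  have hs2 : s * s ≠ 1 := (qs_orderOf_eq_four_iff (S : Subgroup G) e hsS).mp hs4
  by_cases h1 : s ∈ Subgroup.zpowers α
  · exact hcyc α hαS hα2 s h1 hs2
  by_cases h2 : s ∈ Subgroup.zpowers s₁
  · exact htrans _ _ _ hRαs₁ (hcyc s₁ hs₁S hs₁2 s h2 hs2)
  obtain ⟨s₂, hs₂S, hs₂s, hRss₂⟩ := hstep s hsS hs2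
  have hs₂2 : s₂ * s₂ ≠ 1 := qs_out_sq (S : Subgroup G) e hsS hs₂S hs2 hs₂s
  rcases qs_cover (S : Subgroup G) e hαS hs₁S hsS hs₂S hα2 hs₁2 hs2 hs₁α h1 h2 hs₂s with h | h
  · exact htrans _ _ _ (hcyc α hαS hα2 s₂ h hs₂2) (hsymm _ _ hRss₂)
  · exact htrans _ _ _ (htrans _ _ _ hRαs₁ (hcyc s₁ hs₁S hs₁2 s₂ h hs₂2)) (hsymm _ _ hRss₂)

end

end Cfsg.Agent.Lib.Helper30
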