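import Mathlib
import Cfsg.Agent.Lib.Helper30.BSQ8Group
import Cfsg.Agent.Lib.Helper30.BSQ8Block
import Cfsg.Agent.Lib.Helper3.BrauerSuzuki3
import Cfsg.Agent.Lib.Helper80.Kernel

set_option autoImplicit false

/-!
**Brauer–Suzuki** for a quaternion Sylow `2`-subgroup of order eight: if the group has no nontrivial
normal subgroup of odd order, its centre has order two.
-/

namespace Cfsg.Agent.Lib.Helper30

open Cfsg QuaternionGroup

universe u

/-- If the Sylow `2`-subgroups have a unique involution, two commuting involutions coincide. -/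
theorem commuting_involutions_eq {G : Type*} [Group G] [Finite G] (S : Sylow 2 G) (z : G)
    (hz : ∀ s ∈ (S : Subgroup G), orderOf s = 2 → s = z) (u v : G) (hu : orderOf u = 2)
    (hv : orderOf v = 2) (hc : u * v = v * u) : u = v := by
  have : Fact (Nat.Prime 2) := ⟨Nat.prime_two⟩
  have hPu : IsPGroup 2 (Subgroup.zpowers u) := by
    apply IsPGroup.of_card (n := 1)
    rw [Nat.card_zpowers, hu, pow_one]
  have hPv : IsPGroup 2 (Subgroup.zpowers v) := by
    apply IsPGroup.of_card (n := 1)
    rw [Nat.card_zpowers, hv, pow_one]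
  have hcomm : u * v * u⁻¹ = v := by
    rw [hc, mul_assoc, mul_inv_cancel, mul_one]
  have hu2 : u * u = 1 := by
    have := pow_orderOf_eq_one u
    rwa [hu, sq] at this
  have hui : u⁻¹ = u := inv_eq_of_mul_eq_one_right hu2
  have hnorm : Subgroup.zpowers u ≤
      Subgroup.normalizer ((Subgroup.zpowers v : Subgroup G) : Set G) := by
    rw [Subgroup.zpowers_le, Subgroup.mem_normalizer_iff]
    intro x
    have hcv : ∀ y ∈ Subgroup.zpowers v, u * y * u⁻¹ = y := by
      intro y hy
      obtain ⟨j, rfl⟩ := Subgroup.mem_zpowers_iff.mp hy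
      rw [← conj_zpow, hcomm]
    constructor
    · intro hx
      rw [hcv x hx]; exact hx
    · intro hx
      have e1 : x = u⁻¹ * (u * x * u⁻¹) * u := by group
      have e2 : u⁻¹ * (u * x * u⁻¹) * u = u * (u * x * u⁻¹) * u⁻¹ := by rw [hui]
      rw [e1, e2, hcv _ hx]
      exact hx
  have hP : IsPGroup 2 ((Subgroup.zpowers u ⊔ Subgroup.zpowers v : Subgroup G)) :=
    IsPGroup.to_sup_of_normal_right' hPu hPv hnorm
  exact Cfsg.Agent.Lib.Helper3.involution_unique_of_isPGroup S z hz _ hP u v
    (le_sup_left (a := Subgroup.zpowers u) (Subgroup.mem_zpowers u))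
    (le_sup_right (b := Subgroup.zpowers v) (Subgroup.mem_zpowers v)) hu hv

/-- The involution of a quaternion Sylow subgroup of order eight is central when the group has no
nontrivial normal subgroup of odd order (induction on the order). -/
theorem bsq8_involution_central_aux : ∀ (n : ℕ) (G : Type u) [Group G] [Finite G],
    Nat.card G = n → ∀ (S : Sylow 2 G) (e : (S : Subgroup G) ≃* QuaternionGroup 2),
    (∀ N : Subgroup G, N.Normal → Odd (Nat.card N) → N = ⊥) →
    quatEmb (S : Subgroup G) e (a 1) * quatEmb (S : Subgroup G) e (a 1) ∈ Subgroup.center G := by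
  intro n
  induction n using Nat.strong_induction_on with
  | _ n ih =>
  intro G _ _ hcard S e hO
  have : Fact (Nat.Prime 2) := ⟨Nat.prime_two⟩
  set α : G := quatEmb (S : Subgroup G) e (a 1) with hα
  have hαS : α ∈ (S : Subgroup G) := quatEmb_mem _ e _
  have hoα : orderOf α = 4 := by
    rw [hα, orderOf_quatEmb, QuaternionGroup.orderOf_a_one]
  set z : G := α * α with hzdef
  have hzsq : z = α ^ 2 := by rw [hzdef, sq]
  have hoz : orderOf z = 2 := by
    rw [hzsq, orderOf_pow_of_dvd (by norm_num) (by rw [hoα]; norm_num), hoα]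
  have hz : ∀ s ∈ (S : Subgroup G), orderOf s = 2 → s = z := by
    intro s hs ho
    rw [hzsq]
    exact Cfsg.Agent.Lib.Helper3.involution_eq_of_quat (S : Subgroup G) 2 e s hs ho
  have hcrit : (∀ g : G, g * z * g⁻¹ = z) → z ∈ Subgroup.center G := by
    intro h
    rw [Subgroup.mem_center_iff]
    intro g
    calc g * z = (g * z * g⁻¹) * g := by group
      _ = z * g := by rw [h]
  have hconjo : ∀ g : G, orderOf (g * z * g⁻¹) = 2 := by
    intro g
    have : g * z * g⁻¹ = MulAut.conj g z := by simp
    rw [this, MulEquiv.orderOf_eq, hoz]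
  have h0 : pPrimeCore 2 G = ⊥ := Cfsg.Agent.Lib.Helper3.pPrimeCore_two_eq_bot_of_forall hO
  by_cases hex : ∃ N : Subgroup G, N.Normal ∧ z ∈ N ∧ N ≠ ⊤
  · obtain ⟨N, hNn, hzN, hNtop⟩ := hex
    apply hcrit
    by_cases hSN : (S : Subgroup G) ≤ N
    · -- the Sylow subgroup lies in `N`: induction
      have hcardN : Nat.card N < n := by
        rw [← hcard]
        apply lt_of_le_of_ne (Subgroup.card_le_card_group N)
        intro h
        exact hNtop (Subgroup.eq_top_of_card_eq N h)
      set S' : Sylow 2 N := S.subtype hSN with hS'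
      let e' : ((S' : Subgroup N)) ≃* QuaternionGroup 2 :=
        (Subgroup.subgroupOfEquivOfLe hSN).trans e
      have hO' : ∀ K : Subgroup N, K.Normal → Odd (Nat.card K) → K = ⊥ := by
        intro K hKn hKodd
        have h1 : (pPrimeCore 2 N).map N.subtype ≤ pPrimeCore 2 G := pPrimeCore_normal_le 2 N
        rw [h0, le_bot_iff, Subgroup.map_eq_bot_iff_of_injective _ N.subtype_injective] at h1
        have h2 : K ≤ pPrimeCore 2 N := le_pPrimeCore 2 K (Nat.coprime_two_right.mpr hKodd)
        rw [h1] at h2
        exact le_bot_iff.mp h2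
      have hIH := ih (Nat.card N) hcardN N rfl S' e' hO'
      have hcoe : ((quatEmb (S' : Subgroup N) e' (a 1) : N) : G) = α := rfl
      intro g
      set w : G := g * z * g⁻¹ with hw
      have hwN : w ∈ N := hNn.conj_mem z hzN g
      have hcomm : z * w = w * z := by
        have h1 := Subgroup.mem_center_iff.mp hIH ⟨w, hwN⟩
        have h2 := congrArg Subtype.val h1
        simp only [Subgroup.coe_mul, hcoe] at h2
        exact h2.symm
      exact (commuting_involutions_eq S z hz z w hoz (hconjo g) hcomm).symm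
    · -- `N` meets `S` in a proper subgroup: `N` is a `2`-group inside `S`
      have hne : (S : Subgroup G) ⊓ N ≠ (S : Subgroup G) := by
        intro h
        exact hSN (h ▸ inf_le_right)
      obtain ⟨β, hβ⟩ := qs_proper_le_zpowers (S : Subgroup G) e _ inf_le_left hne
      have hSM : ∀ s ∈ (S : Subgroup G), s ∈ N → s ∈ Subgroup.zpowers β :=
        fun s hs hsN => hβ ⟨hs, hsN⟩
      have hNp : IsPGroup 2 N := by
        apply Cfsg.Agent.Lib.Helper54.isPGroup_two_of_cyclic_sylow_normal h0
        intro Q
        exact Cfsg.Agent.Lib.Helper3.isCyclic_sylow_of_inter_le S β N hSM N le_rfl Q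
      have hNS : N ≤ (S : Subgroup G) :=
        Cfsg.Agent.Lib.Helper84.normal_pGroup_le_sylow hNn hNp S
      intro g
      exact hz _ (hNS (hNn.conj_mem z hzN g)) (hconjo g)
  · -- no proper normal subgroup contains the involution: impossible
    exfalso
    have hnorm : ∀ N : Subgroup G, N.Normal → z ∈ N → N = ⊤ := by
      intro N hNn hzN
      by_contra hne
      exact hex ⟨N, hNn, hzN, hne⟩
    have hfus := bsq8_fusion S e hnorm
    obtain ⟨hidx, hfac⟩ := bsq8_centralizer_facts S e
    obtain ⟨χ, hχ1, hχz⟩ := bsq8_exists_char S e hfus hidx hfac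
    obtain ⟨K, hKn, hKmem, -⟩ := Cfsg.Agent.Lib.Helper80.irr_exists_ker χ
    have hzK : z ∈ K := by
      rw [hKmem, hzsq]
      exact hχz
    have hK := hnorm K hKn hzK
    have hconst : ∀ g : G, (χ : G → ℂ) g = (χ : G → ℂ) 1 := by
      intro g
      rw [← hKmem, hK]
      exact Subgroup.mem_top g
    classical
    have : Fintype G := Fintype.ofFinite G
    have hinner := Cfsg.Agent.Lib.Helper3.classInner_irr χ.2
      (Cfsg.Agent.Lib.Helper81.isIrrCharacter_one (G := G))
    rw [if_neg hχ1] at hinner
    unfold classInner at hinner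
    have hG : (Nat.card G : ℂ) ≠ 0 := by
      have : 0 < Nat.card G := Nat.card_pos
      exact_mod_cast this.ne'
    have hsum : ∑ g : G, (χ : G → ℂ) g * (starRingEnd ℂ) 1 = (Nat.card G : ℂ) * (χ : G → ℂ) 1 := by
      rw [Finset.sum_congr rfl (fun g _ => by rw [hconst g, map_one, mul_one])]
      rw [Finset.sum_const, Finset.card_univ, Nat.card_eq_fintype_card]
      simp
    rw [hsum, ← mul_assoc, inv_mul_cancel₀ hG, one_mul] at hinner
    exact Cfsg.Agent.Lib.Helper80.irr_one_ne_zero χ hinner

/-- **Brauer–Suzuki** (order eight): with trivial odd core the centre has order two. -/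
theorem bs_center_q8 {G : Type*} [Group G] [Finite G] (S : Sylow 2 G)
    (e : (S : Subgroup G) ≃* QuaternionGroup 2)
    (hO : ∀ N : Subgroup G, N.Normal → Odd (Nat.card N) → N = ⊥) :
    Nat.card (Subgroup.center G) = 2 := by
  have : Fact (Nat.Prime 2) := ⟨Nat.prime_two⟩
  have hzc := bsq8_involution_central_aux (Nat.card G) G rfl S e hO
  set α : G := quatEmb (S : Subgroup G) e (a 1) with hα
  have hαS : α ∈ (S : Subgroup G) := quatEmb_mem _ e _
  have hoα : orderOf α = 4 := by
    rw [hα, orderOf_quatEmb, QuaternionGroup.orderOf_a_one]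
  have hα2 : α * α ≠ 1 := (qs_orderOf_eq_four_iff (S : Subgroup G) e hαS).mp hoα
  -- every central element is `1` or the involution
  have key : ∀ c ∈ Subgroup.center G, c = 1 ∨ c = α * α := by
    intro c hc
    have hcomm : ∀ g : G, g * c = c * g := fun g => Subgroup.mem_center_iff.mp hc g
    have ho0 : orderOf c ≠ 0 := (orderOf_pos c).ne'
    obtain ⟨k, r, hr, hkr⟩ := Nat.exists_eq_two_pow_mul_odd ho0
    have hc' : c ^ (2 ^ k) = 1 := by
      have hnorm : (Subgroup.zpowers (c ^ (2 ^ k))).Normal := by
        constructor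
        intro x hx g
        have hxc : x ∈ Subgroup.center G := by
          obtain ⟨j, rfl⟩ := Subgroup.mem_zpowers_iff.mp hx
          exact Subgroup.zpow_mem _ (Subgroup.pow_mem _ hc _) j
        have : g * x * g⁻¹ = x := by
          rw [Subgroup.mem_center_iff.mp hxc g, mul_assoc, mul_inv_cancel, mul_one]
        rw [this]; exact hx
      have hodd : Odd (Nat.card (Subgroup.zpowers (c ^ (2 ^ k)))) := by
        rw [Nat.card_zpowers, orderOf_pow_of_dvd (by positivity)
          (by rw [hkr]; exact dvd_mul_right _ _), hkr,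
          Nat.mul_div_cancel_left _ (by positivity)]
        exact hr
      have hbot := hO _ hnorm hodd
      have : c ^ (2 ^ k) ∈ (⊥ : Subgroup G) := by
        rw [← hbot]; exact Subgroup.mem_zpowers _
      exact Subgroup.mem_bot.mp this
    have hPc : IsPGroup 2 (Subgroup.zpowers c) := by
      intro x
      refine ⟨k, ?_⟩
      obtain ⟨x, hx⟩ := x
      obtain ⟨j, rfl⟩ := Subgroup.mem_zpowers_iff.mp hx
      apply Subtype.ext
      simp only [Subgroup.coe_pow, Subgroup.coe_one]
      rw [← zpow_natCast, ← zpow_mul, mul_comm, zpow_mul, zpow_natCast, hc', one_zpow]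
    have hnc : (Subgroup.zpowers c).Normal := by
      constructor
      intro x hx g
      have hxc : x ∈ Subgroup.center G := by
        obtain ⟨j, rfl⟩ := Subgroup.mem_zpowers_iff.mp hx
        exact Subgroup.zpow_mem _ hc j
      have : g * x * g⁻¹ = x := by
        rw [Subgroup.mem_center_iff.mp hxc g, mul_assoc, mul_inv_cancel, mul_one]
      rw [this]; exact hx
    have hcS : c ∈ (S : Subgroup G) :=
      Cfsg.Agent.Lib.Helper84.normal_pGroup_le_sylow hnc hPc S (Subgroup.mem_zpowers c)
    exact qs_central (S : Subgroup G) e hcS (hcomm _).symm (hcomm _).symm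
  have hz1 : α * α ≠ 1 := hα2
  rw [Nat.card_eq_two_iff]
  refine ⟨1, ⟨α * α, hzc⟩, ?_, ?_⟩
  · intro hh
    apply hz1
    have := congrArg Subtype.val hh
    simpa using this.symm
  · ext c
    simp only [Set.mem_insert_iff, Set.mem_singleton_iff, Set.mem_univ, iff_true]
    rcases key c c.2 with h1 | h2
    · left; exact Subtype.ext h1
    · right; exact Subtype.ext h2

end Cfsg.Agent.Lib.Helper30
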