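import Cfsg.Agent.Lib.Helper30.BG142A
import Cfsg.Agent.Lib.Helper62.BG13K2
import Cfsg.Agent.Lib.Helper70.BG134c
import Cfsg.Agent.Lib.Helper71.BadB3
import Cfsg.Agent.S1423
import Cfsg.Agent.S1425
import Cfsg.Agent.S1426

/-!
# BG Theorem 14.2 (e)-(g) = S1431, part B: the four clauses
-/

set_option autoImplicit false
set_option linter.unusedSectionVars false
set_option linter.unusedVariables false

universe u

namespace Cfsg.Agent.Lib.Helper30.BG142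

open Subgroup Cfsg Cfsg.Agent.Lib.Helper33 Cfsg.Agent.Lib.Helper63
open Cfsg.Agent.Lib.Helper56.BG143 (Stmt1430 C1430 C1431 exists_prime_sub)
open Cfsg.Agent.Lib.Helper70.BG14 (Stmt1378b)
open scoped commutatorElement

variable {G : Type u} [Group G] [Finite G]

/-- `C_G(Y) ≤ M` for `Y ≤ K*` of prime order -/
theorem cent_le_of_kstar (hG : IsMinSimpleOddOrder G) (h30 : Stmt1430 G) (h78 : Stmt1378b G)
    {M K : Subgroup G} (hM : IsCoatom M) (hK : IsPiHallOf (kappa M) K M) (hK1 : K ≠ ⊥)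
    {Y : Subgroup G} (hY : Y ≤ sigmaCore M ⊓ centralizer (K : Set G)) (hYp : (Nat.card Y).Prime) :
    centralizer (Y : Set G) ≤ M := by
  have hσM := BG13.hallStmt hG M hM
  have hY1 : Y ≠ ⊥ := ne_bot_of_card_prime hYp
  have hYM : Y ≤ M := (hY.trans inf_le_left).trans hσM.1
  have hYtop : Y ≠ ⊤ := fun h => hM.1 (top_le_iff.mp (h ▸ hYM))
  obtain ⟨L, hL, hNL⟩ :=
    Cfsg.Agent.Lib.Helper64.BG9.exists_coatom_ge (BG10.normalizer_ne_top hG hY1 hYtop)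
  have hLM : L = M := uniq_of_kstar hG h30 h78 hM hK hK1 hY hYp hL hNL
  exact (Subgroup.centralizer_le_normalizer _).trans (hLM ▸ hNL)

/-- **(a)**: `K* ∩ M^g = 1` for `g ∉ M`. -/
theorem part_a (hG : IsMinSimpleOddOrder G) (h30 : Stmt1430 G) (h78 : Stmt1378b G)
    {M K : Subgroup G} (hM : IsCoatom M) (hK : IsPiHallOf (kappa M) K M) (hK1 : K ≠ ⊥)
    {g : G} (hg : g ∉ M) :
    (sigmaCore M ⊓ centralizer (K : Set G)) ⊓ M.map (MulAut.conj g).toMonoidHom = ⊥ := by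
  by_contra hne
  have hσM := BG13.hallStmt hG M hM
  obtain ⟨y, hyle, hyp⟩ := exists_prime_sub hne
  obtain ⟨Y, hYdef⟩ : ∃ Y : Subgroup G, Y = zpowers y := ⟨_, rfl⟩
  rw [← hYdef] at hyle hyp
  have hYK : Y ≤ sigmaCore M ⊓ centralizer (K : Set G) := hyle.trans inf_le_left
  have hYg : Y ≤ cj g M := hyle.trans inf_le_right
  have hCM := cent_le_of_kstar hG h30 h78 hM hK hK1 hYK hyp
  obtain ⟨t, ht⟩ : ∃ t, t = Nat.card Y := ⟨_, rfl⟩
  have htp : t.Prime := ht ▸ hyp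
  have : Fact t.Prime := ⟨htp⟩
  have hYW : Y ≤ sigmaCore M := hYK.trans inf_le_left
  have hYM : Y ≤ M := hYW.trans hσM.1
  have htσM : t ∈ sigma M := hσM.2.1 t htp (ht ▸ Subgroup.card_dvd_of_le hYW)
  have hcjY : Y.map (MulAut.conj g⁻¹).toMonoidHom ≤ M := by
    have h1 : cj g⁻¹ Y ≤ M := by
      rw [cj_le_iff, inv_inv]
      exact hYg
    exact h1
  obtain ⟨m, hm, c, hc, hgmc⟩ :=
    (Cfsg.Agent.S1404.result hG M hM t htσM Y (isPGroup_of_card_prime ht.symm)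
      (ne_bot_of_card_prime hyp) hYM).1 g⁻¹ hcjY
  have h1 : g⁻¹ ∈ M := hgmc ▸ M.mul_mem hm (hCM hc)
  exact hg (by simpa using M.inv_mem h1)

/-- **(b)**: `K ∩ K^g = 1` for `g ∈ M ∖ K K*`. -/
theorem part_b (hG : IsMinSimpleOddOrder G) (h30 : Stmt1430 G)
    {M K : Subgroup G} (hM : IsCoatom M) (hK : IsPiHallOf (kappa M) K M) (hK1 : K ≠ ⊥)
    {g : G} (hgM : g ∈ M) (hg : g ∉ K ⊔ (sigmaCore M ⊓ centralizer (K : Set G))) :
    K ⊓ K.map (MulAut.conj g).toMonoidHom = ⊥ := by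
  by_contra hne
  obtain ⟨x, hxle, hxp⟩ := exists_prime_sub hne
  obtain ⟨X, hXdef⟩ : ∃ X : Subgroup G, X = zpowers x := ⟨_, rfl⟩
  rw [← hXdef] at hxle hxp
  have hXK : X ≤ K := hxle.trans inf_le_left
  have hXg : X ≤ cj g K := hxle.trans inf_le_right
  obtain ⟨p, hp⟩ : ∃ p, p = Nat.card X := ⟨_, rfl⟩
  have hpp : p.Prime := hp ▸ hxp
  have : Fact p.Prime := ⟨hpp⟩
  have hpκ : p ∈ kappa M := hK.2.1 p hpp (hp ▸ Subgroup.card_dvd_of_le hXK)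
  have hXp : IsPGroup p X := isPGroup_of_card_prime hp.symm
  -- the other subgroup of order `p`
  have hX'K : cj g⁻¹ X ≤ K := by
    rw [cj_le_iff, inv_inv]; exact hXg
  have hX'p : IsPGroup p (cj g⁻¹ X) := isPGroup_cj hXp
  -- a Sylow `p`-subgroup of `K`
  obtain ⟨P₀⟩ : Nonempty (Sylow p K) := inferInstance
  obtain ⟨hPK, hPp, hPi⟩ := Cfsg.Agent.Lib.Helper24.sylow_map_facts K P₀
  obtain ⟨P, hPdef⟩ : ∃ P : Subgroup G, P = (P₀ : Subgroup K).map K.subtype := ⟨_, rfl⟩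
  rw [← hPdef] at hPK hPp hPi
  obtain ⟨c, hc, hcle⟩ := Cfsg.Agent.Lib.Helper33.sylow_sub hPK hPp hPi hXK hXp
  obtain ⟨c', hc', hcle'⟩ := Cfsg.Agent.Lib.Helper33.sylow_sub hPK hPp hPi hX'K hX'p
  -- `P` lies in a cyclic Sylow subgroup of `M`
  obtain ⟨Q, hPQ⟩ := Cfsg.Agent.Lib.Helper32.BG12.exists_sylow_map_ge (hPK.trans hK.1) hPp
  have hQc : IsCyclic ↥((Q : Subgroup M).map M.subtype) := by
    have h1 : IsCyclic ↥(Q : Subgroup M) := (hpκ.2.2.2 Q).1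
    exact isCyclic_of_surjective
      ((Q : Subgroup M).equivMapOfInjective M.subtype M.subtype_injective).toMonoidHom
      ((Q : Subgroup M).equivMapOfInjective M.subtype M.subtype_injective).surjective
  have heq : cj c X = cj c' (cj g⁻¹ X) :=
    Cfsg.Agent.Lib.Helper71.BadB3.eq_of_le_cyclic hQc (hcle.trans hPQ) (hcle'.trans hPQ)
      (by rw [card_cj, card_cj, card_cj])
  -- so `c⁻¹ c' g⁻¹` normalizes `X`
  have hn : cj (c⁻¹ * c' * g⁻¹) X = X := by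
    rw [mul_assoc, cj_mul, cj_mul, ← heq, cj_inv_cj]
  have hmem : c⁻¹ * c' * g⁻¹ ∈ M ⊓ normalizer (X : Set G) :=
    ⟨M.mul_mem (M.mul_mem (M.inv_mem (hK.1 hc)) (hK.1 hc')) (M.inv_mem hgM),
      cj_eq_self_iff.1 hn⟩
  obtain ⟨-, -, h3⟩ := h30 M hM K hK hK1
  obtain ⟨hNX, -, -⟩ := h3 X hXK hxp
  rw [hNX] at hmem
  apply hg
  set KK := K ⊔ (sigmaCore M ⊓ centralizer (K : Set G)) with hKK
  have hcK : c ∈ KK := (le_sup_left : K ≤ KK) hc
  have hc'K : c' ∈ KK := (le_sup_left : K ≤ KK) hc'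
  have h5 : g = (c⁻¹ * c' * g⁻¹)⁻¹ * (c⁻¹ * c') := by group
  rw [h5]
  exact KK.mul_mem (KK.inv_mem hmem) (KK.mul_mem (KK.inv_mem hcK) hc'K)

/-- **(d)**: a `σ(M)`-subgroup meeting `K*` nontrivially lies in `M_σ`. -/
theorem part_d (hG : IsMinSimpleOddOrder G) {M K : Subgroup G} (hM : IsCoatom M)
    (ha : ∀ g : G, g ∉ M →
      (sigmaCore M ⊓ centralizer (K : Set G)) ⊓ M.map (MulAut.conj g).toMonoidHom = ⊥)
    {Y : Subgroup G} (hYσ : ∀ p : ℕ, p.Prime → p ∣ Nat.card Y → p ∈ sigma M)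
    (hne : Y ⊓ (sigmaCore M ⊓ centralizer (K : Set G)) ≠ ⊥) : Y ≤ sigmaCore M := by
  have hσM := BG13.hallStmt hG M hM
  have hY1 : Y ≠ ⊥ := by
    intro h
    apply hne
    rw [h, bot_inf_eq]
  obtain ⟨g, hgY⟩ := Cfsg.Agent.S1425.result hG M hM Y hY1 hYσ
  have hgY' : cj g Y ≤ sigmaCore M := hgY
  obtain ⟨⟨y, hy⟩, hy1⟩ := (Subgroup.ne_bot_iff_exists_ne_one).1 hne
  have hy1' : y ≠ 1 := fun h => hy1 (Subtype.ext h)
  have hgM : g⁻¹ ∈ M := by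
    by_contra hgn
    have h1 : y ∈ cj g⁻¹ M := by
      rw [mem_cj, inv_inv]
      exact hσM.1 (hgY' (conj_mem_cj hy.1))
    have h2 : y ∈ (sigmaCore M ⊓ centralizer (K : Set G)) ⊓
        M.map (MulAut.conj g⁻¹).toMonoidHom := ⟨hy.2, h1⟩
    rw [ha g⁻¹ hgn, mem_bot] at h2
    exact hy1' h2
  have h3 : cj g⁻¹ (cj g Y) ≤ cj g⁻¹ (sigmaCore M) := cj_mono hgY'
  rw [cj_inv_cj, cj_eq_self_iff.2 (Cfsg.Agent.Lib.Helper24.BG.le_normalizer_sigmaCore M hgM)] at h3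
  exact h3

end Cfsg.Agent.Lib.Helper30.BG142
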