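import Cfsg.Agent.Lib.Helper30.BG1390A
import Cfsg.Agent.S1366
import Cfsg.Agent.S1434
import Cfsg.Agent.Lib.Helper96.BG142IV
import Cfsg.Agent.Lib.Helper32.BG142A

/-!
# B&G Section 16, part B: type P data give `κ(M) ≠ ∅` and `W₁` is a Hall `κ(M)`-subgroup
-/

set_option autoImplicit false

namespace Cfsg.Agent.Lib.Helper30.BG1390

open Subgroup Cfsg Cfsg.Agent.Lib.Helper33

universe u

variable {G : Type u} [Group G] [Finite G]

/-- `κ(M) = τ₁(M)` as soon as `κ(M)` is nonempty (S1434 with the data of S1351, S1352, S1366) -/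
theorem kappa_eq_tau1 (hG : IsMinSimpleOddOrder G) {M : Subgroup G} (hM : IsCoatom M)
    (hne : (kappa M).Nonempty) : kappa M = tau1 M := by
  obtain ⟨q, hq⟩ := hne
  have hqp : q.Prime := hq.1
  obtain ⟨⟨K, hK⟩, hcyc⟩ := Cfsg.Agent.S1351.result hG M hM
  have hKc : IsCyclic K := hcyc K hK
  have hqK : q ∣ Nat.card K := hallKappa_ne_bot hK hq
  have hK1 : K ≠ ⊥ := by
    intro h
    rw [h, Subgroup.card_bot] at hqK
    exact hqp.one_lt.ne' (Nat.dvd_one.mp hqK)
  obtain ⟨Us, hKU⟩ := (Cfsg.Agent.S1352.result hG M hM K hKc hK).1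
  obtain ⟨Mstar, ⟨hMs, hKst, hKstH⟩, -⟩ := Cfsg.Agent.S1366.result hG M hM K Us hKU hK1
  exact (Cfsg.Agent.S1434.result hG M hM K Us hKU hK1 Mstar hMs hKst hKstH).1

omit [Finite G] in
/-- for type P data, `|W₁ : M|`-index is `|M'|` -/
theorem typeP_relIndex {M W₁ U W₂ : Subgroup G} (hP : IsTypePWith M W₁ U W₂) [Finite W₁] :
    W₁.relIndex M = Nat.card ↥⁅M, M⁆ := by
  have h1 := Cfsg.Agent.Lib.Helper23.card_isComplIn hP.W₁_compl
  have h2 : W₁.relIndex M * Nat.card W₁ = Nat.card M := by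
    have := Subgroup.relIndex_mul_relIndex (⊥ : Subgroup G) W₁ M bot_le hP.W₁_compl.2.1
    rw [Subgroup.relIndex_bot_left, Subgroup.relIndex_bot_left] at this
    rw [mul_comm]; exact this
  have hpos : 0 < Nat.card W₁ := Nat.card_pos
  exact Nat.eq_of_mul_eq_mul_right hpos (h2.trans h1.symm)

/-- for type P data, `|W₁|` is prime to `|M'|` -/
theorem typeP_coprime {M W₁ U W₂ : Subgroup G} (hP : IsTypePWith M W₁ U W₂) :
    (Nat.card W₁).Coprime (Nat.card ↥⁅M, M⁆) := by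
  rw [← typeP_relIndex hP]; exact hP.W₁_hall

/-- every prime divisor of `|W₁|` lies in `κ(M)` -/
theorem typeP_mem_kappa (hG : IsMinSimpleOddOrder G) {M : Subgroup G} (hM : IsCoatom M)
    {W₁ U W₂ : Subgroup G} (hP : IsTypePWith M W₁ U W₂) {q : ℕ} (hqp : q.Prime)
    (hq : q ∣ Nat.card W₁) : q ∈ kappa M := by
  have : Fact q.Prime := ⟨hqp⟩
  have hW₁M : W₁ ≤ M := hP.W₁_compl.2.1
  have hcop := typeP_coprime hP
  have hqM' : ¬ q ∣ Nat.card ↥⁅M, M⁆ := by
    intro h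
    have := Nat.Coprime.eq_one_of_dvd (hcop.coprime_dvd_left hq) h
    exact hqp.one_lt.ne' this
  obtain ⟨-, hFσ, hσM', -, -⟩ := Cfsg.Agent.S1355.result hG M hM
  obtain ⟨⟨hσM, hσ, hσi⟩, -, -⟩ := Cfsg.Agent.S1350.result hG M hM
  have hqM : q ∣ Nat.card M := hq.trans (Subgroup.card_dvd_of_le hW₁M)
  -- `q ∉ σ(M)`
  have hqσ : q ∉ sigma M := by
    intro h
    have h1 : (sigmaCore M).relIndex M * Nat.card (sigmaCore M) = Nat.card M := by
      have := Subgroup.relIndex_mul_relIndex (⊥ : Subgroup G) (sigmaCore M) M bot_le hσM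
      rw [Subgroup.relIndex_bot_left, Subgroup.relIndex_bot_left] at this
      rw [mul_comm]; exact this
    rw [← h1] at hqM
    rcases (Nat.Prime.dvd_mul hqp).mp hqM with h2 | h2
    · exact hσi q hqp h h2
    · exact hqM' (h2.trans (Subgroup.card_dvd_of_le hσM'))
  -- the Sylow `q`-subgroups of `M` are cyclic
  obtain ⟨Q⟩ : Nonempty (Sylow q W₁) := inferInstance
  obtain ⟨hVW, hVp, hVi⟩ := Cfsg.Agent.Lib.Helper24.sylow_map_facts W₁ Q
  set V := (Q : Subgroup W₁).map W₁.subtype with hV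
  have hVM : V ≤ M := hVW.trans hW₁M
  have hViM : ¬ q ∣ V.relIndex M := by
    rw [← Subgroup.relIndex_mul_relIndex V W₁ M hVW hW₁M]
    intro h
    rcases (Nat.Prime.dvd_mul hqp).mp h with h | h
    · exact hVi h
    · rw [typeP_relIndex hP] at h; exact hqM' h
  have hSyl : ∀ P : Sylow q ↥M, IsCyclic P := by
    intro P
    obtain ⟨hP1, hP2, -⟩ := Cfsg.Agent.Lib.Helper24.sylow_map_facts M P
    set P' := (P : Subgroup M).map M.subtype with hP'
    obtain ⟨c, -, hle⟩ := sylow_sub hVM hVp hViM hP1 hP2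
    have hW₁c : IsCyclic W₁ := hP.W₁_cyclic
    have hcyc : IsCyclic ↥(cj c P') := Subgroup.isCyclic_of_le (hle.trans hVW)
    have e1 : ↥(P : Subgroup ↥M) ≃* ↥P' :=
      (P : Subgroup ↥M).equivMapOfInjective M.subtype M.subtype_injective
    have e2 : ↥P' ≃* ↥(cj c P') := cjEquiv c P'
    exact isCyclic_of_surjective (e1.trans e2).symm.toMonoidHom (e1.trans e2).symm.surjective
  have hr1 : PRankLE q 1 ↥M :=
    Cfsg.Agent.Lib.Helper32.BG142.pRankLE_one_of_sylow_cyclic hqp hSyl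
  -- a subgroup of order `q` of `W₁`
  obtain ⟨w, hw⟩ := exists_prime_orderOf_dvd_card' (G := ↥W₁) q hq
  have hw1 : (w : G) ≠ 1 := by
    intro h
    have : w = 1 := Subtype.ext h
    rw [this, orderOf_one] at hw
    exact hqp.one_lt.ne hw
  have hRM : zpowers (w : G) ≤ M := zpowers_le.mpr (hW₁M w.2)
  have hRc : Nat.card (zpowers (w : G)) = q := by
    rw [Nat.card_zpowers, Subgroup.orderOf_coe, hw]
  have hW₂1 : W₂ ≠ ⊥ := hP.selfNormalizing.2.1
  have hW₂le : W₂ ≤ sigmaCore M ⊓ centralizer (zpowers (w : G) : Set G) := by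
    refine le_inf ((hP.W₂_le.trans inf_le_left).trans hFσ) ?_
    rw [zpowers_eq_closure, centralizer_closure, ← hP.W₂_centralizer (w : G) w.2 hw1]
    exact inf_le_right
  have hne : sigmaCore M ⊓ centralizer (zpowers (w : G) : Set G) ≠ ⊥ := by
    intro h
    rw [h, le_bot_iff] at hW₂le
    exact hW₂1 hW₂le
  exact Cfsg.Agent.Lib.Helper32.BG142.mem_kappa_of_rank_one hG hqσ hr1 hRM hRc hne

/-- type P data make `κ(M)` nonempty -/
theorem typeP_kappa_nonempty (hG : IsMinSimpleOddOrder G) {M : Subgroup G} (hM : IsCoatom M)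
    {W₁ U W₂ : Subgroup G} (hP : IsTypePWith M W₁ U W₂) : (kappa M).Nonempty := by
  have hc : Nat.card W₁ ≠ 1 := by
    intro h
    exact hP.W₁_ne (Subgroup.card_eq_one.mp h)
  obtain ⟨q, hqp, hq⟩ := Nat.exists_prime_and_dvd hc
  exact ⟨q, typeP_mem_kappa hG hM hP hqp hq⟩

/-- for type P data, `W₁` is a Hall `κ(M)`-subgroup of `M` -/
theorem typeP_hallKappa (hG : IsMinSimpleOddOrder G) {M : Subgroup G} (hM : IsCoatom M)
    {W₁ U W₂ : Subgroup G} (hP : IsTypePWith M W₁ U W₂) : IsPiHallOf (kappa M) W₁ M := by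
  refine ⟨hP.W₁_compl.2.1, fun p hp hd => typeP_mem_kappa hG hM hP hp hd, fun p _ hpκ => ?_⟩
  rw [typeP_relIndex hP]
  rw [kappa_eq_tau1 hG hM (typeP_kappa_nonempty hG hM hP)] at hpκ
  exact hpκ.2.2.2.1

/-- a maximal subgroup of Frobenius type carries no type P data -/
theorem not_typeP_of_typeF (hG : IsMinSimpleOddOrder G) {M : Subgroup G} (hM : IsCoatom M)
    (hF : IsOfTypeF ↥M) {W₁ U W₂ : Subgroup G} (hP : IsTypePWith M W₁ U W₂) : False := by
  obtain ⟨q, hq⟩ := typeP_kappa_nonempty hG hM hP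
  rw [typeF_kappa_empty hG hM hF] at hq
  exact hq

end Cfsg.Agent.Lib.Helper30.BG1390
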