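import Mathlib
import Cfsg.Agent.Lib.Helper87.AltModel

set_option autoImplicit false

/-! # S5165 leaf [AFF]: elements normalizing the base group `Bs` are monomial -/

namespace Cfsg.Agent.Lib.Helper87.AltF

open Equiv Subgroup

theorem aff_inv_apply {α : Type*} (f : Perm α) (x : α) : f⁻¹ (f x) = x := f.symm_apply_apply x

theorem aff_apply_inv {α : Type*} (f : Perm α) (x : α) : f (f⁻¹ x) = x := f.apply_symm_apply x

/-- every element of `Bs` is a blockwise translation (pointwise form) -/
theorem aff_Bs_pointwise {I : Type} [DecidableEq I] (p a0 : ℕ)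
    (b : Perm (PtI I p a0)) (hb : b ∈ Bs (I := I) p a0) :
    ∃ a : I → ZMod p, (∀ k s, b (Sum.inl (k, s)) = Sum.inl (k, s + a k)) ∧
      ∀ x, b (Sum.inr x) = Sum.inr x := by
  unfold Bs at hb
  induction hb using Subgroup.closure_induction with
  | mem x hx =>
    obtain ⟨k, rfl⟩ := hx
    refine ⟨fun j => if j = k then 1 else 0, ?_, fun x => rfl⟩
    intro j s
    by_cases h : j = k
    · subst h
      simp [cyc_inl_self]
    · simp [cyc_inl_of_ne p a0 h, h]
  | one => exact ⟨0, by simp, by simp⟩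
  | mul x y _ _ hx hy =>
    obtain ⟨a, ha1, ha2⟩ := hx
    obtain ⟨a', ha'1, ha'2⟩ := hy
    refine ⟨fun k => a' k + a k, ?_, ?_⟩
    · intro k s
      rw [Perm.mul_apply, ha'1, ha1, add_assoc]
    · intro x
      rw [Perm.mul_apply, ha'2, ha2]
  | inv x _ hx =>
    obtain ⟨a, ha1, ha2⟩ := hx
    refine ⟨fun k => - a k, ?_, ?_⟩
    · intro k s
      rw [Perm.inv_eq_iff_eq, ha1]
      simp
    · intro x
      rw [Perm.inv_eq_iff_eq, ha2]

/-- the function form of [AFF] (no bijectivity of `σ`, `τ` yet) -/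
theorem aff_fun {I : Type} [DecidableEq I] (p a0 : ℕ) [Fact p.Prime]
    (g : Perm (PtI I p a0))
    (hg : ∀ k : I, g * cyc p a0 k * g⁻¹ ∈ Bs (I := I) p a0) :
    ∃ (σ : I → I) (e : I → (ZMod p)ˣ) (μ : I → ZMod p),
      ∀ k s, g (Sum.inl (k, s)) = Sum.inl (σ k, (e k : ZMod p) * s + μ k) := by
  have hpp : p.Prime := Fact.out
  have hne : NeZero p := ⟨hpp.ne_zero⟩
  have key : ∀ k : I, ∃ (j : I) (c : (ZMod p)ˣ) (t : ZMod p),
      ∀ s, g (Sum.inl (k, s)) = Sum.inl (j, (c : ZMod p) * s + t) := by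
    intro k
    obtain ⟨a, ha1, ha2⟩ := aff_Bs_pointwise p a0 _ (hg k)
    -- the step relation
    have hstep : ∀ s, g (Sum.inl (k, s + 1)) = (g * cyc p a0 k * g⁻¹) (g (Sum.inl (k, s))) := by
      intro s
      simp [Perm.mul_apply, cyc_inl_self]
    have h10 : (Sum.inl (k, (0 : ZMod p) + 1) : PtI I p a0) ≠ Sum.inl (k, 0) := by
      intro h
      have h2 : ((0 : ZMod p) + 1) = 0 := by
        have := Sum.inl_injective h
        exact (Prod.mk.inj this).2
      simp at h2
    -- the image of `(k, 0)` is a block point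
    rcases h0 : g (Sum.inl (k, 0)) with ⟨j, t⟩ | x
    · have hind : ∀ n : ℕ, g (Sum.inl (k, (n : ZMod p))) = Sum.inl (j, t + n * a j) := by
        intro n
        induction n with
        | zero => simp [h0]
        | succ n ih =>
          have := hstep (n : ZMod p)
          rw [ih, ha1] at this
          rw [Nat.cast_succ, this]
          congr 2
          ring
      have haj : a j ≠ 0 := by
        intro h
        have h1 := hind 1
        rw [h, mul_zero, add_zero, ← h0] at h1
        have := g.injective h1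
        simp only [Nat.cast_one] at this
        apply h10
        rw [zero_add]
        exact this
      refine ⟨j, Units.mk0 (a j) haj, t, ?_⟩
      intro s
      have := hind s.val
      rw [ZMod.natCast_zmod_val] at this
      rw [this, Units.val_mk0]
      congr 2
      ring
    · exfalso
      have := hstep 0
      rw [h0, ha2, ← h0] at this
      exact h10 (g.injective this)
  choose σ e μ h using key
  exact ⟨σ, e, μ, h⟩

/-- [AFF] elements normalizing `Bs` are "monomial": `(k, s) ↦ (σ k, e k * s + μ k)`. -/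
theorem exists_affine_of_mem_normalizer {I : Type} [Fintype I] [DecidableEq I] (p a0 : ℕ)
    [Fact p.Prime] (g : Perm (PtI I p a0))
    (hg : g ∈ normalizer ((Bs (I := I) p a0 : Subgroup (Perm (PtI I p a0))) : Set (Perm (PtI I p a0)))) :
    ∃ (σ : Perm I) (e : I → (ZMod p)ˣ) (μ : I → ZMod p) (τ : Perm (Fin a0)),
      (∀ k s, g (Sum.inl (k, s)) = Sum.inl (σ k, (e k : ZMod p) * s + μ k)) ∧
      ∀ x, g (Sum.inr x) = Sum.inr (τ x) := by
  have hcyc : ∀ k : I, cyc p a0 k ∈ Bs (I := I) p a0 := fun k =>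
    Subgroup.subset_closure ⟨k, rfl⟩
  have hg' : g⁻¹ ∈ normalizer ((Bs (I := I) p a0 : Subgroup (Perm (PtI I p a0))) :
      Set (Perm (PtI I p a0))) := inv_mem hg
  have h1 : ∀ k : I, g * cyc p a0 k * g⁻¹ ∈ Bs (I := I) p a0 := fun k =>
    (Subgroup.mem_normalizer_iff.mp hg _).mp (hcyc k)
  have h2 : ∀ k : I, g⁻¹ * cyc p a0 k * g⁻¹⁻¹ ∈ Bs (I := I) p a0 := fun k =>
    (Subgroup.mem_normalizer_iff.mp hg' _).mp (hcyc k)
  obtain ⟨σ, e, μ, h⟩ := aff_fun p a0 g h1
  obtain ⟨σ', e', μ', h'⟩ := aff_fun p a0 g⁻¹ h2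
  have hl : Function.LeftInverse σ' σ := by
    intro k
    have := h' (σ k) ((e k : ZMod p) * 0 + μ k)
    rw [← h k 0, aff_inv_apply] at this
    exact ((Prod.mk.inj (Sum.inl_injective this)).1).symm
  have hr : Function.RightInverse σ' σ := by
    intro k
    have := h (σ' k) ((e' k : ZMod p) * 0 + μ' k)
    rw [← h' k 0, aff_apply_inv] at this
    exact ((Prod.mk.inj (Sum.inl_injective this)).1).symm
  -- the extra points
  have hinr : ∀ (f : Perm (PtI I p a0)) (f' : I → I) (c : I → (ZMod p)ˣ) (m : I → ZMod p),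
      (∀ k s, f⁻¹ (Sum.inl (k, s)) = Sum.inl (f' k, (c k : ZMod p) * s + m k)) →
      ∀ x : Fin a0, ∃ y : Fin a0, f (Sum.inr x) = Sum.inr y := by
    intro f f' c m hf x
    rcases hx : f (Sum.inr x) with ⟨j, t⟩ | y
    · exfalso
      have := hf j t
      rw [← hx, aff_inv_apply] at this
      exact Sum.inr_ne_inl this
    · exact ⟨y, rfl⟩
  have hτ := hinr g σ' e' μ' h'
  have hτ' := hinr g⁻¹ σ e μ (by simpa using h)
  choose τ hτ using hτ
  choose τ' hτ' using hτ'
  have hl2 : Function.LeftInverse τ' τ := by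
    intro x
    have := hτ' (τ x)
    rw [← hτ x, aff_inv_apply] at this
    exact (Sum.inr_injective this).symm
  have hr2 : Function.RightInverse τ' τ := by
    intro x
    have := hτ (τ' x)
    rw [← hτ' x, aff_apply_inv] at this
    exact (Sum.inr_injective this).symm
  exact ⟨⟨σ, σ', hl, hr⟩, e, μ, ⟨τ, τ', hl2, hr2⟩, h, hτ⟩

end Cfsg.Agent.Lib.Helper87.AltF
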