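import Mathlib
import Cfsg.Agent.Lib.Helper87.AltModel
import Cfsg.Agent.Lib.Helper30.AltFAFF

set_option autoImplicit false

/-! # S5165 leaf [U3], part a: the monomial calculus on `N(Bs)` -/

namespace Cfsg.Agent.Lib.Helper87.AltF

open Equiv Subgroup

section general

theorem u3_conj_mem_closure {G : Type*} [Group G] (S : Set G) (n : G)
    (h1 : ∀ s ∈ S, n * s * n⁻¹ ∈ closure S) : ∀ h ∈ closure S, n * h * n⁻¹ ∈ closure S := by
  intro h hh
  induction hh using Subgroup.closure_induction with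
  | mem x hx => exact h1 x hx
  | one => simp
  | mul x y _ _ hx hy =>
    have : n * (x * y) * n⁻¹ = (n * x * n⁻¹) * (n * y * n⁻¹) := by group
    rw [this]
    exact mul_mem hx hy
  | inv x _ hx =>
    have : n * x⁻¹ * n⁻¹ = (n * x * n⁻¹)⁻¹ := by group
    rw [this]
    exact inv_mem hx

theorem u3_mem_normalizer_of_conj_mem {G : Type*} [Group G] [Finite G] (H : Subgroup G) (n : G)
    (h : ∀ x ∈ H, n * x * n⁻¹ ∈ H) : n ∈ normalizer ((H : Subgroup G) : Set G) := by
  rw [Subgroup.mem_normalizer_iff]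
  intro y
  refine ⟨h y, fun hy => ?_⟩
  let φ : H → H := fun x => ⟨n * x * n⁻¹, h x x.2⟩
  have hinj : Function.Injective φ := by
    intro a b hab
    have : n * (a : G) * n⁻¹ = n * b * n⁻¹ := congrArg Subtype.val hab
    apply Subtype.ext
    simpa using this
  obtain ⟨x, hx⟩ := (Finite.injective_iff_surjective.mp hinj) ⟨n * y * n⁻¹, hy⟩
  have : n * (x : G) * n⁻¹ = n * y * n⁻¹ := congrArg Subtype.val hx
  have hxy : (x : G) = y := by simpa using this
  rw [← hxy]
  exact x.2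

end general

variable {I : Type} (p a0 : ℕ)

/-- blockwise translation -/
def u3_tr (a : I → ZMod p) : Perm (PtI I p a0) := blk p a0 1 (fun k => Equiv.addRight (a k))

/-- blockwise dilation -/
def u3_dg (e : I → (ZMod p)ˣ) : Perm (PtI I p a0) := blk p a0 1 (fun k => Units.mulLeft (e k))

@[simp] theorem u3_tr_inl (a : I → ZMod p) (k : I) (s : ZMod p) :
    u3_tr p a0 a (Sum.inl (k, s)) = Sum.inl (k, s + a k) := rfl

@[simp] theorem u3_tr_inr (a : I → ZMod p) (x : Fin a0) :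
    u3_tr p a0 a (Sum.inr x) = Sum.inr x := rfl

@[simp] theorem u3_dg_inl (e : I → (ZMod p)ˣ) (k : I) (s : ZMod p) :
    u3_dg p a0 e (Sum.inl (k, s)) = Sum.inl (k, (e k : ZMod p) * s) := rfl

@[simp] theorem u3_dg_inr (e : I → (ZMod p)ˣ) (x : Fin a0) :
    u3_dg p a0 e (Sum.inr x) = Sum.inr x := rfl

theorem u3_tr_add (a b : I → ZMod p) :
    u3_tr p a0 (a + b) = u3_tr p a0 a * u3_tr p a0 b := by
  refine Equiv.ext (fun x => ?_)
  rcases x with ⟨k, s⟩ | x
  · simp only [Perm.mul_apply, u3_tr_inl, Pi.add_apply]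
    congr 2
    ring
  · rfl

theorem u3_tr_zero : u3_tr (I := I) p a0 0 = 1 := by
  refine Equiv.ext (fun x => ?_)
  rcases x with ⟨k, s⟩ | x
  · simp
  · rfl

theorem u3_tr_comm (a b : I → ZMod p) :
    u3_tr p a0 a * u3_tr p a0 b = u3_tr p a0 b * u3_tr p a0 a := by
  rw [← u3_tr_add, ← u3_tr_add, add_comm]

theorem u3_tr_pow (a : I → ZMod p) (n : ℕ) : (u3_tr p a0 a) ^ n = u3_tr p a0 (n • a) := by
  induction n with
  | zero => simp [u3_tr_zero]
  | succ n ih => rw [pow_succ, ih, succ_nsmul, u3_tr_add]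

theorem u3_tr_pow_p [Fact p.Prime] (a : I → ZMod p) : (u3_tr p a0 a) ^ p = 1 := by
  rw [u3_tr_pow]
  have : p • a = 0 := by
    funext k
    simp
  rw [this, u3_tr_zero]

theorem u3_lift_mul (σ τ : Perm I) : lift p a0 (σ * τ) = lift p a0 σ * lift p a0 τ := by
  refine Equiv.ext (fun x => ?_)
  rcases x with ⟨k, s⟩ | x
  · rfl
  · rfl

theorem u3_lift_one : lift (I := I) p a0 1 = 1 := by
  refine Equiv.ext (fun x => ?_)
  rcases x with ⟨k, s⟩ | x
  · rfl
  · rfl

/-- `lift` as a homomorphism -/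
def u3_liftHom : Perm I →* Perm (PtI I p a0) where
  toFun := lift p a0
  map_one' := u3_lift_one p a0
  map_mul' := u3_lift_mul p a0

@[simp] theorem u3_liftHom_apply (σ : Perm I) : u3_liftHom p a0 σ = lift p a0 σ := rfl

theorem u3_dg_mul (e e' : I → (ZMod p)ˣ) :
    u3_dg p a0 (e * e') = u3_dg p a0 e * u3_dg p a0 e' := by
  refine Equiv.ext (fun x => ?_)
  rcases x with ⟨k, s⟩ | x
  · simp only [Perm.mul_apply, u3_dg_inl, Pi.mul_apply, Units.val_mul]
    congr 2
    ring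
  · rfl

theorem u3_dg_one : u3_dg (I := I) p a0 1 = 1 := by
  refine Equiv.ext (fun x => ?_)
  rcases x with ⟨k, s⟩ | x
  · simp
  · rfl

/-- `u3_dg` as a homomorphism -/
def u3_dgHom : (I → (ZMod p)ˣ) →* Perm (PtI I p a0) where
  toFun := u3_dg p a0
  map_one' := u3_dg_one p a0
  map_mul' := u3_dg_mul p a0

@[simp] theorem u3_dgHom_apply (e : I → (ZMod p)ˣ) : u3_dgHom p a0 e = u3_dg p a0 e := rfl

variable [DecidableEq I]

theorem u3_cyc_eq_tr (k : I) : cyc p a0 k = u3_tr p a0 (Pi.single k 1) := by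
  refine Equiv.ext (fun x => ?_)
  rcases x with ⟨j, s⟩ | x
  · by_cases h : j = k
    · subst h
      simp [cyc_inl_self]
    · simp [cyc_inl_of_ne p a0 h, h]
  · rfl

theorem u3_tr_single_mem_Bs [Fact p.Prime] (k : I) (c : ZMod p) :
    u3_tr p a0 (Pi.single k c) ∈ Bs (I := I) p a0 := by
  have hne : NeZero p := ⟨(Fact.out : p.Prime).ne_zero⟩
  have h1 : (Pi.single k c : I → ZMod p) = c.val • Pi.single k 1 := by
    funext j
    by_cases h : j = k
    · subst h
      simp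
    · simp [h]
  rw [h1, ← u3_tr_pow, ← u3_cyc_eq_tr]
  have hc : cyc p a0 k ∈ Bs (I := I) p a0 := Subgroup.subset_closure (Set.mem_range_self k)
  exact pow_mem hc _

theorem u3_lift_cyc (σ : Perm I) (k : I) :
    lift p a0 σ * cyc p a0 k = cyc p a0 (σ k) * lift p a0 σ := by
  refine Equiv.ext (fun x => ?_)
  rcases x with ⟨j, s⟩ | x
  · by_cases h : j = k
    · subst h
      simp [Perm.mul_apply, cyc_inl_self]
    · have h' : σ j ≠ σ k := fun h2 => h (σ.injective h2)
      simp [Perm.mul_apply, cyc_inl_of_ne p a0 h, cyc_inl_of_ne p a0 h']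
  · rfl

omit [DecidableEq I] in
theorem u3_dg_tr (e : I → (ZMod p)ˣ) (a : I → ZMod p) :
    u3_dg p a0 e * u3_tr p a0 a = u3_tr p a0 (fun k => (e k : ZMod p) * a k) * u3_dg p a0 e := by
  refine Equiv.ext (fun x => ?_)
  rcases x with ⟨k, s⟩ | x
  · simp only [Perm.mul_apply, u3_dg_inl, u3_tr_inl]
    congr 2
    ring
  · rfl

omit [DecidableEq I] in
theorem u3_lift_dg (σ : Perm I) (e : I → (ZMod p)ˣ) :
    lift p a0 σ * u3_dg p a0 e = u3_dg p a0 (fun j => e (σ⁻¹ j)) * lift p a0 σ := by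
  refine Equiv.ext (fun x => ?_)
  rcases x with ⟨k, s⟩ | x
  · simp only [Perm.mul_apply, u3_dg_inl, lift_inl, aff_inv_apply]
  · rfl

end Cfsg.Agent.Lib.Helper87.AltF
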