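import Mathlib
import Cfsg.Agent.Lib.Helper87.AltModel
import Cfsg.Agent.Lib.Helper30.AltFAFF
import Cfsg.Agent.Lib.Helper30.AltFU3a

set_option autoImplicit false

/-! # S5165 leaf [U3], part b: generation of the even elements of `N(Bs)` with trivial multiplier -/

namespace Cfsg.Agent.Lib.Helper87.AltF

open Equiv Subgroup

variable {I : Type} [Fintype I] [DecidableEq I] (p a0 : ℕ) [Fact p.Prime]

/-- the generating set of [U3] -/
def u3_X : Set (Perm (PtI I p a0)) :=
  {x : Perm (PtI I p a0) | x ∈ alternatingGroup (PtI I p a0) ∧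
      x ∈ normalizer ((Bs (I := I) p a0 : Subgroup (Perm (PtI I p a0))) : Set (Perm (PtI I p a0))) ∧
      ∃ k : ℕ, orderOf x = p ^ k}

theorem u3_mem_normalizer_Bs (n : Perm (PtI I p a0))
    (h : ∀ k : I, n * cyc p a0 k * n⁻¹ ∈ Bs (I := I) p a0) :
    n ∈ normalizer ((Bs (I := I) p a0 : Subgroup (Perm (PtI I p a0))) : Set (Perm (PtI I p a0))) := by
  have hne : NeZero p := ⟨(Fact.out : p.Prime).ne_zero⟩
  apply u3_mem_normalizer_of_conj_mem
  intro x hx
  apply u3_conj_mem_closure (Set.range (cyc (I := I) p a0)) n _ x hx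
  rintro _ ⟨k, rfl⟩
  exact h k

theorem u3_lift_mem_normalizer (σ : Perm I) :
    lift p a0 σ ∈ normalizer ((Bs (I := I) p a0 : Subgroup (Perm (PtI I p a0))) :
      Set (Perm (PtI I p a0))) := by
  apply u3_mem_normalizer_Bs
  intro k
  rw [u3_lift_cyc, mul_inv_cancel_right]
  exact Subgroup.subset_closure (Set.mem_range_self _)

theorem u3_dg_mem_normalizer (e : I → (ZMod p)ˣ) :
    u3_dg p a0 e ∈ normalizer ((Bs (I := I) p a0 : Subgroup (Perm (PtI I p a0))) :
      Set (Perm (PtI I p a0))) := by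
  apply u3_mem_normalizer_Bs
  intro k
  rw [u3_cyc_eq_tr, u3_dg_tr, mul_inv_cancel_right]
  have : (fun j => (e j : ZMod p) * (Pi.single k (1 : ZMod p) : I → ZMod p) j) =
      Pi.single k (e k : ZMod p) := by
    funext j
    by_cases h : j = k
    · subst h
      simp
    · simp [h]
  rw [this]
  exact u3_tr_single_mem_Bs p a0 k _

theorem u3_tr_mem_normalizer (a : I → ZMod p) :
    u3_tr p a0 a ∈ normalizer ((Bs (I := I) p a0 : Subgroup (Perm (PtI I p a0))) :
      Set (Perm (PtI I p a0))) := by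
  apply u3_mem_normalizer_Bs
  intro k
  rw [u3_cyc_eq_tr, u3_tr_comm, mul_inv_cancel_right]
  exact u3_tr_single_mem_Bs p a0 k _

/-- Claim A: the closure of the generating set is normalized by `N(Bs)` -/
theorem u3_conj_mem (n : Perm (PtI I p a0))
    (hn : n ∈ normalizer ((Bs (I := I) p a0 : Subgroup (Perm (PtI I p a0))) :
      Set (Perm (PtI I p a0)))) :
    ∀ y ∈ closure (u3_X (I := I) p a0), n * y * n⁻¹ ∈ closure (u3_X (I := I) p a0) := by
  apply u3_conj_mem_closure
  rintro x ⟨hxA, hxN, k, hk⟩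
  apply Subgroup.subset_closure
  refine ⟨?_, mul_mem (mul_mem hn hxN) (inv_mem hn), k, ?_⟩
  · exact (inferInstance : (alternatingGroup (PtI I p a0)).Normal).conj_mem x hxA n
  · rw [← hk]
    exact orderOf_injective (MulAut.conj n).toMonoidHom (MulAut.conj n).injective x

/-- Claim B: for `p` odd, elements of `N(Bs)` killed by `p` are generators -/
theorem u3_mem_X (hp : p ≠ 2) (x : Perm (PtI I p a0))
    (hx : x ∈ normalizer ((Bs (I := I) p a0 : Subgroup (Perm (PtI I p a0))) :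
      Set (Perm (PtI I p a0)))) (hxp : x ^ p = 1) : x ∈ u3_X (I := I) p a0 := by
  have hpp : p.Prime := Fact.out
  refine ⟨?_, hx, ?_⟩
  · rw [Equiv.Perm.mem_alternatingGroup]
    have h1 : (Equiv.Perm.sign x) ^ p = 1 := by rw [← map_pow, hxp, map_one]
    rcases Int.units_eq_one_or (Equiv.Perm.sign x) with h | h
    · exact h
    · exfalso
      rw [h, (hpp.odd_of_ne_two hp).neg_one_pow] at h1
      exact absurd h1 (by decide)
  · rcases (Nat.dvd_prime hpp).mp (orderOf_dvd_of_pow_eq_one hxp) with h | h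
    · exact ⟨0, by rw [h, pow_zero]⟩
    · exact ⟨1, by rw [h, pow_one]⟩

/-- Claim C: translations -/
theorem u3_tr_mem (hp : p ≠ 2) (a : I → ZMod p) :
    u3_tr p a0 a ∈ closure (u3_X (I := I) p a0) :=
  Subgroup.subset_closure (u3_mem_X p a0 hp _ (u3_tr_mem_normalizer p a0 a) (u3_tr_pow_p p a0 a))

/-- Claim D: lifts of products of `p`-cycles -/
theorem u3_lift_mem (hp : p ≠ 2) (σ : Perm I)
    (hσ : σ ∈ Subgroup.closure {ρ : Perm I | ρ.IsCycle ∧ ρ.support.card = p}) :
    lift p a0 σ ∈ closure (u3_X (I := I) p a0) := by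
  have : Subgroup.closure {ρ : Perm I | ρ.IsCycle ∧ ρ.support.card = p} ≤
      (closure (u3_X (I := I) p a0)).comap (u3_liftHom p a0) := by
    rw [Subgroup.closure_le]
    rintro ρ ⟨hρ, hρc⟩
    rw [SetLike.mem_coe, Subgroup.mem_comap, u3_liftHom_apply]
    apply Subgroup.subset_closure
    apply u3_mem_X p a0 hp _ (u3_lift_mem_normalizer p a0 ρ)
    rw [← u3_liftHom_apply, ← map_pow]
    have : ρ ^ p = 1 := by
      rw [← hρc, ← hρ.orderOf]
      exact pow_orderOf_eq_one ρ
    rw [this, map_one]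
  exact this hσ

/-- Claim F: the sign of a lift -/
theorem u3_sign_lift (σ : Perm I) :
    Equiv.Perm.sign (lift p a0 σ) = (Equiv.Perm.sign σ) ^ p := by
  have hne : NeZero p := ⟨(Fact.out : p.Prime).ne_zero⟩
  have h : lift p a0 σ =
      Equiv.Perm.sumCongr (Equiv.prodCongrLeft (fun _ : ZMod p => σ)) (1 : Perm (Fin a0)) := by
    refine Equiv.ext (fun x => ?_)
    rcases x with ⟨k, s⟩ | x
    · rfl
    · rfl
  rw [h, Equiv.Perm.sign_sumCongr, Equiv.Perm.sign_prodCongrLeft, map_one, mul_one,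
    Finset.prod_const, Finset.card_univ, ZMod.card]

theorem u3_even_of_lift_even (hp : p ≠ 2) (σ : Perm I)
    (h : lift p a0 σ ∈ alternatingGroup (PtI I p a0)) : σ ∈ alternatingGroup I := by
  have hpp : p.Prime := Fact.out
  rw [Equiv.Perm.mem_alternatingGroup] at h ⊢
  rw [u3_sign_lift] at h
  rcases Int.units_eq_one_or (Equiv.Perm.sign σ) with h1 | h1
  · exact h1
  · exfalso
    rw [h1, (hpp.odd_of_ne_two hp).neg_one_pow] at h
    exact absurd h (by decide)

/-- the pair lemma for Claim E -/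
theorem u3_dg_pair (hI3 : 3 ≤ Fintype.card I)
    (hlift : ∀ σ ∈ alternatingGroup I, lift p a0 σ ∈ closure (u3_X (I := I) p a0))
    (k l : I) (hkl : k ≠ l) (x : (ZMod p)ˣ) :
    u3_dg p a0 (Pi.mulSingle k x) * (u3_dg p a0 (Pi.mulSingle l x))⁻¹ ∈
      closure (u3_X (I := I) p a0) := by
  -- a third point
  obtain ⟨m, -, hm⟩ : ∃ m ∈ (Finset.univ : Finset I), m ∉ ({k, l} : Finset I) := by
    apply Finset.exists_mem_notMem_of_card_lt_card
    calc ({k, l} : Finset I).card ≤ 2 := Finset.card_le_two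
      _ < Fintype.card I := by omega
      _ = (Finset.univ : Finset I).card := Finset.card_univ.symm
  have hmk : m ≠ k := fun h => hm (by simp [h])
  have hml : m ≠ l := fun h => hm (by simp [h])
  set σ : Perm I := Equiv.swap k m * Equiv.swap k l with hσ
  have hσk : σ k = l := by
    rw [hσ, Perm.mul_apply, Equiv.swap_apply_left, Equiv.swap_apply_of_ne_of_ne hkl.symm hml.symm]
  have hσA : σ ∈ alternatingGroup I := by
    rw [Equiv.Perm.mem_alternatingGroup, hσ, map_mul, Equiv.Perm.sign_swap hmk.symm,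
      Equiv.Perm.sign_swap hkl]
    decide
  have hL := hlift σ hσA
  set L := lift p a0 σ with hLdef
  set D := u3_dg p a0 (Pi.mulSingle k x) with hDdef
  have hD : D ∈ normalizer ((Bs (I := I) p a0 : Subgroup (Perm (PtI I p a0))) :
      Set (Perm (PtI I p a0))) := u3_dg_mem_normalizer p a0 _
  have h1 : L * D * L⁻¹ = u3_dg p a0 (Pi.mulSingle l x) := by
    rw [hLdef, hDdef, u3_lift_dg, mul_inv_cancel_right]
    congr 1
    funext j
    by_cases h : j = l
    · subst h
      have : σ⁻¹ (σ k) = k := aff_inv_apply σ k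
      rw [← hσk, this]
      simp
    · have : σ⁻¹ j ≠ k := by
        intro h2
        apply h
        rw [← hσk, ← h2]
        exact (aff_apply_inv σ j).symm
      show (Pi.mulSingle k x : I → (ZMod p)ˣ) (σ⁻¹ j) = (Pi.mulSingle l x : I → (ZMod p)ˣ) j
      rw [Pi.mulSingle_apply, Pi.mulSingle_apply, if_neg h, if_neg this]
  have h2 : D * (u3_dg p a0 (Pi.mulSingle l x))⁻¹ = (D * L * D⁻¹) * L⁻¹ := by
    rw [← h1]
    group
  rw [h2]
  exact mul_mem (u3_conj_mem p a0 D hD L hL) (inv_mem hL)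

/-- Claim E: dilations with trivial total multiplier -/
theorem u3_dg_mem (hI3 : 3 ≤ Fintype.card I)
    (hlift : ∀ σ ∈ alternatingGroup I, lift p a0 σ ∈ closure (u3_X (I := I) p a0))
    (e : I → (ZMod p)ˣ) (he : ∏ k, e k = 1) :
    u3_dg p a0 e ∈ closure (u3_X (I := I) p a0) := by
  have hI : Nonempty I := by
    rw [← Fintype.card_pos_iff]
    omega
  obtain ⟨k₀⟩ := hI
  set H : Subgroup (I → (ZMod p)ˣ) := (closure (u3_X (I := I) p a0)).comap (u3_dgHom p a0) with hH
  have hpair : ∀ (k : I) (x : (ZMod p)ˣ),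
      (Pi.mulSingle k x * (Pi.mulSingle k₀ x)⁻¹ : I → (ZMod p)ˣ) ∈ H := by
    intro k x
    by_cases hk : k = k₀
    · subst hk
      rw [mul_inv_cancel]
      exact one_mem _
    · rw [hH, Subgroup.mem_comap, map_mul, map_inv, u3_dgHom_apply, u3_dgHom_apply]
      exact u3_dg_pair p a0 hI3 hlift k k₀ hk x
  have h1 : ∏ k, (Pi.mulSingle k (e k) * (Pi.mulSingle k₀ (e k))⁻¹ : I → (ZMod p)ˣ) ∈ H :=
    Subgroup.prod_mem _ (fun k _ => hpair k (e k))
  have h2 : ∏ k, (Pi.mulSingle k (e k) * (Pi.mulSingle k₀ (e k))⁻¹ : I → (ZMod p)ˣ) = e := by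
    rw [Finset.prod_mul_distrib, Finset.prod_inv_distrib, Finset.univ_prod_mulSingle]
    have : ∏ k, (Pi.mulSingle k₀ (e k) : I → (ZMod p)ˣ) = Pi.mulSingle k₀ (∏ k, e k) :=
      (map_prod (MonoidHom.mulSingle (fun _ : I => (ZMod p)ˣ) k₀) e Finset.univ).symm
    rw [this, he, Pi.mulSingle_one, inv_one, mul_one]
  rw [h2] at h1
  exact h1

/-- [U3] with [Apc] as a hypothesis -/
theorem u3_main (hp : p ≠ 2) (hI : p ≤ Fintype.card I) (ha0 : a0 ≤ 1)
    (hApc : alternatingGroup I ≤ Subgroup.closure {ρ : Perm I | ρ.IsCycle ∧ ρ.support.card = p})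
    (g : Perm (PtI I p a0)) (hgA : g ∈ alternatingGroup (PtI I p a0))
    (hg : g ∈ normalizer ((Bs (I := I) p a0 : Subgroup (Perm (PtI I p a0))) : Set (Perm (PtI I p a0))))
    (hu : uu p a0 g = 1) :
    g ∈ closure (u3_X (I := I) p a0) := by
  have hpp : p.Prime := Fact.out
  have hp3 : 3 ≤ p := by
    have := hpp.two_le
    omega
  have hI3 : 3 ≤ Fintype.card I := le_trans hp3 hI
  obtain ⟨σ, e, μ, τ, h1, h2⟩ := exists_affine_of_mem_normalizer p a0 g hg
  have hτ : ∀ x, τ x = x := by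
    intro x
    interval_cases a0
    · exact x.elim0
    · exact Subsingleton.elim _ _
  have hmul : ∀ k, mulOf p a0 g k = (e k : ZMod p) := by
    intro k
    simp [mulOf, h1, snd2]
  have he : ∏ k, e k = 1 := by
    apply Units.ext
    rw [Units.coe_prod, Units.val_one, ← hu, uu]
    exact Finset.prod_congr rfl (fun k _ => (hmul k).symm)
  have hlift : ∀ σ ∈ alternatingGroup I, lift p a0 σ ∈ closure (u3_X (I := I) p a0) :=
    fun σ hσ => u3_lift_mem p a0 hp σ (hApc hσ)
  have hdecomp : g = u3_tr p a0 (fun j => μ (σ⁻¹ j)) * lift p a0 σ * u3_dg p a0 e := by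
    refine Equiv.ext (fun x => ?_)
    rcases x with ⟨k, s⟩ | x
    · simp only [Perm.mul_apply, u3_dg_inl, lift_inl, u3_tr_inl, h1, aff_inv_apply]
    · simp only [Perm.mul_apply, u3_dg_inr, lift_inr, u3_tr_inr, h2, hτ]
  have hT := u3_tr_mem p a0 hp (fun j => μ (σ⁻¹ j))
  have hD := u3_dg_mem p a0 hI3 hlift e he
  have hle : closure (u3_X (I := I) p a0) ≤ alternatingGroup (PtI I p a0) := by
    rw [Subgroup.closure_le]
    rintro x ⟨hx, -, -⟩
    exact hx
  have hL : lift p a0 σ ∈ alternatingGroup (PtI I p a0) := by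
    have : lift p a0 σ = (u3_tr p a0 (fun j => μ (σ⁻¹ j)))⁻¹ * g * (u3_dg p a0 e)⁻¹ := by
      rw [hdecomp]
      group
    rw [this]
    exact mul_mem (mul_mem (inv_mem (hle hT)) hgA) (inv_mem (hle hD))
  have hσ := u3_even_of_lift_even p a0 hp σ hL
  rw [hdecomp]
  exact mul_mem (mul_mem hT (hlift σ hσ)) hD

end Cfsg.Agent.Lib.Helper87.AltF
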