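import Mathlib
import Cfsg.Agent.Lib.Helper87.AltModel
import Cfsg.Agent.Lib.Helper47.AltFApc
import Cfsg.Agent.Lib.Helper30.AltFAFF
import Cfsg.Agent.Lib.Helper30.AltFU3a
import Cfsg.Agent.Lib.Helper30.AltFU3b

set_option autoImplicit false

/-! # S5165 leaf [U3] -/

namespace Cfsg.Agent.Lib.Helper87.AltF

open Equiv Subgroup

/-- [U3] (`p` odd) an even element of `N(Bs)` with `uu g = 1` is a product of `p`-elements of
`N_A(Bs)`. -/
theorem mem_closure_of_uu_eq_one {I : Type} [Fintype I] [DecidableEq I] (p a0 : ℕ) [Fact p.Prime]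
    (hp : p ≠ 2) (hI : p ≤ Fintype.card I) (ha0 : a0 ≤ 1)
    (g : Perm (PtI I p a0)) (hgA : g ∈ alternatingGroup (PtI I p a0))
    (hg : g ∈ normalizer ((Bs (I := I) p a0 : Subgroup (Perm (PtI I p a0))) : Set (Perm (PtI I p a0))))
    (hu : uu p a0 g = 1) :
    g ∈ Subgroup.closure {x : Perm (PtI I p a0) | x ∈ alternatingGroup (PtI I p a0) ∧
      x ∈ normalizer ((Bs (I := I) p a0 : Subgroup (Perm (PtI I p a0))) : Set (Perm (PtI I p a0))) ∧
      ∃ k : ℕ, orderOf x = p ^ k} :=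
  u3_main p a0 hp hI ha0 (alternatingGroup_le_closure_pcycles I p hp hI) g hgA hg hu

end Cfsg.Agent.Lib.Helper87.AltF
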