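import Cfsg.Agent.S1350
import Cfsg.Agent.S1351
import Cfsg.Agent.S1352
import Cfsg.Agent.S1355
import Cfsg.Agent.S1364
import Cfsg.Agent.Lib.Helper33.SylowSub
import Cfsg.Agent.Lib.Helper24.SylowInv
import Cfsg.Agent.Lib.Helper23.TypeP

/-!
# B&G Section 16, part A: a maximal subgroup of Frobenius type has `κ(M) = ∅`
-/

set_option autoImplicit false

namespace Cfsg.Agent.Lib.Helper30.BG1390

open Subgroup Cfsg Cfsg.Agent.Lib.Helper33

universe u

variable {G : Type u} [Group G] [Finite G]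

omit [Finite G] in
/-- a nontrivial Hall `κ(M)`-subgroup exists when `κ(M)` is nonempty -/
theorem hallKappa_ne_bot {M K : Subgroup G} (hK : IsPiHallOf (kappa M) K M) {q : ℕ}
    (hq : q ∈ kappa M) : q ∣ Nat.card K := by
  have hqp : q.Prime := hq.1
  have hqM : q ∣ Nat.card M := hq.2.1
  have h1 : K.relIndex M * Nat.card K = Nat.card M := by
    have := Subgroup.relIndex_mul_relIndex (⊥ : Subgroup G) K M bot_le hK.1
    rw [Subgroup.relIndex_bot_left, Subgroup.relIndex_bot_left] at this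
    rw [mul_comm]; exact this
  rw [← h1] at hqM
  rcases (Nat.Prime.dvd_mul hqp).mp hqM with h | h
  · exact absurd h (hK.2.2 q hqp hq)
  · exact h

/-- a `q`-element of `M`, `q ∈ κ(M)`, is `M`-conjugate into a Hall `κ(M)`-subgroup -/
theorem exists_conj_mem_hallKappa {M K : Subgroup G} (hK : IsPiHallOf (kappa M) K M) {q : ℕ}
    (hq : q ∈ kappa M) {u : G} (huM : u ∈ M) (hu : IsPGroup q (zpowers u)) :
    ∃ c ∈ M, c * u * c⁻¹ ∈ K := by
  have hqp : q.Prime := hq.1
  have : Fact q.Prime := ⟨hqp⟩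
  obtain ⟨Q⟩ : Nonempty (Sylow q K) := inferInstance
  obtain ⟨hVK, hVp, hVi⟩ := Cfsg.Agent.Lib.Helper24.sylow_map_facts K Q
  set V := (Q : Subgroup K).map K.subtype with hV
  have hVM : V ≤ M := hVK.trans hK.1
  have hViM : ¬ q ∣ V.relIndex M := by
    rw [← Subgroup.relIndex_mul_relIndex V K M hVK hK.1]
    intro h
    rcases (Nat.Prime.dvd_mul hqp).mp h with h | h
    · exact hVi h
    · exact hK.2.2 q hqp hq h
  obtain ⟨c, hc, hle⟩ := sylow_sub hVM hVp hViM (zpowers_le.mpr huM) hu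
  exact ⟨c, hc, hVK (hle (conj_mem_cj (mem_zpowers u)))⟩

/-- **Type F kills `κ`**: if the maximal subgroup `M` is of Frobenius type then `κ(M) = ∅`. -/
theorem typeF_kappa_empty (hG : IsMinSimpleOddOrder G) {M : Subgroup G} (hM : IsCoatom M)
    (hF : IsOfTypeF ↥M) : kappa M = ∅ := by
  rw [Set.eq_empty_iff_forall_notMem]
  intro q hq
  have hqp : q.Prime := hq.1
  have : Fact q.Prime := ⟨hqp⟩
  obtain ⟨⟨K, hK⟩, hcyc⟩ := Cfsg.Agent.S1351.result hG M hM
  have hKc : IsCyclic K := hcyc K hK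
  have hqK : q ∣ Nat.card K := hallKappa_ne_bot hK hq
  have hK1 : K ≠ ⊥ := by
    intro h
    rw [h, Subgroup.card_bot] at hqK
    exact hqp.one_lt.ne' (Nat.dvd_one.mp hqK)
  obtain ⟨Us, hKU⟩ := (Cfsg.Agent.S1352.result hG M hM K hKc hK).1
  obtain ⟨-, hKs1, hKsF, -⟩ := Cfsg.Agent.S1364.result hG M hM K Us hKU hK1
  obtain ⟨-, hFσ, -, -, -⟩ := Cfsg.Agent.S1355.result hG M hM
  obtain ⟨⟨-, hσ, -⟩, -, -⟩ := Cfsg.Agent.S1350.result hG M hM
  -- the type F data
  obtain ⟨-, -, -, -, UF, -, hcompl, -, U₀, hU₀le, hexp, hfpf⟩ := hF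
  -- `q` does not divide `|M_F|`
  have hqF : ¬ q ∣ Nat.card (fittingHall ↥M) := by
    intro h
    rw [← Cfsg.Agent.Lib.Helper23.card_fittingHallOf] at h
    exact hq.2.2.1 (hσ q hqp (h.trans (Subgroup.card_dvd_of_le hFσ)))
  -- so `q` divides `|U_F|`
  have hqU : q ∣ Nat.card UF := by
    have h1 := hcompl.card_mul_card
    have h2 : q ∣ Nat.card (fittingHall ↥M) * Nat.card UF := by rw [h1]; exact hq.2.1
    rcases (Nat.Prime.dvd_mul hqp).mp h2 with h | h
    · exact absurd h hqF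
    · exact h
  -- hence `q` divides the exponent of `U_F`, which is that of `U₀`
  obtain ⟨w, hw⟩ := exists_prime_orderOf_dvd_card' (G := ↥UF) q hqU
  have hqe : q ∣ Monoid.exponent ↥UF := by rw [← hw]; exact Monoid.order_dvd_exponent w
  rw [← hexp] at hqe
  have hqU₀ : q ∣ Nat.card U₀ := hqe.trans Group.exponent_dvd_nat_card
  obtain ⟨u₀, hu₀⟩ := exists_prime_orderOf_dvd_card' (G := ↥U₀) q hqU₀
  -- `u : ↥M` of order `q` in `U₀`
  set u : ↥M := (u₀ : ↥M) with hu
  have huU₀ : u ∈ U₀ := u₀.2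
  have huo : orderOf u = q := by rw [hu, Subgroup.orderOf_coe, hu₀]
  have hu1 : u ≠ 1 := by
    intro h
    rw [h, orderOf_one] at huo
    exact hqp.one_lt.ne huo
  have huoG : orderOf (u : G) = q := by rw [Subgroup.orderOf_coe, huo]
  have hup : IsPGroup q (zpowers (u : G)) :=
    IsPGroup.of_card (n := 1) (by rw [Nat.card_zpowers, huoG, pow_one])
  obtain ⟨c, hc, hcK⟩ := exists_conj_mem_hallKappa hK hq u.2 hup
  -- a nonidentity element of `K*`
  obtain ⟨ys, hys1⟩ := (Subgroup.ne_bot_iff_exists_ne_one).mp hKs1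
  have hys1' : (ys : G) ≠ 1 := fun h => hys1 (Subtype.ext h)
  have hysF : (ys : G) ∈ fittingHallOf M := hKsF ys.2
  have hysC : (ys : G) ∈ centralizer (K : Set G) := ys.2.2
  have hcomm : c * (u : G) * c⁻¹ * (ys : G) = (ys : G) * (c * (u : G) * c⁻¹) :=
    (mem_centralizer_iff.mp hysC _ hcK)
  obtain ⟨y', hy'F, hy'e⟩ := Subgroup.mem_map.mp hysF
  -- conjugate back inside `↥M`
  set c' : ↥M := ⟨c, hc⟩ with hc'
  have hmem : c'⁻¹ * y' * c' ∈ fittingHall ↥M := by
    have := (fittingHall_normal ↥M).conj_mem y' hy'F c'⁻¹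
    simpa using this
  have hcm : u * (c'⁻¹ * y' * c') = (c'⁻¹ * y' * c') * u := by
    apply Subtype.ext
    have hy'e' : (y' : G) = (ys : G) := hy'e
    simp only [Subgroup.coe_mul, Subgroup.coe_inv, hc', hy'e']
    calc (u : G) * (c⁻¹ * (ys : G) * c) = c⁻¹ * (c * (u : G) * c⁻¹ * (ys : G)) * c := by group
      _ = c⁻¹ * ((ys : G) * (c * (u : G) * c⁻¹)) * c := by rw [hcomm]
      _ = c⁻¹ * (ys : G) * c * (u : G) := by group
  have h1 := hfpf u huU₀ hu1 _ hmem hcm
  apply hys1'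
  have h2 : y' = 1 := by
    have : y' = c' * (c'⁻¹ * y' * c') * c'⁻¹ := by group
    rw [this, h1]; group
  rw [← hy'e, h2]; rfl

end Cfsg.Agent.Lib.Helper30.BG1390
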