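import Cfsg.Agent.Lib.Helper30.BG1390B
import Cfsg.Agent.S1357
import Cfsg.Agent.S1358
import Cfsg.Agent.S1361
import Cfsg.Agent.S1362
import Cfsg.Agent.S1365
import Cfsg.Agent.Lib.Helper24.InvCompl
import Cfsg.Agent.Lib.Helper24.BG121
import Cfsg.Agent.Lib.Helper47.BG11a
import Cfsg.Agent.Lib.Helper63.BG13a

/-!
# B&G Section 16, part C: complements of `M_F` for maximal subgroups of Type I and Type II
-/

set_option autoImplicit false

namespace Cfsg.Agent.Lib.Helper30.BG1390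

open Subgroup Cfsg Cfsg.Agent.Lib.Helper33

universe u

variable {G : Type u} [Group G]

theorem c_isComplIn_symm {A B D : Subgroup G} (h : IsComplIn A B D) : IsComplIn B A D := by
  obtain ⟨hA, hB, hd, hp⟩ := h
  refine ⟨hB, hA, by rw [inf_comm]; exact hd, fun m hm => ?_⟩
  obtain ⟨a, ha, b, hb, he⟩ := hp m⁻¹ (D.inv_mem hm)
  refine ⟨b⁻¹, B.inv_mem hb, a⁻¹, A.inv_mem ha, ?_⟩
  rw [← mul_inv_rev, ← he, inv_inv]

theorem c_sup_eq_of_isComplIn {A B D : Subgroup G} (h : IsComplIn A B D) : A ⊔ B = D := by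
  obtain ⟨hA, hB, -, hp⟩ := h
  apply le_antisymm (sup_le hA hB)
  intro m hm
  obtain ⟨a, ha, b, hb, rfl⟩ := hp m hm
  exact mul_mem (mem_sup_left ha) (mem_sup_right hb)

theorem c_le_normalizer_derived (M : Subgroup G) :
    M ≤ normalizer ((⁅M, M⁆ : Subgroup G) : Set G) := by
  intro g hg
  rw [← cj_eq_self_iff, cj_def, map_commutator, ← cj_def, cj_eq_self_of_mem hg]

variable [Finite G]

/-- two complements of a normal Hall subgroup `N` of `M` inside `D ≤ M` are `N`-conjugate -/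
theorem c_compl_conj (hG : IsMinSimpleOddOrder G) {M N D U₁ U₂ : Subgroup G} (hMtop : M ≠ ⊤)
    (hNM : N ≤ M) (hDM : D ≤ M) (hMN : M ≤ normalizer (N : Set G))
    (h₁ : IsComplIn N U₁ D) (h₂ : IsComplIn N U₂ D)
    (hcop : (Nat.card N).Coprime (Nat.card U₁)) : ∃ n ∈ N, cj n U₁ = U₂ := by
  have hNtop : N ≠ ⊤ := fun h => hMtop (top_le_iff.mp (h ▸ hNM))
  have hsolv : Group.IsSolvable ↥N := hG.2.2.2 N hNtop
  have hU₁N : U₁ ≤ normalizer (N : Set G) := (h₁.2.1.trans hDM).trans hMN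
  have hle : U₂ ≤ U₁ ⊔ N := by
    rw [sup_comm, c_sup_eq_of_isComplIn h₁]; exact h₂.2.1
  have hcard : Nat.card U₂ = Nat.card U₁ := by
    have e1 := Cfsg.Agent.Lib.Helper23.card_isComplIn h₁
    have e2 := Cfsg.Agent.Lib.Helper23.card_isComplIn h₂
    have hpos : 0 < Nat.card N := Nat.card_pos
    exact Nat.eq_of_mul_eq_mul_left hpos (e2.trans e1.symm)
  exact Cfsg.Agent.Lib.Helper24.rel_sz_conj N U₁ U₂ hU₁N hcop.symm (Or.inl hsolv) hle hcard

/-- the three conclusions, from a `σ`-decomposition `(K, U)` with `M_F = M_σ` -/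
theorem c_conclusions (hG : IsMinSimpleOddOrder G) {M : Subgroup G} (hM : IsCoatom M)
    {K U : Subgroup G} (hKU : IsSigmaDecomposition M K U)
    (hFσ : fittingHallOf M = sigmaCore M) {D : Subgroup G} (hDM : D ≤ M)
    (hUD : U ⊔ sigmaCore M = D)
    (hA : typeA M = {a | a ∈ D ∧ a ≠ 1 ∧ ∃ x ∈ fittingHallOf M, x ≠ 1 ∧ a * x = x * a})
    (hA1 : typeA1 M = (fittingHallOf M : Set G) \ {1}) :
    (∀ (p : ℕ), p.Prime → ∀ P : Sylow p U,
        IsMulCommutative (P : Subgroup U) ∧ PRankLE p 2 (P : Subgroup U)) ∧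
      (∀ X : Set G, X ⊆ (U : Set G) \ {1} → X.Nonempty →
        fittingHallOf M ⊓ centralizer X ≠ ⊥ →
        centralizer X ≤ M ∧ ∀ L : Subgroup G, IsCoatom L → centralizer X ≤ L → L = M) ∧
      IsTISubset (typeA M \ typeA1 M) := by
  refine ⟨Cfsg.Agent.S1358.result hG M hM K U hKU, ?_, ?_⟩
  · intro X hXU hXne hXc
    have hle : closure X ≤ U := (closure_le U).mpr (fun x hx => (hXU hx).1)
    have hne : closure X ≠ ⊥ := by
      obtain ⟨x, hx⟩ := hXne
      intro h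
      have h1 : x ∈ closure X := subset_closure hx
      rw [h, mem_bot] at h1
      exact (hXU hx).2 h1
    have hc : sigmaCore M ⊓ centralizer ((closure X : Subgroup G) : Set G) ≠ ⊥ := by
      rw [centralizer_closure, ← hFσ]; exact hXc
    have := Cfsg.Agent.S1361.result hG M hM K U hKU (closure X) hle hne hc
    rw [centralizer_closure] at this
    exact this
  · have hset : typeA M \ typeA1 M = sigmaA M U \ (sigmaCore M : Set G) := by
      rw [hA, hA1]
      ext a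
      simp only [Set.mem_sdiff, Set.mem_ofPred_eq, SetLike.mem_coe, Set.mem_singleton_iff, sigmaA,
        sigmaHat, Set.mem_inter_iff, hUD]
      constructor
      · rintro ⟨⟨haD, ha1, x, hx, hx1, hc⟩, hn⟩
        refine ⟨⟨⟨hDM haD, x, hFσ ▸ hx, hx1, hc⟩, haD⟩, ?_⟩
        intro h
        exact hn ⟨hFσ ▸ h, ha1⟩
      · rintro ⟨⟨⟨_, y, hy, hy1, hc⟩, haD⟩, hn⟩
        have ha1 : a ≠ 1 := by
          rintro rfl
          exact hn (one_mem _)
        refine ⟨⟨haD, ha1, y, hFσ ▸ hy, hy1, hc⟩, ?_⟩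
        rintro ⟨h, _⟩
        exact hn (hFσ ▸ h)
    rw [hset]
    exact Cfsg.Agent.S1362.result hG M hM K U hKU

/-- Frobenius type forces `M_F = M_σ` -/
theorem typeF_fitting_eq_sigma (hG : IsMinSimpleOddOrder G) {M : Subgroup G} (hM : IsCoatom M)
    (hF : IsOfTypeF ↥M) : fittingHallOf M = sigmaCore M := by
  by_contra hne
  obtain ⟨⟨K, hK⟩, hcyc⟩ := Cfsg.Agent.S1351.result hG M hM
  obtain ⟨Us, hKU⟩ := (Cfsg.Agent.S1352.result hG M hM K (hcyc K hK) hK).1
  obtain ⟨-, -, hprime⟩ := Cfsg.Agent.S1357.result hG M hM K Us hKU hne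
  have h1 : Nat.card K ∈ kappa M := hK.2.1 _ hprime dvd_rfl
  rw [typeF_kappa_empty hG hM hF] at h1
  exact h1

/-- the `σ`-decomposition of a maximal subgroup of Frobenius type -/
theorem typeF_sigmaDecomposition (hG : IsMinSimpleOddOrder G) {M : Subgroup G} (hM : IsCoatom M)
    (hF : IsOfTypeF ↥M) {U : Subgroup G} (hU : IsComplIn (fittingHallOf M) U M) :
    IsSigmaDecomposition M ⊥ U := by
  have hκ := typeF_kappa_empty hG hM hF
  have hFσ := typeF_fitting_eq_sigma hG hM hF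
  refine ⟨inferInstance, ⟨bot_le, ?_, ?_⟩, ?_, bot_le⟩
  · intro p hp hd
    rw [Subgroup.card_bot] at hd
    exact absurd (Nat.dvd_one.mp hd) hp.one_lt.ne'
  · intro p _ hpκ
    rw [hκ] at hpκ
    exact absurd hpκ (Set.notMem_empty p)
  · rw [bot_sup_eq, ← hFσ]; exact c_isComplIn_symm hU

/-- **Type I case** of S1390 -/
theorem typeI_main (hG : IsMinSimpleOddOrder G) {M : Subgroup G} (hM : IsCoatom M)
    {U : Subgroup G} (hI : IsOfTypeI M) (hU : IsComplIn (fittingHallOf M) U M) :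
    (∀ (p : ℕ), p.Prime → ∀ P : Sylow p U,
        IsMulCommutative (P : Subgroup U) ∧ PRankLE p 2 (P : Subgroup U)) ∧
      (∀ X : Set G, X ⊆ (U : Set G) \ {1} → X.Nonempty →
        fittingHallOf M ⊓ centralizer X ≠ ⊥ →
        centralizer X ≤ M ∧ ∀ L : Subgroup G, IsCoatom L → centralizer X ≤ L → L = M) ∧
      IsTISubset (typeA M \ typeA1 M) := by
  have hF := hI.1
  have hnot : ¬ (IsOfTypeIII M ∨ IsOfTypeIV M) := by
    rintro (⟨W₁, U', W₂, hP, -⟩ | ⟨W₁, U', W₂, hP, -⟩)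
    · exact not_typeP_of_typeF hG hM hF hP
    · exact not_typeP_of_typeF hG hM hF hP
  have hFσ := typeF_fitting_eq_sigma hG hM hF
  have hdec := typeF_sigmaDecomposition hG hM hF hU
  have hUD : U ⊔ sigmaCore M = M := by
    rw [← hFσ, sup_comm]; exact c_sup_eq_of_isComplIn hU
  have hA : typeA M = {a | a ∈ M ∧ a ≠ 1 ∧ ∃ x ∈ fittingHallOf M, x ≠ 1 ∧ a * x = x * a} := by
    unfold typeA; rw [if_pos hI]
  have hA1 : typeA1 M = (fittingHallOf M : Set G) \ {1} := by
    unfold typeA1 typeCore; rw [if_neg hnot]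
  exact c_conclusions hG hM hdec hFσ le_rfl hUD hA hA1

end Cfsg.Agent.Lib.Helper30.BG1390
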