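import Cfsg.Agent.Lib.Helper30.BG1390C

/-!
# B&G Section 16, part D: the Type II case of S1390
-/

set_option autoImplicit false

namespace Cfsg.Agent.Lib.Helper30.BG1390

open Subgroup Cfsg Cfsg.Agent.Lib.Helper33

universe u

variable {G : Type u} [Group G] [Finite G]

/-- for type P data with `N_G(U) ≰ M`, `U ≠ 1`, the `U` of the `σ`-decomposition is nontrivial -/
theorem typeII_Us_ne_bot (hG : IsMinSimpleOddOrder G) {M : Subgroup G} (hM : IsCoatom M)
    {W₁ U' W₂ : Subgroup G} (hP : IsTypePWith M W₁ U' W₂) (hU'1 : U' ≠ ⊥)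
    (hNU' : ¬ normalizer (U' : Set G) ≤ M) {Us : Subgroup G}
    (hdec : IsSigmaDecomposition M W₁ Us) : Us ≠ ⊥ := by
  intro hUs
  have hM'σ : ⁅M, M⁆ = sigmaCore M := by
    have := (Cfsg.Agent.S1365.result hG M hM W₁ Us hdec hP.W₁_ne).1
    rw [hUs, bot_sup_eq] at this
    exact this
  obtain ⟨⟨-, hσ, -⟩, -, -⟩ := Cfsg.Agent.S1350.result hG M hM
  have hU'M' : U' ≤ ⁅M, M⁆ := hP.U_compl.2.1
  have hM'M : ⁅M, M⁆ ≤ M := hP.W₁_compl.1
  have hc : Nat.card U' ≠ 1 := fun h => hU'1 (Subgroup.card_eq_one.mp h)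
  obtain ⟨s, hsp, hsU'⟩ := Nat.exists_prime_and_dvd hc
  have : Fact s.Prime := ⟨hsp⟩
  obtain ⟨S⟩ : Nonempty (Sylow s U') := inferInstance
  obtain ⟨hS1, hS2, hS3⟩ := Cfsg.Agent.Lib.Helper24.sylow_map_facts U' S
  set S' := (S : Subgroup U').map U'.subtype with hS'
  have hsσ : s ∈ sigma M := by
    apply hσ s hsp
    apply hsU'.trans
    apply Subgroup.card_dvd_of_le
    rw [← hM'σ]; exact hU'M'
  -- the index of `U'` in `M`
  have e1 := Cfsg.Agent.Lib.Helper23.card_isComplIn hP.U_compl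
  have e2 := Cfsg.Agent.Lib.Helper23.card_isComplIn hP.W₁_compl
  have hU'M : U' ≤ M := hU'M'.trans hM'M
  have e3 : U'.relIndex M * Nat.card U' = Nat.card M := by
    have := Subgroup.relIndex_mul_relIndex (⊥ : Subgroup G) U' M bot_le hU'M
    rw [Subgroup.relIndex_bot_left, Subgroup.relIndex_bot_left] at this
    rw [mul_comm]; exact this
  have e4 : U'.relIndex M = Nat.card (fittingHallOf M) * Nat.card W₁ := by
    have hpos : 0 < Nat.card U' := Nat.card_pos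
    apply Nat.eq_of_mul_eq_mul_right hpos
    rw [e3, ← e2, ← e1]; ring
  have hcop1 := Cfsg.Agent.Lib.Helper23.coprime_card_of_compl M U' ⁅M, M⁆ hM'M hP.U_compl
  have hcop2 := typeP_coprime hP
  have hsF : ¬ s ∣ Nat.card (fittingHallOf M) := by
    intro h
    exact hsp.one_lt.ne' ((hcop1.coprime_dvd_left h).eq_one_of_dvd hsU')
  have hsW : ¬ s ∣ Nat.card W₁ := by
    intro h
    have h2 : s ∣ Nat.card ↥⁅M, M⁆ := hsU'.trans (Subgroup.card_dvd_of_le hU'M')
    exact hsp.one_lt.ne' ((hcop2.coprime_dvd_left h).eq_one_of_dvd h2)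
  have hidx : ¬ s ∣ S'.relIndex M := by
    rw [← Subgroup.relIndex_mul_relIndex S' U' M hS1 hU'M, e4]
    intro h
    rcases (Nat.Prime.dvd_mul hsp).mp h with h | h
    · exact hS3 h
    · rcases (Nat.Prime.dvd_mul hsp).mp h with h | h
      · exact hsF h
      · exact hsW h
  have h1 : normalizer (S' : Set G) ≤ M :=
    Cfsg.Agent.Lib.Helper47.BG11.normalizer_le_of_sigma hsσ (hS1.trans hU'M) hS2 hidx
  have h2 : normalizer (U' : Set G) ≤ normalizer (S' : Set G) :=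
    Cfsg.Agent.Lib.Helper63.BG13.le_normalizer_sylow_of_nilpotent le_rfl hP.U_nilpotent S
  exact hNU' (h2.trans h1)

/-- **Type II case** of S1390 -/
theorem typeII_main (hG : IsMinSimpleOddOrder G) {M : Subgroup G} (hM : IsCoatom M)
    {U : Subgroup G} (hII : IsOfTypeII M) (hU : IsComplIn (fittingHallOf M) U ⁅M, M⁆) :
    (∀ (p : ℕ), p.Prime → ∀ P : Sylow p U,
        IsMulCommutative (P : Subgroup U) ∧ PRankLE p 2 (P : Subgroup U)) ∧
      (∀ X : Set G, X ⊆ (U : Set G) \ {1} → X.Nonempty →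
        fittingHallOf M ⊓ centralizer X ≠ ⊥ →
        centralizer X ≤ M ∧ ∀ L : Subgroup G, IsCoatom L → centralizer X ≤ L → L = M) ∧
      IsTISubset (typeA M \ typeA1 M) := by
  obtain ⟨W₁, U', W₂, hP, hU'1, -, -, -, hNU', -, -⟩ := hII
  have hK := typeP_hallKappa hG hM hP
  obtain ⟨Us, hdec⟩ := (Cfsg.Agent.S1352.result hG M hM W₁ hP.W₁_cyclic hK).1
  have hUs1 := typeII_Us_ne_bot hG hM hP hU'1 hNU' hdec
  have hFσ : fittingHallOf M = sigmaCore M := by
    by_contra hne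
    exact hUs1 (Cfsg.Agent.S1357.result hG M hM W₁ Us hdec hne).1
  have hM'M : ⁅M, M⁆ ≤ M := hP.W₁_compl.1
  have hFM : fittingHallOf M ≤ M := Cfsg.Agent.Lib.Helper23.fittingHallOf_le M
  have hMσ : M ≤ normalizer ((sigmaCore M : Subgroup G) : Set G) :=
    Cfsg.Agent.Lib.Helper24.BG.le_normalizer_sigmaCore M
  have hMN : M ≤ normalizer ((fittingHallOf M : Subgroup G) : Set G) := by
    rw [hFσ]; exact hMσ
  have hMM' := c_le_normalizer_derived M
  have hcop := Cfsg.Agent.Lib.Helper23.coprime_card_of_compl M U' ⁅M, M⁆ hM'M hP.U_compl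
  obtain ⟨n, hn, hnU⟩ := c_compl_conj hG hM.1 hFM hM'M hMN hP.U_compl hU hcop
  have hnM : n ∈ M := hFM hn
  have hW₁M : W₁ ≤ M := hK.1
  have hKM : cj n W₁ ≤ M := by
    have := cj_mono (g := n) hW₁M
    rwa [cj_eq_self_of_mem hnM] at this
  have hUM' : U ≤ ⁅M, M⁆ := hU.2.1
  have hUM : U ≤ M := hUM'.trans hM'M
  have hσM' : sigmaCore M ≤ ⁅M, M⁆ := by rw [← hFσ]; exact hU.1
  -- the `σ`-decomposition `(cj n W₁, U)`
  have hdecK : IsSigmaDecomposition M (cj n W₁) U := by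
    refine ⟨?_, ⟨hKM, ?_, ?_⟩, ⟨hUM, sup_le hKM (hσM'.trans hM'M), ?_, ?_⟩, ?_⟩
    · have := hP.W₁_cyclic
      exact isCyclic_of_surjective (cjEquiv n W₁).toMonoidHom (cjEquiv n W₁).surjective
    · intro p hp hd
      rw [card_cj] at hd
      exact hK.2.1 p hp hd
    · intro p hp hpκ
      have h := relIndex_cj n W₁ M
      rw [cj_eq_self_of_mem hnM] at h
      rw [h]
      exact hK.2.2 p hp hpκ
    · -- trivial intersection
      rw [eq_bot_iff]
      intro x hx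
      obtain ⟨hxU, hxKσ⟩ := hx
      obtain ⟨k, hk, s, hs, rfl⟩ :=
        Cfsg.Agent.Lib.Helper24.exists_mul_of_mem_sup_of_le_normalizer (cj n W₁) (sigmaCore M)
          (hKM.trans hMσ) x hxKσ
      have hkM' : k ∈ ⁅M, M⁆ := by
        have h1 : k * s ∈ ⁅M, M⁆ := hUM' hxU
        have h2 : k = k * s * s⁻¹ := by group
        rw [h2]
        exact mul_mem h1 (inv_mem (hσM' hs))
      have hk1 : k = 1 := by
        have hw : n⁻¹ * k * n ∈ W₁ := mem_cj.mp hk
        have hw' : n⁻¹ * k * n ∈ ⁅M, M⁆ := by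
          have := (mem_normalizer_iff.mp (hMM' (M.inv_mem hnM)) k).mp hkM'
          simpa using this
        have h3 : n⁻¹ * k * n ∈ ⁅M, M⁆ ⊓ W₁ := ⟨hw', hw⟩
        rw [hP.W₁_compl.2.2.1, mem_bot] at h3
        have h4 : k = n * (n⁻¹ * k * n) * n⁻¹ := by group
        rw [h4, h3]; group
      rw [hk1, one_mul] at hxU ⊢
      have h5 : s ∈ fittingHallOf M ⊓ U := ⟨hFσ ▸ hs, hxU⟩
      rw [hU.2.2.1] at h5
      exact h5
    · -- product
      intro m hm
      have hm' : n⁻¹ * m * n ∈ M := M.mul_mem (M.mul_mem (M.inv_mem hnM) hm) hnM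
      obtain ⟨m', hm'M', w, hw, he⟩ := hP.W₁_compl.2.2.2 _ hm'
      have hm'' : n * m' * n⁻¹ ∈ ⁅M, M⁆ := (mem_normalizer_iff.mp (hMM' hnM) m').mp hm'M'
      obtain ⟨h, hh, u, hu, he2⟩ := hU.2.2.2 _ hm''
      have huM : u ∈ M := hUM hu
      have hh' : u⁻¹ * h * u ∈ sigmaCore M := by
        have := (mem_normalizer_iff.mp (hMσ (M.inv_mem huM)) h).mp (hFσ ▸ hh)
        simpa using this
      refine ⟨u, hu, (u⁻¹ * h * u) * (n * w * n⁻¹),
        mul_mem (mem_sup_right hh') (mem_sup_left (conj_mem_cj hw)), ?_⟩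
      have e : m = n * (n⁻¹ * m * n) * n⁻¹ := by group
      rw [e, he]
      have e2 : n * (m' * w) * n⁻¹ = (n * m' * n⁻¹) * (n * w * n⁻¹) := by group
      rw [e2, he2]; group
    · rw [← hnU, normalizer_cj]
      exact cj_mono hP.U_normal
  have hnI : ¬ IsOfTypeI M := fun hI => not_typeP_of_typeF hG hM hI.1 hP
  have key : ∀ {W₁'' U'' W₂'' : Subgroup G}, IsTypePWith M W₁'' U'' W₂'' →
      normalizer (U'' : Set G) ≤ M → False := by
    intro W₁'' U'' W₂'' hP'' hN''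
    have hcop'' :=
      Cfsg.Agent.Lib.Helper23.coprime_card_of_compl M U'' ⁅M, M⁆ hM'M hP''.U_compl
    obtain ⟨n', hn', he⟩ := c_compl_conj hG hM.1 hFM hM'M hMN hP''.U_compl hP.U_compl hcop''
    apply hNU'
    rw [← he, normalizer_cj]
    calc cj n' (normalizer (U'' : Set G)) ≤ cj n' M := cj_mono hN''
      _ = M := cj_eq_self_of_mem (hFM hn')
  have hnot : ¬ (IsOfTypeIII M ∨ IsOfTypeIV M) := by
    rintro (⟨W₁'', U'', W₂'', hP'', -, -, -, -, hN''⟩ | ⟨W₁'', U'', W₂'', hP'', -, -, -, -, hN''⟩)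
    · exact key hP'' hN''
    · exact key hP'' hN''
  have hUD : U ⊔ sigmaCore M = ⁅M, M⁆ := by
    rw [← hFσ, sup_comm]; exact c_sup_eq_of_isComplIn hU
  have hA : typeA M =
      {a | a ∈ ⁅M, M⁆ ∧ a ≠ 1 ∧ ∃ x ∈ fittingHallOf M, x ≠ 1 ∧ a * x = x * a} := by
    unfold typeA; rw [if_neg hnI]; unfold typeCore; rw [if_neg hnot]
  have hA1 : typeA1 M = (fittingHallOf M : Set G) \ {1} := by
    unfold typeA1 typeCore; rw [if_neg hnot]
  exact c_conclusions hG hM hdecK hFσ hM'M hUD hA hA1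

end Cfsg.Agent.Lib.Helper30.BG1390
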