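import Cfsg.Agent.Lib.Helper56.BG143
import Cfsg.Agent.Lib.Helper70.BG14E0
import Cfsg.Agent.Lib.Helper63.BG13b
import Cfsg.Agent.Lib.Helper10.BG144
import Cfsg.Agent.Lib.Helper47.BG1312
import Cfsg.Agent.Lib.Helper64.BG9
import Cfsg.Agent.S1404
import Cfsg.Agent.S1420

/-!
# BG Theorem 14.2 (e)-(g) = S1431, part A: `N_G(Y) ≤ M` uniquely for `Y ≤ K*` of prime order

Everything is derived from the statement of S1430 (as a hypothesis `Stmt1430 G`) and the second
clause of S1378 (as a hypothesis `Stmt1378b G`), plus landed rows.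
-/

set_option autoImplicit false
set_option linter.unusedSectionVars false
set_option linter.unusedVariables false

universe u

namespace Cfsg.Agent.Lib.Helper30.BG142

open Subgroup Cfsg Cfsg.Agent.Lib.Helper33 Cfsg.Agent.Lib.Helper63
open Cfsg.Agent.Lib.Helper56.BG143 (Stmt1430 C1430 C1431 exists_prime_sub)
open Cfsg.Agent.Lib.Helper70.BG14 (Stmt1378b)

variable {G : Type u} [Group G] [Finite G]

/-- the centralizer of an element centralizes the cyclic subgroup it generates -/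
theorem centralizer_singleton_le (y : G) :
    centralizer ({y} : Set G) ≤ centralizer ((zpowers y : Subgroup G) : Set G) := by
  intro g hg
  rw [mem_centralizer_iff] at hg ⊢
  rintro z ⟨n, rfl⟩
  have h : Commute y g := hg y rfl
  exact (h.zpow_left n).eq

/-- a generator of a subgroup of prime order -/
theorem exists_gen_of_card_prime {Y : Subgroup G} (hYp : (Nat.card Y).Prime) :
    ∃ y : G, y ∈ Y ∧ y ≠ 1 ∧ orderOf y = Nat.card Y ∧ zpowers y = Y := by
  have hY1 : Y ≠ ⊥ := by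
    intro h
    rw [h, Subgroup.card_bot] at hYp
    exact Nat.not_prime_one hYp
  obtain ⟨⟨y, hyY⟩, hy⟩ := (Subgroup.ne_bot_iff_exists_ne_one).1 hY1
  have hy1 : y ≠ 1 := fun h => hy (Subtype.ext h)
  have hord : orderOf y = Nat.card Y := by
    have h1 : orderOf y ∣ Nat.card Y := Subgroup.orderOf_dvd_natCard Y hyY
    rcases (Nat.dvd_prime hYp).1 h1 with h | h
    · exact absurd (orderOf_eq_one_iff.1 h) hy1
    · exact h
  refine ⟨y, hyY, hy1, hord, ?_⟩
  apply Subgroup.eq_of_le_of_card_ge (Subgroup.zpowers_le.mpr hyY)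
  rw [Nat.card_zpowers, hord]

theorem ne_bot_of_card_prime {Y : Subgroup G} (hYp : (Nat.card Y).Prime) : Y ≠ ⊥ := by
  intro h
  rw [h, Subgroup.card_bot] at hYp
  exact Nat.not_prime_one hYp

theorem isPGroup_of_card_prime {Y : Subgroup G} {t : ℕ} [Fact t.Prime] (hY : Nat.card Y = t) :
    IsPGroup t Y :=
  IsPGroup.of_card (n := 1) (by rw [pow_one, hY])

/-- **(Z)**: for `Y ≤ K* = C_{M_σ}(K)` of prime order, `M` is the only maximal subgroup
containing `N_G(Y)`. -/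
theorem uniq_of_kstar (hG : IsMinSimpleOddOrder G) (h30 : Stmt1430 G) (h78 : Stmt1378b G)
    {M K : Subgroup G} (hM : IsCoatom M) (hK : IsPiHallOf (kappa M) K M) (hK1 : K ≠ ⊥)
    {Y : Subgroup G} (hY : Y ≤ sigmaCore M ⊓ centralizer (K : Set G)) (hYp : (Nat.card Y).Prime)
    {L : Subgroup G} (hL : IsCoatom L) (hNL : normalizer (Y : Set G) ≤ L) : L = M := by
  classical
  have hHall := BG13.hallStmt hG
  have hσM := hHall M hM
  obtain ⟨t, ht⟩ : ∃ t, t = Nat.card Y := ⟨_, rfl⟩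
  have htp : t.Prime := ht ▸ hYp
  have : Fact t.Prime := ⟨htp⟩
  have hY1 : Y ≠ ⊥ := ne_bot_of_card_prime hYp
  obtain ⟨y0, hy0Y, hy01, hordy, hzY⟩ := exists_gen_of_card_prime hYp
  rw [← ht] at hordy
  -- `X ≤ K` of prime order `p`
  obtain ⟨x, hxK, hxp⟩ := exists_prime_sub hK1
  obtain ⟨X, hXdef⟩ : ∃ X : Subgroup G, X = zpowers x := ⟨_, rfl⟩
  rw [← hXdef] at hxK hxp
  obtain ⟨p, hp⟩ : ∃ p, p = Nat.card X := ⟨_, rfl⟩
  have hpp : p.Prime := hp ▸ hxp
  have : Fact p.Prime := ⟨hpp⟩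
  have hxX : x ∈ X := hXdef ▸ mem_zpowers x
  have hx1 : x ≠ 1 := by
    rintro rfl
    rw [hXdef, zpowers_one_eq_bot, Subgroup.card_bot] at hxp
    exact Nat.not_prime_one hxp
  have hxKm : x ∈ K := hxK hxX
  have hX1 : X ≠ ⊥ := ne_bot_of_card_prime hxp
  have hXM : X ≤ M := hxK.trans hK.1
  have hXtop : X ≠ ⊤ := fun h => hM.1 (top_le_iff.mp (h ▸ hXM))
  obtain ⟨H, hH, hNXH⟩ :=
    Cfsg.Agent.Lib.Helper64.BG9.exists_coatom_ge (BG10.normalizer_ne_top hG hX1 hXtop)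
  obtain ⟨-, -, h3⟩ := h30 M hM K hK hK1
  obtain ⟨-, -, hstar⟩ := h3 X hxK hxp
  have hXσH : X ≤ sigmaCore H := hstar H hH hNXH
  have hσH := hHall H hH
  have hpσH : p ∈ sigma H := hσH.2.1 p hpp (hp ▸ Subgroup.card_dvd_of_le hXσH)
  have hpκ : p ∈ kappa M := hK.2.1 p hpp (hp ▸ Subgroup.card_dvd_of_le hxK)
  have hpσM : p ∉ sigma M := hpκ.2.2.1
  have hnc : ∀ g : G, H ≠ cj g M := by
    intro g h
    apply hpσM
    have h1 : p ∈ sigma (cj g M) := h ▸ hpσH
    have h2 := BG13.sigma_cj g⁻¹ h1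
    rwa [cj_inv_cj] at h2
  -- facts on `Y`
  have hYW : Y ≤ sigmaCore M := hY.trans inf_le_left
  have hYM : Y ≤ M := hYW.trans hσM.1
  have htσM : t ∈ sigma M := hσM.2.1 t htp (ht ▸ Subgroup.card_dvd_of_le hYW)
  have hYCX : Y ≤ centralizer (X : Set G) :=
    hY.trans (inf_le_right.trans (Subgroup.centralizer_le hxK))
  have hYH : Y ≤ H := hYCX.trans ((Subgroup.centralizer_le_normalizer _).trans hNXH)
  have htσH : t ∉ sigma H := by
    intro h
    obtain ⟨g, hg⟩ := h78 M H hM hH ⟨t, htσM, h⟩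
    exact hnc g hg
  have hxσH : x ∈ sigmaCore H := hXσH hxX
  have hcomm : y0 * x = x * y0 := by
    have h1 := (hY hy0Y).2
    exact (mem_centralizer_iff.1 h1 x hxKm).symm
  have hYt : IsPGroup t Y := isPGroup_of_card_prime ht.symm
  rcases Cfsg.Agent.Lib.Helper10.BG14.prime_cases hG hH hxσH hx1 (hYH hy0Y) hcomm htp
      (hordy ▸ dvd_rfl) htσH with hκ | hτ2
  · -- `t ∈ κ(H)`: Step A inside `H`
    obtain ⟨KH, hKH, hYKH⟩ := Cfsg.Agent.Lib.Helper47.BG1312.exists_isPiHallOf_ge hG (kappa H)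
      hH.1 hYH (fun r hr hrd => by
        have h1 : r = t := (Nat.prime_dvd_prime_iff_eq hr htp).1 (ht ▸ hrd)
        rw [h1]; exact hκ)
    have hKH1 : KH ≠ ⊥ := fun h => hY1 (le_bot_iff.1 (h ▸ hYKH))
    obtain ⟨-, -, h3'⟩ := h30 H hH KH hKH hKH1
    obtain ⟨-, -, hstar'⟩ := h3' Y hYKH hYp
    have hYσL : Y ≤ sigmaCore L := hstar' L hL hNL
    have hσL := hHall L hL
    have htσL : t ∈ sigma L := hσL.2.1 t htp (ht ▸ Subgroup.card_dvd_of_le hYσL)
    obtain ⟨g, hg⟩ := h78 M L hM hL ⟨t, htσM, htσL⟩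
    have hg' : L = cj g M := hg
    have hYL : Y ≤ L := hYσL.trans hσL.1
    have hcjY : Y.map (MulAut.conj g⁻¹).toMonoidHom ≤ M := by
      have h1 : cj g⁻¹ Y ≤ M := by
        rw [cj_le_iff, inv_inv, ← hg']
        exact hYL
      exact h1
    obtain ⟨m, hm, c, hc, hgmc⟩ :=
      (Cfsg.Agent.S1404.result hG M hM t htσM Y hYt hY1 hYM).1 g⁻¹ hcjY
    have hcL : c ∈ L := hNL (Subgroup.centralizer_le_normalizer _ hc)
    have hg2 : g = c⁻¹ * m⁻¹ := by
      have h1 : g = (g⁻¹)⁻¹ := (inv_inv g).symm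
      rw [h1, hgmc]; group
    have h4 : L = cj c⁻¹ M := by
      rw [hg', hg2, cj_mul, cj_eq_self_of_mem (M.inv_mem hm)]
    have h5 : cj c L = L := cj_eq_self_of_mem hcL
    rw [← h5, h4, cj_cj_inv]
  · -- `t ∈ τ₂(H)`: impossible
    exfalso
    obtain ⟨E, hE, -⟩ := BG13.exists_compl_ge hG hH.1 hσH (bot_le : (⊥ : Subgroup G) ≤ H)
      (by rw [Subgroup.card_bot]; exact Nat.coprime_one_left _)
    obtain ⟨-, -, -, h20⟩ := Cfsg.Agent.S1420.result hG H hH E hE
    have hhat : y0 ∈ sigmaHat H := ⟨hYH hy0Y, x, hxσH, hx1, hcomm⟩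
    obtain ⟨hCH, huniq⟩ := h20 y0 (hYH hy0Y) hy01 (fun r hr hrd => by
      rw [hordy] at hrd
      rw [(Nat.prime_dvd_prime_iff_eq hr htp).1 hrd]; exact hτ2) hhat
    have hcent : centralizer ({y0} : Set G) ≤ normalizer (Y : Set G) := by
      have h1 := centralizer_singleton_le y0
      rw [hzY] at h1
      exact h1.trans (Subgroup.centralizer_le_normalizer _)
    have hLH : L = H := huniq L hL (hcent.trans hNL)
    have hHM : H ≠ M := by
      intro h
      exact hpσM (h ▸ hpσH)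
    have hNH : normalizer (Y : Set G) ≤ H := hLH ▸ hNL
    obtain ⟨-, hcompl, -⟩ := Cfsg.Agent.Lib.Helper70.BG14.tau2_of_sigma_normalizer hG h78 hM hH hHM
      htσM hYt hY1 hYM hNH
    have hmem : x ∈ (M ⊓ H) ⊓ sigmaCore H := ⟨⟨hXM hxX, hσH.1 hxσH⟩, hxσH⟩
    rw [hcompl.2.2.1, mem_bot] at hmem
    exact hx1 hmem

end Cfsg.Agent.Lib.Helper30.BG142
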