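import Cfsg.Agent.Lib.Helper50.TildeConj
import Cfsg.Agent.Lib.Helper24.PiClasses
import Cfsg.Agent.Lib.Helper68.BG1215b
import Cfsg.Agent.Lib.Helper63.BG13b
import Cfsg.Agent.Lib.Helper70.BG14E0
import Cfsg.Agent.Lib.Helper23.TypeP

/-!
# BG Theorem 14.6 (S1379), part A: vocabulary, conjugation of `κ`, and disjointness of the `M̃`

Everything is derived from verbatim statements of other rows, taken as hypotheses.
-/

set_option autoImplicit false
set_option linter.unusedSectionVars false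
set_option linter.unusedVariables false

universe u

namespace Cfsg.Agent.Lib.Helper30.BG146

open Subgroup Cfsg Cfsg.Agent.Lib.Helper33 Cfsg.Agent.Lib.Helper63
open Cfsg.Agent.Lib.Helper50.Tilde
open Cfsg.Agent.Lib.Helper67 (PiNat)
open Cfsg.Agent.Lib.Helper70.BG14 (Stmt1378b)

variable {G : Type u} [Group G]

/-- `M̃ = M̃_σ`: the union of the conjugates of the cosets `x R(x)`, `x ∈ M_σ^#` -/
noncomputable def T (M : Subgroup G) : Set G := tildeOf M ((sigmaCore M : Set G) \ {1})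

/-- first clause of S1378 -/
def St1378a (G : Type u) [Group G] : Prop :=
  ∀ p : ℕ, p.Prime → p ∣ Nat.card G → ∃ M : Subgroup G, IsCoatom M ∧ p ∈ sigma M

/-- statement of S1425 -/
def St1425 (G : Type u) [Group G] : Prop :=
  ∀ (M : Subgroup G), IsCoatom M → ∀ Y : Subgroup G, Y ≠ ⊥ →
    (∀ p : ℕ, p.Prime → p ∣ Nat.card Y → p ∈ sigma M) →
    ∃ g : G, Y.map (MulAut.conj g).toMonoidHom ≤ sigmaCore M

/-- statement of S1433 -/
def St1433 (G : Type u) [Group G] : Prop :=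
  ∀ (M N : Subgroup G), IsCoatom M → IsCoatom N → ∀ x y : G, x ∈ sigmaCore M → y ∈ sigmaCore N →
    x ≠ 1 → y ≠ 1 → x ≠ y → ∀ r ∈ supportR M x, ∀ s ∈ supportR N y, x * r ≠ y * s

/-- statement of S1432 -/
def St1432 (G : Type u) [Group G] : Prop :=
  ∀ (M : Subgroup G), IsCoatom M → ∀ x : G, x ∈ sigmaCore M → x ≠ 1 →
    ∀ x' : G, x' ∈ M ⊓ centralizer ({x} : Set G) → x' ≠ 1 →
    (∀ p : ℕ, p.Prime → p ∣ orderOf x' → p ∉ sigma M) →
    ((∀ p : ℕ, p.Prime → p ∣ orderOf x' → p ∈ kappa M) ∧ centralizer ({x} : Set G) ≤ M) ∨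
      ((∀ p : ℕ, p.Prime → p ∣ orderOf x' → p ∈ tau2 M) ∧
        (∃ L : Subgroup G, IsCoatom L ∧ ∀ p : ℕ, p.Prime → p ∣ orderOf x' → p ∈ sigma L) ∧
        (centralizer ({x'} : Set G) ≤ M ∧
          ∀ L : Subgroup G, IsCoatom L → centralizer ({x'} : Set G) ≤ L → L = M))

/-- the part of the statement of S1375 used here -/
def St1375 (G : Type u) [Group G] : Prop :=
  ∀ (M : Subgroup G), IsCoatom M → ∀ x : G, x ∈ sigmaCore M → x ≠ 1 →
    ¬ centralizer ({x} : Set G) ≤ M →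
    ∃ N : Subgroup G, (IsCoatom N ∧ centralizer ({x} : Set G) ≤ N) ∧
      (∀ L : Subgroup G, IsCoatom L → centralizer ({x} : Set G) ≤ L → L = N) ∧
      sigmaCore N = fittingHallOf N ∧
      centralizer ({x} : Set G) ≤
        normalizer ((sigmaCore N ⊓ centralizer ({x} : Set G) : Subgroup G) : Set G) ∧
      IsComplIn (M ⊓ centralizer ({x} : Set G)) (sigmaCore N ⊓ centralizer ({x} : Set G))
        (centralizer ({x} : Set G)) ∧
      IsComplIn (M ⊓ N) (sigmaCore N) N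

theorem T_cj (c : G) (M : Subgroup G) : T (cj c M) = T M := tildeOf_sigmaCore_cj c M

theorem conj_mem_T_iff {M : Subgroup G} {g : G} (z : G) : z * g * z⁻¹ ∈ T M ↔ g ∈ T M :=
  conj_mem_tildeOf_iff z

theorem mem_T_of {M : Subgroup G} {x r : G} (hx : x ∈ sigmaCore M) (hx1 : x ≠ 1)
    (hr : r ∈ supportR M x) : x * r ∈ T M :=
  ⟨x, ⟨hx, hx1⟩, r, hr, 1, by group⟩

/-- an element `≠ 1` has a prime dividing its order -/
theorem exists_prime_dvd_orderOf {x : G} (hx : x ≠ 1) : ∃ p : ℕ, p.Prime ∧ p ∣ orderOf x := by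
  apply Nat.exists_prime_and_dvd
  intro h
  exact hx (orderOf_eq_one_iff.mp h)

section fin

variable [Finite G]

/-- `κ(cMc⁻¹) ⊇ κ(M)` -/
theorem kappa_subset_cj (c : G) (M : Subgroup G) : kappa M ⊆ kappa (cj c M) := by
  intro p hp
  obtain ⟨hpp, hd, hnσ, hP⟩ := hp
  have : Fact p.Prime := ⟨hpp⟩
  refine ⟨hpp, by rwa [card_cj], by rwa [sigma_cj_eq], ?_⟩
  intro P'
  let e := cjEquiv c M
  let P : Sylow p ↥M := P'.comapOfInjective e.toMonoidHom e.injective
    (by
      intro x _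
      exact ⟨e.symm x, by simp⟩)
  obtain ⟨hcyc, x, hxP, hx1, y, hy, hy1, hxy⟩ := hP P
  have hPc : (P : Subgroup ↥M) = (P' : Subgroup ↥(cj c M)).comap e.toMonoidHom := rfl
  constructor
  · have hsurj : Function.Surjective
        (e.toMonoidHom.subgroupComap (P' : Subgroup ↥(cj c M))) :=
      MonoidHom.subgroupComap_surjective_of_surjective _ _ e.surjective
    have hc' : IsCyclic ↥((P' : Subgroup ↥(cj c M)).comap e.toMonoidHom) := hPc ▸ hcyc
    exact isCyclic_of_surjective _ hsurj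
  · refine ⟨e x, ?_, ?_, c * y * c⁻¹, ?_, ?_, ?_⟩
    · have : x ∈ (P' : Subgroup ↥(cj c M)).comap e.toMonoidHom := hPc ▸ hxP
      exact this
    · intro h
      apply hx1
      have := e.injective (h.trans (map_one e).symm)
      exact this
    · rw [sigmaCore_cj]
      exact conj_mem_cj hy
    · intro h
      apply hy1
      have h1 : y = c⁻¹ * (c * y * c⁻¹) * c := by group
      rw [h1, h]; group
    · rw [coe_cjEquiv]
      calc c * (x : G) * c⁻¹ * (c * y * c⁻¹) = c * ((x : G) * y) * c⁻¹ := by group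
        _ = c * (y * (x : G)) * c⁻¹ := by rw [hxy]
        _ = c * y * c⁻¹ * (c * (x : G) * c⁻¹) := by group

/-- `κ(cMc⁻¹) = κ(M)` -/
theorem kappa_cj_eq (c : G) (M : Subgroup G) : kappa (cj c M) = kappa M := by
  apply Set.Subset.antisymm
  · have := kappa_subset_cj c⁻¹ (cj c M)
    rwa [cj_inv_cj] at this
  · exact kappa_subset_cj c M

/-- an element of `M_σ` has a `σ(M)`-order -/
theorem piNat_orderOf_of_mem_sigmaCore {M : Subgroup G}
    (hσ : IsPiHallOf (sigma M) (sigmaCore M) M) {x : G} (hx : x ∈ sigmaCore M) :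
    PiNat (sigma M) (orderOf x) := by
  intro p hp hpd
  exact hσ.2.1 p hp (hpd.trans (Subgroup.orderOf_dvd_natCard _ hx))

/-- a `σ(M)`-element of `M` lies in `M_σ` -/
theorem mem_sigmaCore_of_piNat {M : Subgroup G}
    (hσ : IsPiHallOf (sigma M) (sigmaCore M) M) {x : G} (hxM : x ∈ M)
    (hx : PiNat (sigma M) (orderOf x)) : x ∈ sigmaCore M := by
  have h1 : zpowers x ≤ sigmaCore M := by
    apply Cfsg.Agent.Lib.Helper68.BG1215.le_sigmaCore_of_pi hσ (zpowers_le.mpr hxM)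
    intro p hp hpd
    rw [Nat.card_zpowers] at hpd
    exact hx p hp hpd
  exact h1 (mem_zpowers x)

/-- an element which is both a `π`- and a `π'`-element is trivial -/
theorem eq_one_of_piNat_compl {π : Set ℕ} {x : G} (h : PiNat π (orderOf x))
    (h' : PiNat πᶜ (orderOf x)) : x = 1 :=
  Cfsg.Agent.Lib.Helper67.eq_one_of_piNat h h'

/-- **(P1)**: `M̃ ∩ Ñ = ∅` for non-conjugate maximal subgroups -/
theorem disjoint_T (hG : IsMinSimpleOddOrder G) (h78 : Stmt1378b G) (h33 : St1433 G)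
    {M N : Subgroup G} (hM : IsCoatom M) (hN : IsCoatom N)
    (hnc : ∀ g : G, N ≠ M.map (MulAut.conj g).toMonoidHom) : T M ∩ T N = ∅ := by
  rw [Set.eq_empty_iff_forall_notMem]
  rintro g ⟨⟨x, ⟨hx, hx1⟩, r, hr, a, rfl⟩, ⟨y, ⟨hy, hy1⟩, s, hs, b, hb⟩⟩
  have hx1' : x ≠ 1 := hx1
  have hy1' : y ≠ 1 := hy1
  set c := a⁻¹ * b with hc
  have hN' : IsCoatom (cj c N) := BG13.isCoatom_cj hN c
  have hy' : c * y * c⁻¹ ∈ sigmaCore (cj c N) := by
    rw [sigmaCore_cj]; exact conj_mem_cj hy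
  have hy'1 : c * y * c⁻¹ ≠ 1 := by
    intro h
    apply hy1'
    have h1 : y = c⁻¹ * (c * y * c⁻¹) * c := by group
    rw [h1, h]; group
  have hs' : c * s * c⁻¹ ∈ supportR (cj c N) (c * y * c⁻¹) := by
    rw [supportR_cj]; exact conj_mem_cj hs
  have heq : x * r = c * y * c⁻¹ * (c * s * c⁻¹) := by
    have h1 : x * r = a⁻¹ * (a * (x * r) * a⁻¹) * a := by group
    rw [h1, hb, hc]; group
  by_cases hxy : x = c * y * c⁻¹
  · -- a common prime of `σ(M)` and `σ(N)`
    obtain ⟨p, hp, hpd⟩ := exists_prime_dvd_orderOf hx1'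
    have hσM := BG13.hallStmt hG M hM
    have hσN' := BG13.hallStmt hG (cj c N) hN'
    have hpM : p ∈ sigma M := piNat_orderOf_of_mem_sigmaCore hσM hx p hp hpd
    have hpN' : p ∈ sigma (cj c N) := by
      apply piNat_orderOf_of_mem_sigmaCore hσN' hy' p hp
      rw [← hxy]; exact hpd
    rw [sigma_cj_eq] at hpN'
    obtain ⟨g, hg⟩ := h78 M N hM hN ⟨p, hpM, hpN'⟩
    exact hnc g hg
  · exact h33 M (cj c N) hM hN' x (c * y * c⁻¹) hx hy' hx1' hy'1 hxy r hr _ hs' heq

end fin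

end Cfsg.Agent.Lib.Helper30.BG146
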