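import Cfsg.Agent.Lib.Helper30.BG146A

/-!
# BG Theorem 14.6 (S1379), part B: every `g ≠ 1` lies in some `M̃` or is of "kappa type"
-/

set_option autoImplicit false
set_option linter.unusedSectionVars false
set_option linter.unusedVariables false

universe u

namespace Cfsg.Agent.Lib.Helper30.BG146

open Subgroup Cfsg Cfsg.Agent.Lib.Helper33 Cfsg.Agent.Lib.Helper63
open Cfsg.Agent.Lib.Helper50.Tilde
open Cfsg.Agent.Lib.Helper67 (PiNat)
open Cfsg.Agent.Lib.Helper70.BG14 (Stmt1378b)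

variable {G : Type u} [Group G]

/-- the kappa alternative: `g` is conjugate to `x x'` with `x ∈ (M₁)_σ^#` and `x' ≠ 1` a
`κ(M₁)`-element of `C_{M₁}(x)` -/
def KappaCase (g : G) : Prop :=
  ∃ M₁ : Subgroup G, IsCoatom M₁ ∧ ∃ x ∈ sigmaCore M₁, x ≠ 1 ∧
    ∃ x' ∈ M₁ ⊓ centralizer ({x} : Set G), x' ≠ 1 ∧
    (∀ p : ℕ, p.Prime → p ∣ orderOf x' → p ∈ kappa M₁) ∧ ∃ y : G, g = y * (x * x') * y⁻¹

/-- the conclusion of the covering lemma -/
def Concl (g : G) : Prop := (∃ N : Subgroup G, IsCoatom N ∧ g ∈ T N) ∨ KappaCase g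

theorem concl_conj {g : G} (c : G) (h : Concl g) : Concl (c * g * c⁻¹) := by
  rcases h with ⟨N, hN, hg⟩ | ⟨M₁, hM₁, x, hx, hx1, x', hx', hx'1, hκ, y, hy⟩
  · exact Or.inl ⟨N, hN, (conj_mem_T_iff c).mpr hg⟩
  · refine Or.inr ⟨M₁, hM₁, x, hx, hx1, x', hx', hx'1, hκ, c * y, ?_⟩
    rw [hy]; group

theorem concl_of_conj {g : G} (c : G) (h : Concl (c * g * c⁻¹)) : Concl g := by
  have := concl_conj c⁻¹ h
  have e : c⁻¹ * (c * g * c⁻¹) * c⁻¹⁻¹ = g := by group
  rwa [e] at this

theorem conj_ne_one {x : G} (c : G) (hx : x ≠ 1) : c * x * c⁻¹ ≠ 1 := by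
  intro h
  apply hx
  have h1 : x = c⁻¹ * (c * x * c⁻¹) * c := by group
  rw [h1, h]; group

theorem orderOf_conj' (c x : G) : orderOf (c * x * c⁻¹) = orderOf x := by
  have := orderOf_injective (MulAut.conj c).toMonoidHom (MulAut.conj c).injective x
  simpa using this

theorem commute_conj {x y : G} (c : G) (h : Commute x y) :
    Commute (c * x * c⁻¹) (c * y * c⁻¹) := by
  show c * x * c⁻¹ * (c * y * c⁻¹) = c * y * c⁻¹ * (c * x * c⁻¹)
  calc c * x * c⁻¹ * (c * y * c⁻¹) = c * (x * y) * c⁻¹ := by group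
    _ = c * (y * x) * c⁻¹ := by rw [h.eq]
    _ = c * y * c⁻¹ * (c * x * c⁻¹) := by group

theorem commute_of_mem_zpowers {g a b : G} (ha : a ∈ zpowers g) (hb : b ∈ zpowers g) :
    Commute a b := by
  obtain ⟨k, rfl⟩ := ha
  obtain ⟨l, rfl⟩ := hb
  exact ((Commute.refl g).zpow_right l).zpow_left k

section fin

variable [Finite G]

/-- the "swap": `x ∈ M_σ`, `x'` a `σ(L)`-element with `𝓜(C_G(x')) = {M}`: then `x x' ∈ L̃` -/
theorem swap_mem (hG : IsMinSimpleOddOrder G) (h25 : St1425 G) (h75 : St1375 G)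
    {M L : Subgroup G} (hM : IsCoatom M) (hL : IsCoatom L) {x x' : G}
    (hx : x ∈ sigmaCore M) (hx'1 : x' ≠ 1) (hc : Commute x x')
    (hCM : centralizer ({x'} : Set G) ≤ M)
    (huniq : ∀ L' : Subgroup G, IsCoatom L' → centralizer ({x'} : Set G) ≤ L' → L' = M)
    (hLσ : ∀ p : ℕ, p.Prime → p ∣ orderOf x' → p ∈ sigma L)
    (hnσ : ∀ p : ℕ, p.Prime → p ∣ orderOf x' → p ∉ sigma M) : x * x' ∈ T L := by
  have hY1 : zpowers x' ≠ ⊥ := zpowers_ne_bot.mpr hx'1
  obtain ⟨c, hcY⟩ := h25 L hL (zpowers x') hY1 (by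
    intro q hq hqd
    rw [Nat.card_zpowers] at hqd
    exact hLσ q hq hqd)
  have hcx' : c * x' * c⁻¹ ∈ sigmaCore L := hcY (conj_mem_cj (mem_zpowers x'))
  set L' := cj c⁻¹ L with hL'def
  have hL'co : IsCoatom L' := BG13.isCoatom_cj hL c⁻¹
  have hx'L' : x' ∈ sigmaCore L' := by
    rw [hL'def, sigmaCore_cj, mem_cj, inv_inv]
    exact hcx'
  have hσM := BG13.hallStmt hG M hM
  have h1 : ¬ centralizer ({x'} : Set G) ≤ L' := by
    intro h
    have hLM : L' = M := huniq L' hL'co h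
    rw [hLM] at hx'L'
    obtain ⟨p, hp, hpd⟩ := exists_prime_dvd_orderOf hx'1
    exact hnσ p hp hpd (piNat_orderOf_of_mem_sigmaCore hσM hx'L' p hp hpd)
  obtain ⟨N, ⟨hN, hCN⟩, -, hNσF, -, -, -⟩ := h75 L' hL'co x' hx'L' hx'1 h1
  have hNM : N = M := huniq N hN hCN
  rw [hNM] at hNσF
  have hsupp : supportR L' x' = fittingHallOf M ⊓ centralizer ({x'} : Set G) :=
    supportR_eq_of_unique h1 hM hCM huniq
  have hxs : x ∈ supportR L' x' := by
    rw [hsupp, ← hNσF]
    exact ⟨hx, Subgroup.mem_centralizer_singleton_iff.mpr hc.eq⟩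
  have h2 : x' * x ∈ T L' := mem_T_of hx'L' hx'1 hxs
  rw [hL'def, T_cj] at h2
  rw [hc.eq]
  exact h2

/-- the covering lemma for `g = x x'`, `x ∈ M_σ^#`, `x'` a `σ(M)'`-element commuting with `x` -/
theorem cover_aux (hG : IsMinSimpleOddOrder G) (h78 : Stmt1378b G) (h25 : St1425 G)
    (h32 : St1432 G) (h75 : St1375 G) {M : Subgroup G} (hM : IsCoatom M) {x x' : G}
    (hx : x ∈ sigmaCore M) (hx1 : x ≠ 1) (hc : Commute x x')
    (hx'π : ∀ p : ℕ, p.Prime → p ∣ orderOf x' → p ∉ sigma M) : Concl (x * x') := by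
  classical
  by_cases hx'1 : x' = 1
  · left
    refine ⟨M, hM, ?_⟩
    rw [hx'1, mul_one]
    exact subset_tildeOf _ _ ⟨hx, hx1⟩
  have hx'C : x' ∈ centralizer ({x} : Set G) := Subgroup.mem_centralizer_singleton_iff.mpr hc.eq.symm
  have hσM := BG13.hallStmt hG M hM
  by_cases hCM : centralizer ({x} : Set G) ≤ M
  · have hx'M : x' ∈ M ⊓ centralizer ({x} : Set G) := ⟨hCM hx'C, hx'C⟩
    rcases h32 M hM x hx hx1 x' hx'M hx'1 hx'π with ⟨hκ, -⟩ | ⟨-, ⟨L, hL, hLσ⟩, hCx', huniq⟩
    · right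
      exact ⟨M, hM, x, hx, hx1, x', hx'M, hx'1, hκ, 1, by group⟩
    · left
      exact ⟨L, hL, swap_mem hG h25 h75 hM hL hx hx'1 hc hCx' huniq hLσ hx'π⟩
  · obtain ⟨N, ⟨hN, hCN⟩, huN, hNσF, hnorm, hcompl, hcomplN⟩ := h75 M hM x hx hx1 hCM
    have hσN := BG13.hallStmt hG N hN
    have hxM : x ∈ M := hσM.1 hx
    have hxC : x ∈ centralizer ({x} : Set G) := Subgroup.mem_centralizer_singleton_iff.mpr rfl
    have hxN : x ∈ N := hCN hxC
    have hxnN : x ∉ sigmaCore N := by
      intro h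
      have h1 : x ∈ (M ⊓ centralizer ({x} : Set G)) ⊓ (sigmaCore N ⊓ centralizer ({x} : Set G)) :=
        ⟨⟨hxM, hxC⟩, ⟨h, hxC⟩⟩
      rw [hcompl.2.2.1, mem_bot] at h1
      exact hx1 h1
    have hxπ : PiNat (sigma M) (orderOf x) := piNat_orderOf_of_mem_sigmaCore hσM hx
    have hdisj : ∀ q, q ∈ sigma M → q ∉ sigma N := by
      intro q hqM hqN
      obtain ⟨a, ha⟩ := h78 M N hM hN ⟨q, hqM, hqN⟩
      have hσeq : sigma N = sigma M := (congrArg sigma ha).trans (sigma_cj_eq a M)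
      apply hxnN
      apply mem_sigmaCore_of_piNat hσN hxN
      rw [hσeq]
      exact hxπ
    have hRsupp : supportR M x = sigmaCore N ⊓ centralizer ({x} : Set G) := by
      rw [supportR_eq_of_unique hCM hN hCN huN, ← hNσF]
    obtain ⟨w, v, hwv, hwz, hvz, hwπ, hvπ⟩ :=
      Cfsg.Agent.Lib.Helper24.PiCl.exists_pi_decomp (sigma N) x'
    have hzC : zpowers x' ≤ centralizer ({x} : Set G) := zpowers_le.mpr hx'C
    have hwC : w ∈ centralizer ({x} : Set G) := hzC hwz
    have hvC : v ∈ centralizer ({x} : Set G) := hzC hvz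
    have hwR : w ∈ sigmaCore N ⊓ centralizer ({x} : Set G) :=
      ⟨mem_sigmaCore_of_piNat hσN (hCN hwC) hwπ, hwC⟩
    have hcwv : Commute w v := commute_of_mem_zpowers hwz hvz
    by_cases hv1 : v = 1
    · left
      refine ⟨M, hM, ?_⟩
      have hx'w : x' = w := by rw [← hwv, hv1, mul_one]
      rw [hx'w]
      exact mem_T_of hx hx1 (hRsupp ▸ hwR)
    · -- conjugate `v` into `M ∩ C(x)` inside `C(x)`
      have hCtop : centralizer ({x} : Set G) ≠ ⊤ := ne_top_of_le_ne_top hN.1 hCN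
      have hsolv : Group.IsSolvable ↥(centralizer ({x} : Set G)) := hG.2.2.2 _ hCtop
      have hcard : Nat.card ↥(centralizer ({x} : Set G)) =
          Nat.card ↥(M ⊓ centralizer ({x} : Set G)) *
            Nat.card ↥(sigmaCore N ⊓ centralizer ({x} : Set G)) :=
        (Cfsg.Agent.Lib.Helper23.card_isComplIn hcompl).symm
      have hRπ : PiNat (sigma N) (Nat.card ↥(sigmaCore N ⊓ centralizer ({x} : Set G))) := by
        intro k hk hkd
        exact hσN.2.1 k hk (hkd.trans (Subgroup.card_dvd_of_le inf_le_left))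
      have hMNcard : Nat.card ↥(M ⊓ N) = (sigmaCore N).relIndex N := by
        have h1 := Cfsg.Agent.Lib.Helper23.card_isComplIn hcomplN
        have h2 : (sigmaCore N).relIndex N * Nat.card (sigmaCore N) = Nat.card N := by
          have := Subgroup.relIndex_mul_relIndex (⊥ : Subgroup G) (sigmaCore N) N bot_le hσN.1
          rw [Subgroup.relIndex_bot_left, Subgroup.relIndex_bot_left] at this
          rw [mul_comm]; exact this
        have hpos : 0 < Nat.card (sigmaCore N) := Nat.card_pos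
        have h3 : Nat.card ↥(M ⊓ N) * Nat.card (sigmaCore N) =
            (sigmaCore N).relIndex N * Nat.card (sigmaCore N) := by rw [h1, h2]
        exact Nat.eq_of_mul_eq_mul_right hpos h3
      have hcop : (Nat.card ↥(M ⊓ centralizer ({x} : Set G))).Coprime
          (Nat.card ↥(sigmaCore N ⊓ centralizer ({x} : Set G))) := by
        apply Nat.coprime_of_dvd
        intro k hk hk1 hk2
        have hkσ : k ∈ sigma N := hRπ k hk hk2
        have hle : M ⊓ centralizer ({x} : Set G) ≤ M ⊓ N := inf_le_inf_left M hCN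
        have h4 : k ∣ (sigmaCore N).relIndex N := by
          rw [← hMNcard]
          exact hk1.trans (Subgroup.card_dvd_of_le hle)
        exact hσN.2.2 k hk hkσ h4
      have hvcop : (Nat.card ↥(zpowers v)).Coprime
          (Nat.card ↥(sigmaCore N ⊓ centralizer ({x} : Set G))) := by
        rw [Nat.card_zpowers]
        exact (hRπ.coprime hvπ).symm
      obtain ⟨c, hcC, hcv⟩ := Cfsg.Agent.Lib.Helper68.BG1215.hall_conj_le
        (K := centralizer ({x} : Set G)) (Nat.card ↥(M ⊓ centralizer ({x} : Set G)))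
        (Nat.card ↥(sigmaCore N ⊓ centralizer ({x} : Set G))) hcard hcop
        (H := M ⊓ centralizer ({x} : Set G)) (Y := zpowers v) inf_le_right rfl
        (zpowers_le.mpr hvC) hvcop
      have hm : c * v * c⁻¹ ∈ M ⊓ centralizer ({x} : Set G) :=
        hcv (conj_mem_cj (mem_zpowers v))
      have hw'R : c * w * c⁻¹ ∈ sigmaCore N ⊓ centralizer ({x} : Set G) :=
        (mem_normalizer_iff.mp (hnorm hcC) w).mp hwR
      have hcx : c * x * c⁻¹ = x := by
        rw [Subgroup.mem_centralizer_singleton_iff.mp hcC]; group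
      apply concl_of_conj c
      have hconj : c * (x * x') * c⁻¹ = x * (c * w * c⁻¹ * (c * v * c⁻¹)) := by
        calc c * (x * x') * c⁻¹ = (c * x * c⁻¹) * (c * x' * c⁻¹) := by group
          _ = x * (c * (w * v) * c⁻¹) := by rw [hcx, hwv]
          _ = x * (c * w * c⁻¹ * (c * v * c⁻¹)) := by group
      rw [hconj]
      have hm1 : c * v * c⁻¹ ≠ 1 := conj_ne_one c hv1
      have hordm : orderOf (c * v * c⁻¹) = orderOf v := orderOf_conj' c v
      have hvx' : orderOf v ∣ orderOf x' := orderOf_dvd_of_mem_zpowers hvz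
      have hmπ : ∀ p : ℕ, p.Prime → p ∣ orderOf (c * v * c⁻¹) → p ∉ sigma M := by
        intro p hp hpd
        rw [hordm] at hpd
        exact hx'π p hp (hpd.trans hvx')
      have hmπN : ∀ p : ℕ, p.Prime → p ∣ orderOf (c * v * c⁻¹) → p ∉ sigma N := by
        intro p hp hpd
        rw [hordm] at hpd
        exact hvπ p hp hpd
      have hxm : Commute x (c * v * c⁻¹) := (Subgroup.mem_centralizer_singleton_iff.mp hm.2).symm
      have hxw' : Commute x (c * w * c⁻¹) := (Subgroup.mem_centralizer_singleton_iff.mp hw'R.2).symm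
      have hw'm : Commute (c * w * c⁻¹) (c * v * c⁻¹) := commute_conj c hcwv
      rcases h32 M hM x hx hx1 (c * v * c⁻¹) hm hm1 hmπ with
        ⟨-, hbad⟩ | ⟨-, ⟨L, hL, hLσ⟩, hCm, huniqm⟩
      · exact absurd hbad hCM
      · by_cases hw1 : w = 1
        · left
          refine ⟨L, hL, ?_⟩
          have : c * w * c⁻¹ * (c * v * c⁻¹) = c * v * c⁻¹ := by rw [hw1]; group
          rw [this]
          exact swap_mem hG h25 h75 hM hL hx hm1 hxm hCm huniqm hLσ hmπ
        · have hw'1 : c * w * c⁻¹ ≠ 1 := conj_ne_one c hw1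
          have hcopxm : (orderOf x).Coprime (orderOf (c * v * c⁻¹)) := by
            apply Nat.coprime_of_dvd
            intro k hk hk1 hk2
            exact hmπ k hk hk2 (hxπ k hk hk1)
          have hord : orderOf (x * (c * v * c⁻¹)) = orderOf x * orderOf (c * v * c⁻¹) :=
            hxm.orderOf_mul_eq_mul_orderOf_of_coprime hcopxm
          have hxm1 : x * (c * v * c⁻¹) ≠ 1 := by
            intro h
            have h1 : orderOf (x * (c * v * c⁻¹)) = 1 := by rw [h, orderOf_one]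
            rw [hord] at h1
            have h2 : orderOf x = 1 := Nat.eq_one_of_mul_eq_one_right h1
            exact hx1 (orderOf_eq_one_iff.mp h2)
          have hxmN : x * (c * v * c⁻¹) ∈ N ⊓ centralizer ({c * w * c⁻¹} : Set G) := by
            refine ⟨N.mul_mem hxN (hCN hm.2), ?_⟩
            apply Subgroup.mem_centralizer_singleton_iff.mpr
            calc x * (c * v * c⁻¹) * (c * w * c⁻¹)
                = x * ((c * w * c⁻¹) * (c * v * c⁻¹)) := by rw [mul_assoc, hw'm.eq]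
              _ = (c * w * c⁻¹) * (x * (c * v * c⁻¹)) := by
                  rw [← mul_assoc, hxw'.eq, mul_assoc]
          have hσ' : ∀ p : ℕ, p.Prime → p ∣ orderOf (x * (c * v * c⁻¹)) → p ∉ sigma N := by
            intro p hp hpd
            rw [hord] at hpd
            rcases (Nat.Prime.dvd_mul hp).mp hpd with h | h
            · exact hdisj p (hxπ p hp h)
            · exact hmπN p hp h
          rcases h32 N hN (c * w * c⁻¹) hw'R.1 hw'1 (x * (c * v * c⁻¹)) hxmN hxm1 hσ' with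
            ⟨hκ, -⟩ | ⟨-, ⟨L', hL', hL'σ⟩, -⟩
          · right
            refine ⟨N, hN, c * w * c⁻¹, hw'R.1, hw'1, x * (c * v * c⁻¹), hxmN, hxm1, hκ, 1, ?_⟩
            rw [one_mul, inv_one, mul_one, ← mul_assoc, hxw'.eq, mul_assoc]
          · exfalso
            obtain ⟨p, hp, hpd⟩ := exists_prime_dvd_orderOf hx1
            have hpL' : p ∈ sigma L' := hL'σ p hp (by rw [hord]; exact hpd.mul_right _)
            obtain ⟨a, ha⟩ := h78 M L' hM hL' ⟨p, hxπ p hp hpd, hpL'⟩
            have hσeq : sigma L' = sigma M := (congrArg sigma ha).trans (sigma_cj_eq a M)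
            obtain ⟨q, hq, hqd⟩ := exists_prime_dvd_orderOf hm1
            have hqL' : q ∈ sigma L' := hL'σ q hq (by rw [hord]; exact hqd.mul_left _)
            rw [hσeq] at hqL'
            exact hmπ q hq hqd hqL'

/-- **the covering lemma**: every `g ≠ 1` lies in some `M̃` or is of kappa type -/
theorem cover (hG : IsMinSimpleOddOrder G) (h78a : St1378a G) (h78 : Stmt1378b G)
    (h25 : St1425 G) (h32 : St1432 G) (h75 : St1375 G) {g : G} (hg : g ≠ 1) : Concl g := by
  obtain ⟨p, hp, hpd⟩ := exists_prime_dvd_orderOf hg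
  have hpG : p ∣ Nat.card G := hpd.trans (orderOf_dvd_natCard g)
  obtain ⟨M, hM, hpM⟩ := h78a p hp hpG
  obtain ⟨x, x', hxx', hxz, hx'z, hxπ, hx'π⟩ :=
    Cfsg.Agent.Lib.Helper24.PiCl.exists_pi_decomp (sigma M) g
  have hx1 : x ≠ 1 := by
    rintro rfl
    rw [one_mul] at hxx'
    subst hxx'
    exact hx'π p hp hpd hpM
  have hY1 : zpowers x ≠ ⊥ := zpowers_ne_bot.mpr hx1
  obtain ⟨c, hc⟩ := h25 M hM (zpowers x) hY1 (by
    intro q hq hqd
    rw [Nat.card_zpowers] at hqd
    exact hxπ q hq hqd)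
  have hcx : c * x * c⁻¹ ∈ sigmaCore M := hc (conj_mem_cj (mem_zpowers x))
  apply concl_of_conj c
  have hsplit : c * g * c⁻¹ = (c * x * c⁻¹) * (c * x' * c⁻¹) := by rw [← hxx']; group
  rw [hsplit]
  apply cover_aux hG h78 h25 h32 h75 hM hcx (conj_ne_one c hx1)
    (commute_conj c (commute_of_mem_zpowers hxz hx'z))
  intro q hq hqd
  rw [orderOf_conj'] at hqd
  exact hx'π q hq hqd

end fin

end Cfsg.Agent.Lib.Helper30.BG146
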