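import Cfsg.Agent.Lib.Helper30.BG146B
import Cfsg.Agent.Lib.Helper30.BG142B
import Cfsg.Agent.Lib.Helper70.BG1369

/-!
# BG Theorem 14.6 (S1379), part C: the kappa alternative is a conjugate of `Ẑ`; `Ẑ^G` misses every
`Ñ`; assembly
-/

set_option autoImplicit false
set_option linter.unusedSectionVars false
set_option linter.unusedVariables false

universe u

namespace Cfsg.Agent.Lib.Helper30.BG146

open Subgroup Cfsg Cfsg.Agent.Lib.Helper33 Cfsg.Agent.Lib.Helper63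
open Cfsg.Agent.Lib.Helper50.Tilde
open Cfsg.Agent.Lib.Helper67 (PiNat)
open Cfsg.Agent.Lib.Helper70.BG14 (Stmt1378b)
open Cfsg.Agent.Lib.Helper56.BG143 (Stmt1430 exists_prime_sub Ks_ne_bot)
open Cfsg.Agent.Lib.Helper30.BG142 (cent_le_of_kstar part_a centralizer_singleton_le)
open Cfsg.Agent.Lib.Helper70.BG1369 (St1366 St1367 St1434 StDec conj_of_kappa_nonempty)

variable {G : Type u} [Group G]

/-- `Ẑ = K K* − (K ∪ K*)` -/
def Zhat (M K : Subgroup G) : Set G :=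
  ((↑(K ⊔ (sigmaCore M ⊓ centralizer (K : Set G))) : Set G) \
    ((K : Set G) ∪ ↑(sigmaCore M ⊓ centralizer (K : Set G))))

theorem le_normalizer_of_commute {K Ks : Subgroup G}
    (hc : ∀ a ∈ K, ∀ b ∈ Ks, a * b = b * a) : K ≤ normalizer (Ks : Set G) := by
  intro a ha
  rw [mem_normalizer_iff]
  intro b
  have key : ∀ b ∈ Ks, a * b * a⁻¹ = b := fun b hb => by
    rw [hc a ha b hb, mul_inv_cancel_right]
  constructor
  · intro hb
    rw [key b hb]; exact hb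
  · intro hb
    have h1 := hc a⁻¹ (K.inv_mem ha) _ hb
    have h2 : b = a * b * a⁻¹ := by
      calc b = a⁻¹ * (a * b * a⁻¹) * a := by group
        _ = (a * b * a⁻¹) * a⁻¹ * a := by rw [h1]
        _ = a * b * a⁻¹ := by group
    rw [h2]; exact hb

theorem commute_K_Ks {M K : Subgroup G} :
    ∀ a ∈ K, ∀ b ∈ sigmaCore M ⊓ centralizer (K : Set G), a * b = b * a := by
  intro a ha b hb
  exact (mem_centralizer_iff.mp hb.2 a ha)

theorem orderOf_conj_inv (a x : G) : orderOf (a⁻¹ * x * a) = orderOf x := by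
  have := orderOf_conj' a⁻¹ x
  rwa [inv_inv] at this

section fin

variable [Finite G]

/-- a `κ(M)`-element and a `σ(M)`-element -/
theorem piNat_kappa_of_mem {M K : Subgroup G} (hK : IsPiHallOf (kappa M) K M) {k : G}
    (hk : k ∈ K) : PiNat (kappa M) (orderOf k) := by
  intro p hp hpd
  exact hK.2.1 p hp (hpd.trans (Subgroup.orderOf_dvd_natCard K hk))

theorem piNat_kappa_compl_of_mem {M : Subgroup G} {y : G} (hy : y ∈ sigmaCore M) :
    PiNat (kappa M)ᶜ (orderOf y) := by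
  intro p hp hpd hκ
  have h3 : p ∣ Nat.card (sigmaCore M) := hpd.trans (Subgroup.orderOf_dvd_natCard _ hy)
  exact hκ.2.2.1 (Cfsg.Agent.Lib.Helper24.BG.mem_sigma_of_dvd_card_sigmaCore M hp h3)

/-- an element which is both in `K` and in `M_σ` is trivial -/
theorem eq_one_of_mem_K_of_mem_sigmaCore {M K : Subgroup G} (hK : IsPiHallOf (kappa M) K M)
    {y : G} (hyK : y ∈ K) (hy : y ∈ sigmaCore M) : y = 1 :=
  eq_one_of_piNat_compl (piNat_kappa_of_mem hK hyK) (piNat_kappa_compl_of_mem hy)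

/-- the kappa alternative inside `M`: `x x'` is `M`-conjugate to an element of `Ẑ` -/
theorem kappa_case_zhat (hG : IsMinSimpleOddOrder G) (h30 : Stmt1430 G) {M K : Subgroup G}
    (hM : IsCoatom M) (hK : IsPiHallOf (kappa M) K M) (hK1 : K ≠ ⊥) {x x' : G}
    (hx : x ∈ sigmaCore M) (hx1 : x ≠ 1) (hx' : x' ∈ M ⊓ centralizer ({x} : Set G))
    (hx'1 : x' ≠ 1) (hκ : ∀ p : ℕ, p.Prime → p ∣ orderOf x' → p ∈ kappa M) :
    ∃ m : G, ∃ z ∈ Zhat M K, x * x' = m * z * m⁻¹ := by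
  have hsolv : Group.IsSolvable ↥M := hG.2.2.2 M hM.1
  obtain ⟨c, hcM, hcY⟩ := Cfsg.Agent.Lib.Helper68.BG1215.hall_pi_conj_le (K := M) (kappa M)
    (H := K) (Y := zpowers x') hK.1 hK.2.1 hK.2.2 (zpowers_le.mpr hx'.1) (by
      intro p hp hpd
      rw [Nat.card_zpowers] at hpd
      exact hκ p hp hpd)
  have hk : c * x' * c⁻¹ ∈ K := hcY (conj_mem_cj (mem_zpowers x'))
  have hk1 : c * x' * c⁻¹ ≠ 1 := conj_ne_one c hx'1
  have hksσ : c * x * c⁻¹ ∈ sigmaCore M :=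
    (mem_normalizer_iff.mp (Cfsg.Agent.Lib.Helper24.BG.le_normalizer_sigmaCore M hcM) x).mp hx
  have hks1 : c * x * c⁻¹ ≠ 1 := conj_ne_one c hx1
  have hxx' : Commute x' x := Subgroup.mem_centralizer_singleton_iff.mp hx'.2
  have hcomm : Commute (c * x * c⁻¹) (c * x' * c⁻¹) := commute_conj c hxx'.symm
  have hksC : c * x * c⁻¹ ∈ centralizer ({c * x' * c⁻¹} : Set G) :=
    Subgroup.mem_centralizer_singleton_iff.mpr hcomm.eq
  have hks : c * x * c⁻¹ ∈ sigmaCore M ⊓ centralizer (K : Set G) := by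
    rw [← (h30 M hM K hK hK1).1 _ hk hk1]
    exact ⟨hksσ, hksC⟩
  refine ⟨c⁻¹, c * x' * c⁻¹ * (c * x * c⁻¹), ⟨?_, ?_⟩, ?_⟩
  · exact (K ⊔ (sigmaCore M ⊓ centralizer (K : Set G))).mul_mem (le_sup_left (a := K) hk)
      (le_sup_right (a := K) hks)
  · rintro (h | h)
    · -- `k ks ∈ K` forces `ks ∈ K`
      have h1 : c * x * c⁻¹ ∈ K := by
        have := K.mul_mem (K.inv_mem hk) h
        rwa [inv_mul_cancel_left] at this
      exact hks1 (eq_one_of_mem_K_of_mem_sigmaCore hK h1 hksσ)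
    · have h1 : c * x' * c⁻¹ ∈ sigmaCore M ⊓ centralizer (K : Set G) := by
        have := (sigmaCore M ⊓ centralizer (K : Set G)).mul_mem h
          ((sigmaCore M ⊓ centralizer (K : Set G)).inv_mem hks)
        rwa [mul_inv_cancel_right] at this
      exact hk1 (eq_one_of_mem_K_of_mem_sigmaCore hK hk h1.1)
  · rw [hxx'.symm.eq]
    group

/-- the kappa alternative inside a conjugate of `M` -/
theorem kappa_case_zhat_cj (hG : IsMinSimpleOddOrder G) (h30 : Stmt1430 G) {M K : Subgroup G}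
    (hM : IsCoatom M) (hK : IsPiHallOf (kappa M) K M) (hK1 : K ≠ ⊥) (a : G) {x x' : G}
    (hx : x ∈ sigmaCore (cj a M)) (hx1 : x ≠ 1)
    (hx' : x' ∈ cj a M ⊓ centralizer ({x} : Set G))
    (hx'1 : x' ≠ 1) (hκ : ∀ p : ℕ, p.Prime → p ∣ orderOf x' → p ∈ kappa (cj a M)) :
    ∃ m : G, ∃ z ∈ Zhat M K, x * x' = m * z * m⁻¹ := by
  rw [sigmaCore_cj, mem_cj] at hx
  have hx'M : a⁻¹ * x' * a ∈ M := mem_cj.mp hx'.1
  have hxx' : Commute x' x := Subgroup.mem_centralizer_singleton_iff.mp hx'.2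
  have hc2 : Commute (a⁻¹ * x' * a) (a⁻¹ * x * a) := by
    have := commute_conj a⁻¹ hxx'
    rwa [inv_inv] at this
  have hx2' : a⁻¹ * x' * a ∈ M ⊓ centralizer ({a⁻¹ * x * a} : Set G) :=
    ⟨hx'M, Subgroup.mem_centralizer_singleton_iff.mpr hc2.eq⟩
  have h1 : a⁻¹ * x * a ≠ 1 := by
    have := conj_ne_one a⁻¹ hx1
    rwa [inv_inv] at this
  have h2 : a⁻¹ * x' * a ≠ 1 := by
    have := conj_ne_one a⁻¹ hx'1
    rwa [inv_inv] at this
  obtain ⟨m, z, hz, hm⟩ := kappa_case_zhat hG h30 hM hK hK1 hx h1 hx2' h2 (by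
    intro p hp hpd
    rw [orderOf_conj_inv] at hpd
    have := hκ p hp hpd
    rwa [kappa_cj_eq] at this)
  refine ⟨a * m, z, hz, ?_⟩
  have h3 : x * x' = a * (a⁻¹ * x * a * (a⁻¹ * x' * a)) * a⁻¹ := by group
  rw [h3, hm]; group

/-- for `z = k ks` (`k ∈ K^#`, `ks ∈ K*^#`), `C_G(z) ≤ K K*` -/
theorem mem_sup_of_commute_zhat (hG : IsMinSimpleOddOrder G) (h30 : Stmt1430 G)
    (h78 : Stmt1378b G) {M K : Subgroup G} (hM : IsCoatom M) (hK : IsPiHallOf (kappa M) K M)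
    (hK1 : K ≠ ⊥) {k ks : G} (hk : k ∈ K) (hk1 : k ≠ 1)
    (hks : ks ∈ sigmaCore M ⊓ centralizer (K : Set G)) (hks1 : ks ≠ 1) {n : G}
    (hn : Commute n (k * ks)) : n ∈ K ⊔ (sigmaCore M ⊓ centralizer (K : Set G)) := by
  have hkks : Commute k ks := commute_K_Ks k hk ks hks
  have hkπ : PiNat (kappa M) (orderOf k) := piNat_kappa_of_mem hK hk
  have hksπ : PiNat (kappa M)ᶜ (orderOf ks) := piNat_kappa_compl_of_mem hks.1
  obtain ⟨e1, e2⟩ := Cfsg.Agent.Lib.Helper24.PiCl.piPart_eq (π := kappa M) rfl hkks hkπ hksπ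
  obtain ⟨c1, c2⟩ := Cfsg.Agent.Lib.Helper24.PiCl.commute_piPart (π := kappa M) hn
  rw [e1] at c1
  rw [e2] at c2
  -- `n ∈ M`
  have hzks : zpowers ks ≠ ⊥ := zpowers_ne_bot.mpr hks1
  obtain ⟨y0, hy0, hy0p⟩ := exists_prime_sub hzks
  have hYKs : zpowers y0 ≤ sigmaCore M ⊓ centralizer (K : Set G) :=
    hy0.trans (zpowers_le.mpr hks)
  have hCM := cent_le_of_kstar hG h30 h78 hM hK hK1 hYKs hy0p
  have hnM : n ∈ M := by
    apply hCM
    have h1 : n ∈ centralizer ({ks} : Set G) := Subgroup.mem_centralizer_singleton_iff.mpr c2.eq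
    exact Subgroup.centralizer_le hy0 (centralizer_singleton_le ks h1)
  -- `n ∈ N_G(X)`
  have hzk : zpowers k ≠ ⊥ := zpowers_ne_bot.mpr hk1
  obtain ⟨x0, hx0, hx0p⟩ := exists_prime_sub hzk
  have hXK : zpowers x0 ≤ K := hx0.trans (zpowers_le.mpr hk)
  have hnX : n ∈ normalizer ((zpowers x0 : Subgroup G) : Set G) := by
    apply Subgroup.centralizer_le_normalizer
    have h1 : n ∈ centralizer ({k} : Set G) := Subgroup.mem_centralizer_singleton_iff.mpr c1.eq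
    exact Subgroup.centralizer_le hx0 (centralizer_singleton_le k h1)
  rw [← ((h30 M hM K hK hK1).2.2 (zpowers x0) hXK hx0p).1]
  exact ⟨hnM, hnX⟩

/-- an element of `T N` which is a product `n r` -/
theorem eq_of_supportR_bot {N : Subgroup G} {n r : G} (h : supportR N n = ⊥)
    (hr : r ∈ supportR N n) : n * r = n := by
  rw [h, mem_bot] at hr
  rw [hr, mul_one]

/-- **(P3b)**: no conjugate of an element of `Ẑ` lies in any `Ñ` -/
theorem zhat_not_mem_T (hG : IsMinSimpleOddOrder G) (h30 : Stmt1430 G) (h78 : Stmt1378b G)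
    {M K Mstar : Subgroup G} (hM : IsCoatom M) (hK : IsPiHallOf (kappa M) K M) (hK1 : K ≠ ⊥)
    (hMstar : IsCoatom Mstar)
    (hKst : K = sigmaCore Mstar ⊓
      centralizer ((sigmaCore M ⊓ centralizer (K : Set G) : Subgroup G) : Set G))
    (hKstH : IsPiHallOf (kappa Mstar) (sigmaCore M ⊓ centralizer (K : Set G)) Mstar)
    {N : Subgroup G} (hN : IsCoatom N) (y : G) {z : G} (hz : z ∈ Zhat M K) :
    y * z * y⁻¹ ∉ T N := by
  intro hmem
  rw [conj_mem_T_iff] at hmem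
  obtain ⟨n₀, ⟨hn₀, hn₀1⟩, r₀, hr₀, a, hzeq⟩ := hmem
  have hn₀1' : n₀ ≠ 1 := hn₀1
  -- conjugate the data
  obtain ⟨N', hN'def⟩ : ∃ N' : Subgroup G, N' = cj a N := ⟨_, rfl⟩
  have hN' : IsCoatom N' := hN'def ▸ BG13.isCoatom_cj hN a
  obtain ⟨n, hndef⟩ : ∃ n : G, n = a * n₀ * a⁻¹ := ⟨_, rfl⟩
  obtain ⟨r, hrdef⟩ : ∃ r : G, r = a * r₀ * a⁻¹ := ⟨_, rfl⟩
  have hn : n ∈ sigmaCore N' := by
    rw [hN'def, hndef, sigmaCore_cj]; exact conj_mem_cj hn₀
  have hn1 : n ≠ 1 := hndef ▸ conj_ne_one a hn₀1'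
  have hr : r ∈ supportR N' n := by
    rw [hN'def, hndef, hrdef, supportR_cj]; exact conj_mem_cj hr₀
  have hznr : z = n * r := by
    rw [hzeq, hndef, hrdef]; group
  have hnr : Commute r n :=
    Subgroup.mem_centralizer_singleton_iff.mp (supportR_le_centralizer N' n hr)
  have hnz : Commute n z := by
    rw [hznr]
    exact (Commute.refl n).mul_right hnr.symm
  -- `z = k ks`
  have hzZ : z ∈ K ⊔ (sigmaCore M ⊓ centralizer (K : Set G)) := hz.1
  have hzn : z ∉ (K : Set G) ∪ ↑(sigmaCore M ⊓ centralizer (K : Set G)) := hz.2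
  have hzK : z ∉ K := fun h => hzn (Or.inl h)
  have hzKs : z ∉ sigmaCore M ⊓ centralizer (K : Set G) := fun h => hzn (Or.inr h)
  have hKn : K ≤ normalizer ((sigmaCore M ⊓ centralizer (K : Set G) : Subgroup G) : Set G) :=
    le_normalizer_of_commute commute_K_Ks
  obtain ⟨k, hk, ks, hks, hzk⟩ :=
    Cfsg.Agent.Lib.Helper24.exists_mul_of_mem_sup_of_le_normalizer K _ hKn z hzZ
  have hk1 : k ≠ 1 := by
    rintro rfl
    rw [one_mul] at hzk
    exact hzKs (hzk ▸ hks)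
  have hks1 : ks ≠ 1 := by
    rintro rfl
    rw [mul_one] at hzk
    exact hzK (hzk ▸ hk)
  have hnZ : n ∈ K ⊔ (sigmaCore M ⊓ centralizer (K : Set G)) :=
    mem_sup_of_commute_zhat hG h30 h78 hM hK hK1 hk hk1 hks hks1 (hzk ▸ hnz)
  obtain ⟨k₁, hk₁, ks₁, hks₁, hnk⟩ :=
    Cfsg.Agent.Lib.Helper24.exists_mul_of_mem_sup_of_le_normalizer K _ hKn n hnZ
  have hσN' := BG13.hallStmt hG N' hN'
  have hnπ : PiNat (sigma N') (orderOf n) := piNat_orderOf_of_mem_sigmaCore hσN' hn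
  have hk₁ks₁ : Commute k₁ ks₁ := commute_K_Ks k₁ hk₁ ks₁ hks₁
  have hk₁π : PiNat (kappa M) (orderOf k₁) := piNat_kappa_of_mem hK hk₁
  have hks₁π : PiNat (kappa M)ᶜ (orderOf ks₁) := piNat_kappa_compl_of_mem hks₁.1
  obtain ⟨e1, e2⟩ :=
    Cfsg.Agent.Lib.Helper24.PiCl.piPart_eq (π := kappa M) hnk.symm hk₁ks₁ hk₁π hks₁π
  obtain ⟨-, hz1, hz2, -, -⟩ := Cfsg.Agent.Lib.Helper24.PiCl.piPart_spec (kappa M) n
  rw [e1] at hz1
  rw [e2] at hz2
  have hKs1 : sigmaCore M ⊓ centralizer (K : Set G) ≠ ⊥ :=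
    Ks_ne_bot hK hK1 (h30 M hM K hK hK1).1
  have hKst' : sigmaCore Mstar ⊓
      centralizer ((sigmaCore M ⊓ centralizer (K : Set G) : Subgroup G) : Set G) = K := hKst.symm
  by_cases hk₁1 : k₁ = 1
  · -- `n = ks₁ ∈ K*`
    have hnKs : n ∈ sigmaCore M ⊓ centralizer (K : Set G) := by
      rw [hnk, hk₁1, one_mul]; exact hks₁
    obtain ⟨p, hp, hpd⟩ := exists_prime_dvd_orderOf hn1
    have hpN' : p ∈ sigma N' := hnπ p hp hpd
    have hpM : p ∈ sigma M := Cfsg.Agent.Lib.Helper24.BG.mem_sigma_of_dvd_card_sigmaCore M hp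
      (hpd.trans (Subgroup.orderOf_dvd_natCard _ hnKs.1))
    obtain ⟨d, hd⟩ := h78 M N' hM hN' ⟨p, hpM, hpN'⟩
    have hdM : d ∈ M := by
      by_contra hdn
      have h1 := part_a hG h30 h78 hM hK hK1 hdn
      have h2 : n ∈ (sigmaCore M ⊓ centralizer (K : Set G)) ⊓
          M.map (MulAut.conj d).toMonoidHom := ⟨hnKs, hd ▸ hσN'.1 hn⟩
      rw [h1, mem_bot] at h2
      exact hn1 h2
    have hN'M : N' = M := hd.trans (cj_eq_self_of_mem hdM)
    have hzn0 : zpowers n ≠ ⊥ := zpowers_ne_bot.mpr hn1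
    obtain ⟨y0, hy0, hy0p⟩ := exists_prime_sub hzn0
    have hCM := cent_le_of_kstar hG h30 h78 hM hK hK1 (hy0.trans (zpowers_le.mpr hnKs)) hy0p
    have hCn : centralizer ({n} : Set G) ≤ M :=
      fun g hg => hCM (Subgroup.centralizer_le hy0 (centralizer_singleton_le n hg))
    have hsupp : supportR N' n = ⊥ := hN'M ▸ supportR_eq_bot_of_le hCn
    apply hzKs
    rw [hznr, eq_of_supportR_bot hsupp hr]
    exact hnKs
  · -- a prime of `k₁` lies in `σ(N') ∩ σ(M*)`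
    obtain ⟨p, hp, hpd⟩ := exists_prime_dvd_orderOf hk₁1
    have hpN' : p ∈ sigma N' := hnπ p hp (hpd.trans (orderOf_dvd_of_mem_zpowers hz1))
    have hk₁σ : k₁ ∈ sigmaCore Mstar := by
      have : k₁ ∈ sigmaCore Mstar ⊓
          centralizer ((sigmaCore M ⊓ centralizer (K : Set G) : Subgroup G) : Set G) := by
        rw [hKst']; exact hk₁
      exact this.1
    have hpMs : p ∈ sigma Mstar :=
      Cfsg.Agent.Lib.Helper24.BG.mem_sigma_of_dvd_card_sigmaCore Mstar hp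
        (hpd.trans (Subgroup.orderOf_dvd_natCard _ hk₁σ))
    obtain ⟨d, hd⟩ := h78 Mstar N' hMstar hN' ⟨p, hpMs, hpN'⟩
    have hσeq : sigma N' = sigma Mstar := (congrArg sigma hd).trans (sigma_cj_eq d Mstar)
    -- `ks₁ = 1`
    have hks₁1 : ks₁ = 1 := by
      have h1 : PiNat (sigma Mstar) (orderOf ks₁) := by
        rw [← hσeq]
        exact hnπ.of_dvd (orderOf_dvd_of_mem_zpowers hz2)
      have h2 : PiNat (sigma Mstar)ᶜ (orderOf ks₁) := by
        intro q hq hqd hqσ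
        have hqκ : q ∈ kappa Mstar :=
          hKstH.2.1 q hq (hqd.trans (Subgroup.orderOf_dvd_natCard _ hks₁))
        exact hqκ.2.2.1 hqσ
      exact eq_one_of_piNat_compl h1 h2
    have hnK : n ∈ K := by
      rw [hnk, hks₁1, mul_one]; exact hk₁
    have hnK' : n ∈ sigmaCore Mstar ⊓
        centralizer ((sigmaCore M ⊓ centralizer (K : Set G) : Subgroup G) : Set G) := by
      rw [hKst']; exact hnK
    have hdM : d ∈ Mstar := by
      by_contra hdn
      have h1 := part_a hG h30 h78 hMstar hKstH hKs1 hdn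
      have h2 : n ∈ (sigmaCore Mstar ⊓
          centralizer ((sigmaCore M ⊓ centralizer (K : Set G) : Subgroup G) : Set G)) ⊓
          Mstar.map (MulAut.conj d).toMonoidHom := ⟨hnK', hd ▸ hσN'.1 hn⟩
      rw [h1, mem_bot] at h2
      exact hn1 h2
    have hN'M : N' = Mstar := hd.trans (cj_eq_self_of_mem hdM)
    have hzn0 : zpowers n ≠ ⊥ := zpowers_ne_bot.mpr hn1
    obtain ⟨y0, hy0, hy0p⟩ := exists_prime_sub hzn0
    have hCM := cent_le_of_kstar hG h30 h78 hMstar hKstH hKs1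
      (hy0.trans (zpowers_le.mpr hnK')) hy0p
    have hCn : centralizer ({n} : Set G) ≤ Mstar :=
      fun g hg => hCM (Subgroup.centralizer_le hy0 (centralizer_singleton_le n hg))
    have hsupp : supportR N' n = ⊥ := hN'M ▸ supportR_eq_bot_of_le hCn
    apply hzK
    rw [hznr, eq_of_supportR_bot hsupp hr]
    exact hnK

end fin

end Cfsg.Agent.Lib.Helper30.BG146
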