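import Cfsg.Agent.Lib.Helper30.BG146C

/-!
# BG Theorem 14.6 (S1379): assembly from the statements of the other rows
-/

set_option autoImplicit false
set_option linter.unusedSectionVars false
set_option linter.unusedVariables false

universe u

namespace Cfsg.Agent.Lib.Helper30.BG146

open Subgroup Cfsg Cfsg.Agent.Lib.Helper33 Cfsg.Agent.Lib.Helper63
open Cfsg.Agent.Lib.Helper50.Tilde
open Cfsg.Agent.Lib.Helper67 (PiNat)
open Cfsg.Agent.Lib.Helper70.BG14 (Stmt1378b)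
open Cfsg.Agent.Lib.Helper56.BG143 (Stmt1430 exists_prime_sub Ks_ne_bot)
open Cfsg.Agent.Lib.Helper70.BG1369 (St1366 St1367 St1434 StDec conj_of_kappa_nonempty)

variable {G : Type u} [Group G] [Finite G]

/-- **(P2)**: if all `κ(M)` are empty, every `g ≠ 1` lies in some `M̃` -/
theorem cover_of_kappa_empty (hG : IsMinSimpleOddOrder G) (h78a : St1378a G) (h78 : Stmt1378b G)
    (h25 : St1425 G) (h32 : St1432 G) (h75 : St1375 G)
    (hκ : ∀ M : Subgroup G, IsCoatom M → kappa M = ∅) {g : G} (hg : g ≠ 1) :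
    ∃ M : Subgroup G, IsCoatom M ∧ g ∈ T M := by
  rcases cover hG h78a h78 h25 h32 h75 hg with h | ⟨M₁, hM₁, x, hx, hx1, x', hx', hx'1, hκ', -⟩
  · exact h
  · exfalso
    obtain ⟨p, hp, hpd⟩ := exists_prime_dvd_orderOf hx'1
    have := hκ' p hp hpd
    rw [hκ M₁ hM₁] at this
    exact this

/-- **(P3a)**: every `g ≠ 1` lies in some `Ñ` or in a conjugate of `Ẑ` -/
theorem cover_zhat (hG : IsMinSimpleOddOrder G) (h78a : St1378a G) (h78 : Stmt1378b G)
    (h25 : St1425 G) (h32 : St1432 G) (h75 : St1375 G) (h30 : Stmt1430 G)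
    {M K Mstar : Subgroup G} (hM : IsCoatom M) (hK : IsPiHallOf (kappa M) K M) (hK1 : K ≠ ⊥)
    (hMstar : IsCoatom Mstar)
    (hKst : K = sigmaCore Mstar ⊓
      centralizer ((sigmaCore M ⊓ centralizer (K : Set G) : Subgroup G) : Set G))
    (hKstH : IsPiHallOf (kappa Mstar) (sigmaCore M ⊓ centralizer (K : Set G)) Mstar)
    (hconj : ∀ H : Subgroup G, IsCoatom H → (kappa H).Nonempty →
      ∃ g : G, H = M.map (MulAut.conj g).toMonoidHom ∨ H = Mstar.map (MulAut.conj g).toMonoidHom)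
    {g : G} (hg : g ≠ 1) :
    (∃ N : Subgroup G, IsCoatom N ∧ g ∈ T N) ∨ ∃ y : G, ∃ z ∈ Zhat M K, g = y * z * y⁻¹ := by
  rcases cover hG h78a h78 h25 h32 h75 hg with h | hkc
  · exact Or.inl h
  · right
    obtain ⟨M₁, hM₁, x, hx, hx1, x', hx', hx'1, hκ', y, hy⟩ := hkc
    obtain ⟨p, hp, hpd⟩ := exists_prime_dvd_orderOf hx'1
    obtain ⟨a, ha | ha⟩ := hconj M₁ hM₁ ⟨p, hκ' p hp hpd⟩
    · subst ha
      obtain ⟨m, z, hz, hm⟩ := kappa_case_zhat_cj hG h30 hM hK hK1 a hx hx1 hx' hx'1 hκ'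
      exact ⟨y * m, z, hz, by rw [hy, hm]; group⟩
    · subst ha
      have hKs1 := Ks_ne_bot hK hK1 (h30 M hM K hK hK1).1
      obtain ⟨m, z, hz, hm⟩ := kappa_case_zhat_cj hG h30 hMstar hKstH hKs1 a hx hx1 hx' hx'1 hκ'
      refine ⟨y * m, z, ?_, by rw [hy, hm]; group⟩
      have hz' := hz
      unfold Zhat at hz'
      rw [← hKst] at hz'
      refine ⟨?_, ?_⟩
      · have := hz'.1
        rw [sup_comm] at this
        exact this
      · intro h
        exact hz'.2 h.symm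

/-- **S1379** from the statements of S1378, S1425, S1432, S1375, S1433, S1430, S1366, S1367,
S1434 and the existence of sigma-decompositions (S1351 + S1352) -/
theorem s1379_of (hG : IsMinSimpleOddOrder G) (h78a : St1378a G) (h78 : Stmt1378b G)
    (h25 : St1425 G) (h32 : St1432 G) (h75 : St1375 G) (h33 : St1433 G) (h30 : Stmt1430 G)
    (h66 : St1366 G) (h67 : St1367 G) (h34 : St1434 G) (hDec : StDec G) :
    (∀ M N : Subgroup G, IsCoatom M → IsCoatom N → (∀ g : G, N ≠ M.map (MulAut.conj g).toMonoidHom) → Cfsg.tildeOf M ((Cfsg.sigmaCore M : Set G) \ {1}) ∩ Cfsg.tildeOf N ((Cfsg.sigmaCore N : Set G) \ {1}) = ∅) ∧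
      ((∀ M : Subgroup G, IsCoatom M → Cfsg.kappa M = ∅) →
        ∀ g : G, g ≠ 1 → ∃ M : Subgroup G, IsCoatom M ∧ g ∈ Cfsg.tildeOf M ((Cfsg.sigmaCore M : Set G) \ {1})) ∧
      ∀ (M K U : Subgroup G), IsCoatom M → Cfsg.IsSigmaDecomposition M K U → K ≠ ⊥ →
        (∀ g : G, g ≠ 1 → (∃ N : Subgroup G, IsCoatom N ∧ g ∈ Cfsg.tildeOf N ((Cfsg.sigmaCore N : Set G) \ {1})) ∨
            ∃ y : G, ∃ z ∈ ((↑(K ⊔ (Cfsg.sigmaCore M ⊓ Subgroup.centralizer (K : Set G))) : Set G) \ ((K : Set G) ∪ ↑(Cfsg.sigmaCore M ⊓ Subgroup.centralizer (K : Set G)))), g = y * z * y⁻¹) ∧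
        ∀ N : Subgroup G, IsCoatom N → ∀ y : G, ∀ z ∈ ((↑(K ⊔ (Cfsg.sigmaCore M ⊓ Subgroup.centralizer (K : Set G))) : Set G) \ ((K : Set G) ∪ ↑(Cfsg.sigmaCore M ⊓ Subgroup.centralizer (K : Set G)))), y * z * y⁻¹ ∉ Cfsg.tildeOf N ((Cfsg.sigmaCore N : Set G) \ {1}) := by
  refine ⟨fun M N hM hN hnc => disjoint_T hG h78 h33 hM hN hnc, ?_, ?_⟩
  · intro hκ g hg
    exact cover_of_kappa_empty hG h78a h78 h25 h32 h75 hκ hg
  · intro M K U hM hKU hK1
    have hK := hKU.hall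
    obtain ⟨Mstar, ⟨hMstar, hKst, hKstH⟩, -⟩ := h66 M hM K U hKU hK1
    constructor
    · intro g hg
      exact cover_zhat hG h78a h78 h25 h32 h75 h30 hM hK hK1 hMstar hKst hKstH
        (conj_of_kappa_nonempty h66 h67 h34 hDec M hM K U hKU hK1 Mstar hMstar hKst hKstH) hg
    · intro N hN y z hz
      exact zhat_not_mem_T hG h30 h78 hM hK hK1 hMstar hKst hKstH hN y hz

end Cfsg.Agent.Lib.Helper30.BG146
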