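import Mathlib
import Cfsg.Prelude.Def_Local
import Cfsg.Agent.Lib.Helper21.Components
import Cfsg.Agent.Lib.Helper22.FStar
import Cfsg.Agent.Lib.Helper22.Fitting
import Cfsg.Agent.Lib.Helper46.Subnormal
import Cfsg.Agent.Lib.Helper30.PPrimeCore

set_option autoImplicit false

/-!
Bender's lemma on a pair of maximal subgroups `M`, `N` of a simple group with
`F*(M) ≤ N` and `F*(N) ≤ M`.
-/

namespace Cfsg.Agent.Lib.Helper30

open Subgroup
open scoped commutatorElement
open Cfsg.Agent.Lib.Helper22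
open Cfsg.Agent.Lib.Helper21

universe u

section general

variable {G : Type u} [Group G]

/-- A component normalizing a subgroup lies in it or centralizes it. -/
theorem bp_component_le_or_commutes {L H : Subgroup G}
    (hL : Cfsg.IsComponent L) (hinv : L ≤ Subgroup.normalizer (H : Set G)) :
    L ≤ H ∨ ⁅L, H⁆ = ⊥ := by
  have hHK : H ≤ H ⊔ L := le_sup_left
  have hLK : L ≤ H ⊔ L := le_sup_right
  have hN : (H.subgroupOf (H ⊔ L)).Normal := by
    rw [normal_subgroupOf_iff_le_normalizer hHK]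
    exact sup_le le_normalizer hinv
  have hL' := component_subgroupOf hL hLK
  rcases component_le_or_commutes_normal hL' hN with h1 | h1
  · left
    intro x hx
    have : (⟨x, hLK hx⟩ : (H ⊔ L : Subgroup G)) ∈ L.subgroupOf (H ⊔ L) := by
      rw [mem_subgroupOf]; exact hx
    have := h1 this
    rwa [mem_subgroupOf] at this
  · right
    have := congrArg (Subgroup.map (H ⊔ L).subtype) h1
    rw [map_commutator, Subgroup.map_subgroupOf_eq_of_le hHK,
      Subgroup.map_subgroupOf_eq_of_le hLK, Subgroup.map_bot] at this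
    rwa [commutator_comm]

/-- Mutually normalizing subgroups with trivial intersection commute. -/
theorem bp_commutator_eq_bot_of_normalize {A B : Subgroup G}
    (hA : A ≤ Subgroup.normalizer (B : Set G)) (hB : B ≤ Subgroup.normalizer (A : Set G))
    (h : A ⊓ B = ⊥) : ⁅A, B⁆ = ⊥ := by
  rw [eq_bot_iff, ← h]
  apply le_inf
  · rw [Subgroup.commutator_le]
    intro a ha b hb
    have h1 : b * a⁻¹ * b⁻¹ ∈ A := (Subgroup.mem_normalizer_iff.mp (hB hb) a⁻¹).mp (A.inv_mem ha)
    have e : ⁅a, b⁆ = a * (b * a⁻¹ * b⁻¹) := by rw [commutatorElement_def]; group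
    rw [e]
    exact A.mul_mem ha h1
  · rw [Subgroup.commutator_le]
    intro a ha b hb
    have h1 : a * b * a⁻¹ ∈ B := (Subgroup.mem_normalizer_iff.mp (hA ha) b).mp hb
    have e : ⁅a, b⁆ = (a * b * a⁻¹) * b⁻¹ := by rw [commutatorElement_def]
    rw [e]
    exact B.mul_mem h1 (B.inv_mem hb)

/-- The image in `G` of a normal subgroup of `M` is normalized by `M`. -/
theorem bp_le_normalizer_map_subtype (M : Subgroup G) (H : Subgroup ↥M) [hH : H.Normal] :
    M ≤ Subgroup.normalizer ((H.map M.subtype : Subgroup G) : Set G) := by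
  intro m hm
  rw [Subgroup.mem_normalizer_iff]
  intro x
  constructor
  · rintro ⟨y, hy, rfl⟩
    exact ⟨⟨m, hm⟩ * y * ⟨m, hm⟩⁻¹, hH.conj_mem y hy ⟨m, hm⟩, rfl⟩
  · rintro ⟨y, hy, hyx⟩
    refine ⟨⟨m, hm⟩⁻¹ * y * ⟨m, hm⟩⁻¹⁻¹, hH.conj_mem y hy ⟨m, hm⟩⁻¹, ?_⟩
    simp only [Subgroup.subtype_apply] at hyx
    simp only [Subgroup.subtype_apply, Subgroup.coe_mul, Subgroup.coe_inv, hyx]
    group

/-- `M ∩ C(X)` is normalized by `M` when `X` is. -/
theorem bp_le_normalizer_inf_centralizer {M X : Subgroup G}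
    (hX : M ≤ Subgroup.normalizer (X : Set G)) :
    M ≤ Subgroup.normalizer ((M ⊓ Subgroup.centralizer (X : Set G) : Subgroup G) : Set G) := by
  apply Cfsg.Agent.Lib.Helper46.le_normalizer_of_conj_mem
  intro m hm c hc
  refine ⟨M.mul_mem (M.mul_mem hm hc.1) (M.inv_mem hm), ?_⟩
  change m * c * m⁻¹ ∈ Subgroup.centralizer (X : Set G)
  rw [Subgroup.mem_centralizer_iff]
  intro x hx
  have hx' : m⁻¹ * x * m⁻¹⁻¹ ∈ X :=
    (Subgroup.mem_normalizer_iff.mp (hX (M.inv_mem hm)) x).mp hx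
  have hcx := (Subgroup.mem_centralizer_iff.mp hc.2) _ hx'
  have e1 : x * (m * c * m⁻¹) = m * ((m⁻¹ * x * m⁻¹⁻¹) * c) * m⁻¹ := by group
  have e2 : m * c * m⁻¹ * x = m * (c * (m⁻¹ * x * m⁻¹⁻¹)) * m⁻¹ := by group
  rw [e1, e2, hcx]

/-- One step of a subnormal chain inside a subgroup. -/
theorem bp_subnormal_step {M H K : Subgroup G} (hHK : H ≤ K)
    (hK : (K.subgroupOf M).IsSubnormal) (hn : K ≤ Subgroup.normalizer (H : Set G)) :
    (H.subgroupOf M).IsSubnormal := by
  have hle : H.subgroupOf M ≤ K.subgroupOf M := by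
    intro x hx
    rw [mem_subgroupOf] at hx ⊢
    exact hHK hx
  refine Subgroup.IsSubnormal.step _ _ hle hK ?_
  rw [Subgroup.normal_subgroupOf_iff_le_normalizer hle]
  intro k hk
  rw [mem_subgroupOf] at hk
  rw [Subgroup.mem_normalizer_iff]
  intro x
  rw [mem_subgroupOf, mem_subgroupOf]
  exact Subgroup.mem_normalizer_iff.mp (hn hk) x

/-- A join of subgroups normalized by `M` is normalized by `M`. -/
theorem bp_le_normalizer_iSup {ι : Sort*} {M : Subgroup G} {H : ι → Subgroup G}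
    (h : ∀ i, M ≤ Subgroup.normalizer (H i : Set G)) :
    M ≤ Subgroup.normalizer ((⨆ i, H i : Subgroup G) : Set G) := by
  apply Cfsg.Agent.Lib.Helper46.le_normalizer_of_conj_mem
  intro m hm x hx
  have hmap : (⨆ i, H i).map (MulAut.conj m).toMonoidHom ≤ ⨆ i, H i := by
    rw [Subgroup.map_iSup]
    apply iSup_le
    intro i
    refine le_trans ?_ (le_iSup H i)
    rintro y ⟨z, hz, rfl⟩
    have := Cfsg.Agent.Lib.Helper46.conj_mem_of_le_normalizer (h i) hm hz
    simpa using this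
  have : (MulAut.conj m).toMonoidHom x ∈ ⨆ i, H i := hmap (Subgroup.mem_map_of_mem _ hx)
  simpa using this

/-- A join of subgroups centralizing `A` centralizes `A`. -/
theorem bp_iSup_le_centralizer {ι : Sort*} {A : Subgroup G} {H : ι → Subgroup G}
    (h : ∀ i, ⁅H i, A⁆ = ⊥) : (⨆ i, H i) ≤ Subgroup.centralizer (A : Set G) := by
  apply iSup_le
  intro i
  exact Subgroup.commutator_eq_bot_iff_le_centralizer.mp (h i)

end general

section cores

variable {G : Type u} [Group G]

/-- The image in `G` of `O_r(M)`. -/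
def bpO (M : Subgroup G) (r : ℕ) : Subgroup G := (Cfsg.pCore r ↥M).map M.subtype

/-- The join of the `O_r(M)` over the primes `r ≠ q`. -/
def bpOc (M : Subgroup G) (q : ℕ) : Subgroup G :=
  ⨆ r : {r : Nat.Primes // (r : ℕ) ≠ q}, bpO M ((r : Nat.Primes) : ℕ)

/-- The image in `G` of `F(M)`. -/
def bpF (M : Subgroup G) : Subgroup G := (Cfsg.fittingSubgroup ↥M).map M.subtype

theorem bpO_le (M : Subgroup G) (r : ℕ) : bpO M r ≤ M := Subgroup.map_subtype_le _

theorem le_normalizer_bpO (M : Subgroup G) (r : ℕ) :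
    M ≤ Subgroup.normalizer (bpO M r : Set G) := by
  have := pCore_normal' r ↥M
  exact bp_le_normalizer_map_subtype M _

theorem bpO_isPGroup (M : Subgroup G) (r : ℕ) [Fact r.Prime] : IsPGroup r (bpO M r) :=
  (pCore_isPGroup' r ↥M).map _

theorem bpF_eq_iSup [Finite G] (M : Subgroup G) :
    bpF M = ⨆ r : Nat.Primes, bpO M (r : ℕ) := by
  unfold bpF bpO
  rw [fittingSubgroup_eq_iSup_pCore, Subgroup.map_iSup]

theorem le_bpO_of_subnormal [Finite G] {q : ℕ} [Fact q.Prime] {M Q : Subgroup G} (hQM : Q ≤ M)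
    (hQ : IsPGroup q Q) (hsn : (Q.subgroupOf M).IsSubnormal) : Q ≤ bpO M q := by
  have h1 : Q.subgroupOf M ≤ Cfsg.pCore q ↥M :=
    Cfsg.Agent.Lib.Helper46.subnormal_pGroup_le_pCore _ hsn (hQ.comap_subtype)
  have := Subgroup.map_mono (f := M.subtype) h1
  rwa [Subgroup.map_subgroupOf_eq_of_le hQM] at this

theorem bpOc_le (M : Subgroup G) (q : ℕ) : bpOc M q ≤ M := iSup_le fun _ => bpO_le M _

theorem bpO_le_bpOc (M : Subgroup G) {q : ℕ} (r : Nat.Primes) (h : (r : ℕ) ≠ q) :
    bpO M (r : ℕ) ≤ bpOc M q :=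
  le_iSup (fun r : {r : Nat.Primes // (r : ℕ) ≠ q} => bpO M ((r : Nat.Primes) : ℕ)) ⟨r, h⟩

theorem le_normalizer_bpOc (M : Subgroup G) (q : ℕ) :
    M ≤ Subgroup.normalizer (bpOc M q : Set G) :=
  bp_le_normalizer_iSup fun _ => le_normalizer_bpO M _

theorem bpOc_pgroup_eq_bot [Finite G] {q : ℕ} [hq : Fact q.Prime] {M Q : Subgroup G}
    (hQ : Q ≤ bpOc M q) (hQq : IsPGroup q Q) : Q = ⊥ := by
  have hle : bpOc M q ≤ (Cfsg.pPrimeCore q ↥M).map M.subtype := by
    apply iSup_le
    intro r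
    have : Fact ((r : Nat.Primes) : ℕ).Prime := ⟨r.1.2⟩
    exact Subgroup.map_mono (pCore_le_pPrimeCore r.2)
  have hcard : Nat.card ((Cfsg.pPrimeCore q ↥M).map M.subtype) = Nat.card (Cfsg.pPrimeCore q ↥M) :=
    (Nat.card_congr (Subgroup.equivMapOfInjective _ _ M.subtype_injective).toEquiv).symm
  have hcop : (Nat.card ((Cfsg.pPrimeCore q ↥M).map M.subtype)).Coprime q := by
    rw [hcard]; exact pPrimeCore_card_coprime q
  have hdvd : Nat.card Q ∣ Nat.card ((Cfsg.pPrimeCore q ↥M).map M.subtype) :=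
    Subgroup.card_dvd_of_le (hQ.trans hle)
  obtain ⟨n, hn⟩ := hQq.exists_card_eq
  have h1 : Nat.card Q = 1 := by
    have hc : (Nat.card Q).Coprime (q ^ n) :=
      Nat.Coprime.pow_right n (Nat.Coprime.coprime_dvd_left hdvd hcop)
    rw [hn] at hc ⊢
    exact (Nat.coprime_self _).mp hc
  exact Subgroup.card_eq_one.mp h1

theorem bpF_eq_sup [Finite G] (M : Subgroup G) (q : ℕ) [hq : Fact q.Prime] :
    bpF M = bpO M q ⊔ bpOc M q := by
  rw [bpF_eq_iSup]
  apply le_antisymm
  · apply iSup_le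
    intro r
    by_cases h : (r : ℕ) = q
    · rw [h]; exact le_sup_left
    · exact (bpO_le_bpOc M r h).trans le_sup_right
  · apply sup_le
    · exact le_iSup (fun r : Nat.Primes => bpO M (r : ℕ)) ⟨q, hq.out⟩
    · exact iSup_le fun r => le_iSup (fun r : Nat.Primes => bpO M (r : ℕ)) r.1

theorem bpO_inf_bpOc [Finite G] (M : Subgroup G) (q : ℕ) [hq : Fact q.Prime] :
    bpO M q ⊓ bpOc M q = ⊥ :=
  bpOc_pgroup_eq_bot inf_le_right ((bpO_isPGroup M q).to_le inf_le_left)

theorem bpO_comm_bpOc [Finite G] (M : Subgroup G) (q : ℕ) [hq : Fact q.Prime] :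
    ⁅bpO M q, bpOc M q⁆ = ⊥ :=
  bp_commutator_eq_bot_of_normalize ((bpO_le M q).trans (le_normalizer_bpOc M q))
    ((bpOc_le M q).trans (le_normalizer_bpO M q)) (bpO_inf_bpOc M q)

/-- Distinct-prime cores of two subgroups that contain each other's cores commute. -/
theorem bpO_comm_bpO {M N : Subgroup G} {r s : ℕ} [hr : Fact r.Prime] [hs : Fact s.Prime]
    (hrs : r ≠ s) (h1 : bpO M r ≤ N) (h2 : bpO N s ≤ M) : ⁅bpO M r, bpO N s⁆ = ⊥ := by
  apply bp_commutator_eq_bot_of_normalize (h1.trans (le_normalizer_bpO N s))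
    (h2.trans (le_normalizer_bpO M r))
  exact (IsPGroup.disjoint_of_ne r s hrs _ _ (bpO_isPGroup M r) (bpO_isPGroup N s)).eq_bot

theorem bpO_le_bpF [Finite G] (M : Subgroup G) (r : ℕ) [hr : Fact r.Prime] : bpO M r ≤ bpF M := by
  rw [bpF_eq_iSup]
  exact le_iSup (fun r : Nat.Primes => bpO M (r : ℕ)) ⟨r, hr.out⟩

end cores

section key

variable {G : Type u} [Group G] [Finite G]

/-- `[C_M(F_{q'}), O_r(N)] ≤ F_{q'}` for `r ≠ q`. -/
theorem bp_comm_le {M N : Subgroup G} {q r : ℕ} [hq : Fact q.Prime] [hr : Fact r.Prime]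
    (hrq : r ≠ q) (hFN : bpF M ≤ N) (hKM : bpF N ≤ M)
    (hcM : M ⊓ Subgroup.centralizer (bpF M : Set G) ≤ bpF M) :
    ⁅M ⊓ Subgroup.centralizer (bpOc M q : Set G), bpO N r⁆ ≤ bpOc M q := by
  have hKrM : bpO N r ≤ M := (bpO_le_bpF N r).trans hKM
  have hFqN : bpO M q ≤ N := (bpO_le_bpF M q).trans hFN
  have hcomm : ⁅bpO M q, bpO N r⁆ = ⊥ := bpO_comm_bpO (fun h => hrq h.symm) hFqN hKrM
  have hCn : M ≤ Subgroup.normalizer
      ((M ⊓ Subgroup.centralizer (bpOc M q : Set G) : Subgroup G) : Set G) :=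
    bp_le_normalizer_inf_centralizer (le_normalizer_bpOc M q)
  -- d1
  have d1 : ⁅M ⊓ Subgroup.centralizer (bpOc M q : Set G), bpO N r⁆ ≤
      M ⊓ Subgroup.centralizer (bpOc M q : Set G) := by
    rw [Subgroup.commutator_le]
    intro c hc k hk
    have h1 := Cfsg.Agent.Lib.Helper46.conj_mem_of_le_normalizer hCn (hKrM hk)
      (Subgroup.inv_mem _ hc)
    have e : ⁅c, k⁆ = c * (k * c⁻¹ * k⁻¹) := by rw [commutatorElement_def]; group
    rw [e]
    exact Subgroup.mul_mem _ hc h1
  -- d2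
  have d2 : ⁅⁅M ⊓ Subgroup.centralizer (bpOc M q : Set G), bpO N r⁆, bpO M q⁆ = ⊥ := by
    apply Subgroup.commutator_commutator_eq_bot_of_rotate
    · rw [Subgroup.commutator_comm (bpO N r), hcomm, Subgroup.commutator_bot_left]
    · have h1 : ⁅bpO M q, M ⊓ Subgroup.centralizer (bpOc M q : Set G)⁆ ≤ bpO M q := by
        rw [Subgroup.commutator_le]
        intro a ha c hc
        have h2 := Cfsg.Agent.Lib.Helper46.conj_mem_of_le_normalizer (le_normalizer_bpO M q) hc.1
          (Subgroup.inv_mem _ ha)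
        have e : ⁅a, c⁆ = a * (c * a⁻¹ * c⁻¹) := by rw [commutatorElement_def]; group
        rw [e]
        exact Subgroup.mul_mem _ ha h2
      rw [eq_bot_iff, ← hcomm]
      exact Subgroup.commutator_mono h1 le_rfl
  -- d3
  have d3 : ⁅M ⊓ Subgroup.centralizer (bpOc M q : Set G), bpO N r⁆ ≤ bpF M := by
    refine le_trans (le_inf (d1.trans inf_le_left) ?_) hcM
    rw [Subgroup.le_centralizer_iff, bpF_eq_sup M q]
    apply sup_le
    · rw [← Subgroup.le_centralizer_iff]
      exact Subgroup.commutator_eq_bot_iff_le_centralizer.mp d2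
    · rw [← Subgroup.le_centralizer_iff]
      exact d1.trans inf_le_right
  have hzw : ∀ z ∈ bpO M q, ∀ w ∈ bpOc M q, z * w = w * z := by
    intro z hz w hw
    have := Subgroup.commutator_eq_bot_iff_le_centralizer.mp (bpO_comm_bpOc M q) hz
    exact ((Subgroup.mem_centralizer_iff.mp this) w hw).symm
  rw [Subgroup.commutator_le]
  intro c hc a ha
  have hy : ⁅c, a⁆ ∈ bpO M q ⊔ bpOc M q := by
    rw [← bpF_eq_sup M q]
    exact d3 (Subgroup.commutator_mem_commutator hc ha)
  obtain ⟨z, hz, w, hw, hyzw⟩ := exists_mul_of_mem_sup_of_commute hzw hy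
  have hza : ∀ k : ℕ, a * z ^ k * a⁻¹ = z ^ k := by
    intro k
    have h1 := Subgroup.commutator_eq_bot_iff_le_centralizer.mp hcomm (Subgroup.pow_mem _ hz k)
    have h2 := (Subgroup.mem_centralizer_iff.mp h1) a ha
    rw [h2]; group
  have hconj : a * c⁻¹ * a⁻¹ = c⁻¹ * z * w := by
    rw [mul_assoc c⁻¹, ← hyzw, commutatorElement_def]; group
  have haM : a ∈ M := hKrM ha
  have hind : ∀ k : ℕ, ∃ w' ∈ bpOc M q, a ^ k * c⁻¹ * (a ^ k)⁻¹ = c⁻¹ * z ^ k * w' := by
    intro k
    induction k with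
    | zero => exact ⟨1, Subgroup.one_mem _, by simp⟩
    | succ k ih =>
      obtain ⟨w', hw', he⟩ := ih
      have hw'' : a * w' * a⁻¹ ∈ bpOc M q :=
        Cfsg.Agent.Lib.Helper46.conj_mem_of_le_normalizer (le_normalizer_bpOc M q) haM hw'
      refine ⟨w * (a * w' * a⁻¹), Subgroup.mul_mem _ hw hw'', ?_⟩
      have e1 : a ^ (k + 1) * c⁻¹ * (a ^ (k + 1))⁻¹ = a * (a ^ k * c⁻¹ * (a ^ k)⁻¹) * a⁻¹ := by
        rw [pow_succ']; group
      rw [e1, he]
      have e2 : a * (c⁻¹ * z ^ k * w') * a⁻¹ =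
          (a * c⁻¹ * a⁻¹) * (a * z ^ k * a⁻¹) * (a * w' * a⁻¹) := by group
      rw [e2, hconj, hza k]
      have e3 : w * z ^ k = z ^ k * w := (hzw _ (Subgroup.pow_mem _ hz k) w hw).symm
      calc c⁻¹ * z * w * z ^ k * (a * w' * a⁻¹)
          = c⁻¹ * z * (w * z ^ k) * (a * w' * a⁻¹) := by group
        _ = c⁻¹ * z * (z ^ k * w) * (a * w' * a⁻¹) := by rw [e3]
        _ = c⁻¹ * z ^ (k + 1) * (w * (a * w' * a⁻¹)) := by rw [pow_succ']; group
  -- orders
  obtain ⟨i, hi⟩ := (bpO_isPGroup N r) ⟨a, ha⟩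
  have hai : a ^ (r ^ i) = 1 := by
    have := congrArg Subtype.val hi
    simpa using this
  obtain ⟨j, hj⟩ := (bpO_isPGroup M q) ⟨z, hz⟩
  have hzj : z ^ (q ^ j) = 1 := by
    have := congrArg Subtype.val hj
    simpa using this
  obtain ⟨w', hw', he⟩ := hind (r ^ i)
  rw [hai] at he
  have hzw' : z ^ (r ^ i) * w' = 1 := by
    have : c⁻¹ = c⁻¹ * (z ^ (r ^ i) * w') := by
      have h0 : (1 : G) * c⁻¹ * (1 : G)⁻¹ = c⁻¹ := by group
      rw [h0] at he
      rw [← mul_assoc]; exact he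
    exact (mul_eq_left.mp this.symm)
  have hzi : z ^ (r ^ i) = 1 := by
    have h1 : z ^ (r ^ i) ∈ bpO M q ⊓ bpOc M q := by
      refine ⟨Subgroup.pow_mem _ hz _, ?_⟩
      have : z ^ (r ^ i) = w'⁻¹ := eq_inv_of_mul_eq_one_left hzw'
      rw [this]
      exact Subgroup.inv_mem _ hw'
    rw [bpO_inf_bpOc M q] at h1
    exact Subgroup.mem_bot.mp h1
  have hz1 : z = 1 := by
    have h1 : orderOf z ∣ r ^ i := orderOf_dvd_of_pow_eq_one hzi
    have h2 : orderOf z ∣ q ^ j := orderOf_dvd_of_pow_eq_one hzj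
    have hcop : (r ^ i).Coprime (q ^ j) :=
      Nat.Coprime.pow _ _ ((Nat.coprime_primes hr.out hq.out).mpr hrq)
    have := Nat.eq_one_of_dvd_coprimes hcop h1 h2
    exact orderOf_eq_one_iff.mp this
  rw [hyzw, hz1, one_mul]
  exact hw

/-- The key containment: if `O_{q'}(F(N)) ≠ 1` then `O_q(N) ≤ O_q(M)`. -/
theorem bp_key_le {M N : Subgroup G} {q : ℕ} [hq : Fact q.Prime]
    (hFN : bpF M ≤ N) (hKM : bpF N ≤ M)
    (hcM : M ⊓ Subgroup.centralizer (bpF M : Set G) ≤ bpF M)
    (hnormN : ∀ X : Subgroup G, X ≠ ⊥ → X ≤ N → N ≤ Subgroup.normalizer (X : Set G) →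
      Subgroup.normalizer (X : Set G) ≤ N)
    (hne : bpOc N q ≠ ⊥) : bpO N q ≤ bpO M q := by
  have hKqM : bpO N q ≤ M := (bpO_le_bpF N q).trans hKM
  -- f1
  have f1 : bpO N q ≤ Subgroup.centralizer (bpOc M q : Set G) := by
    rw [Subgroup.le_centralizer_iff]
    apply bp_iSup_le_centralizer
    intro r
    have : Fact ((r : Nat.Primes) : ℕ).Prime := ⟨r.1.2⟩
    exact bpO_comm_bpO r.2 ((bpO_le_bpF M _).trans hFN) hKqM
  have f2 : bpO N q ≤ Subgroup.centralizer (bpOc N q : Set G) := by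
    rw [Subgroup.le_centralizer_iff]
    apply bp_iSup_le_centralizer
    intro r
    have : Fact ((r : Nat.Primes) : ℕ).Prime := ⟨r.1.2⟩
    exact bpO_comm_bpO r.2 (bpO_le N _) (bpO_le N _)
  have hKqB : bpO N q ≤ (M ⊓ Subgroup.centralizer (bpOc M q : Set G)) ⊓
      Subgroup.centralizer (bpOc N q : Set G) := le_inf (le_inf hKqM f1) f2
  -- f3
  have f3 : (M ⊓ Subgroup.centralizer (bpOc M q : Set G)) ⊓
      Subgroup.centralizer (bpOc N q : Set G) ≤ N :=
    (inf_le_right.trans (Subgroup.centralizer_le_normalizer _)).trans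
      (hnormN _ hne (bpOc_le N q) (le_normalizer_bpOc N q))
  have f4 : (M ⊓ Subgroup.centralizer (bpOc M q : Set G)) ⊓
      Subgroup.centralizer (bpOc N q : Set G) ≤ Subgroup.normalizer (bpO N q : Set G) :=
    f3.trans (le_normalizer_bpO N q)
  -- e
  have hBC : ⁅(M ⊓ Subgroup.centralizer (bpOc M q : Set G)) ⊓
      Subgroup.centralizer (bpOc N q : Set G), M ⊓ Subgroup.centralizer (bpOc M q : Set G)⁆ ≤
      (M ⊓ Subgroup.centralizer (bpOc M q : Set G)) ⊓
        Subgroup.centralizer (bpOc N q : Set G) := by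
    apply le_inf
    · exact (Subgroup.commutator_mono inf_le_left le_rfl).trans
        (Subgroup.commutator_le_self _)
    · rw [Subgroup.le_centralizer_iff]
      apply iSup_le
      intro r
      have : Fact ((r : Nat.Primes) : ℕ).Prime := ⟨r.1.2⟩
      rw [← Subgroup.le_centralizer_iff]
      apply Subgroup.commutator_eq_bot_iff_le_centralizer.mp
      apply Subgroup.commutator_commutator_eq_bot_of_rotate
      · have h1 := bp_comm_le (q := q) (r := ((r : Nat.Primes) : ℕ)) r.2 hFN hKM hcM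
        rw [eq_bot_iff]
        refine (Subgroup.commutator_mono h1 le_rfl).trans ?_
        rw [Subgroup.commutator_comm]
        apply le_of_eq
        apply Subgroup.commutator_eq_bot_iff_le_centralizer.mpr
        exact inf_le_left.trans inf_le_right
      · have h1 : ⁅bpO N ((r : Nat.Primes) : ℕ), (M ⊓ Subgroup.centralizer (bpOc M q : Set G)) ⊓
            Subgroup.centralizer (bpOc N q : Set G)⁆ = ⊥ := by
          rw [Subgroup.commutator_comm]
          apply Subgroup.commutator_eq_bot_iff_le_centralizer.mpr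
          refine inf_le_right.trans ?_
          exact Subgroup.centralizer_le (bpO_le_bpOc N r.1 r.2)
        rw [h1, Subgroup.commutator_bot_left]
  have hCB : M ⊓ Subgroup.centralizer (bpOc M q : Set G) ≤ Subgroup.normalizer
      (((M ⊓ Subgroup.centralizer (bpOc M q : Set G)) ⊓
        Subgroup.centralizer (bpOc N q : Set G) : Subgroup G) : Set G) := by
    apply Cfsg.Agent.Lib.Helper46.le_normalizer_of_conj_mem
    intro c hc b hb
    have h1 : ⁅b, c⁆ ∈ (M ⊓ Subgroup.centralizer (bpOc M q : Set G)) ⊓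
        Subgroup.centralizer (bpOc N q : Set G) :=
      hBC (Subgroup.commutator_mem_commutator hb hc)
    have e : c * b * c⁻¹ = (⁅b, c⁆)⁻¹ * b := by rw [commutatorElement_def]; group
    rw [e]
    exact Subgroup.mul_mem _ (Subgroup.inv_mem _ h1) hb
  -- g
  have hCn : M ≤ Subgroup.normalizer
      ((M ⊓ Subgroup.centralizer (bpOc M q : Set G) : Subgroup G) : Set G) :=
    bp_le_normalizer_inf_centralizer (le_normalizer_bpOc M q)
  have hC : ((M ⊓ Subgroup.centralizer (bpOc M q : Set G)).subgroupOf M).IsSubnormal :=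
    ((Subgroup.normal_subgroupOf_iff_le_normalizer inf_le_left).mpr hCn).isSubnormal
  have hB := bp_subnormal_step (M := M) inf_le_left hC hCB
  have hK := bp_subnormal_step (M := M) hKqB hB f4
  exact le_bpO_of_subnormal hKqM (bpO_isPGroup N q) hK

/-- If `O_q(N) = 1` then `O_q(M) = 1`. -/
theorem bp_core_eq_bot {M N : Subgroup G} {q : ℕ} [hq : Fact q.Prime]
    (hFN : bpF M ≤ N) (hKM : bpF N ≤ M)
    (hcN : N ⊓ Subgroup.centralizer (bpF N : Set G) ≤ bpF N)
    (h : bpO N q = ⊥) : bpO M q = ⊥ := by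
  have hFqN : bpO M q ≤ N := (bpO_le_bpF M q).trans hFN
  have h1 : bpO M q ≤ Subgroup.centralizer (bpF N : Set G) := by
    rw [Subgroup.le_centralizer_iff, bpF_eq_iSup]
    apply iSup_le
    intro r
    have : Fact (r : ℕ).Prime := ⟨r.2⟩
    by_cases hr : (r : ℕ) = q
    · rw [hr, h]; exact bot_le
    · exact Subgroup.commutator_eq_bot_iff_le_centralizer.mp
        (bpO_comm_bpO hr ((bpO_le_bpF N _).trans hKM) hFqN)
  have h2 : bpO M q ≤ bpOc N q := by
    have := (le_inf hFqN h1).trans hcN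
    rwa [bpF_eq_sup N q, h, bot_sup_eq] at this
  exact bpOc_pgroup_eq_bot h2 (bpO_isPGroup M q)

/-- Two distinct primes cannot both divide `|F(M)|`. -/
theorem bp_two_primes {M N : Subgroup G} {q s : ℕ} [hq : Fact q.Prime] [hs : Fact s.Prime]
    (hqs : s ≠ q) (hNM : ¬ N ≤ M)
    (hFN : bpF M ≤ N) (hKM : bpF N ≤ M)
    (hcM : M ⊓ Subgroup.centralizer (bpF M : Set G) ≤ bpF M)
    (hcN : N ⊓ Subgroup.centralizer (bpF N : Set G) ≤ bpF N)
    (hnormM : ∀ X : Subgroup G, X ≠ ⊥ → X ≤ M → M ≤ Subgroup.normalizer (X : Set G) →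
      Subgroup.normalizer (X : Set G) ≤ M)
    (hnormN : ∀ X : Subgroup G, X ≠ ⊥ → X ≤ N → N ≤ Subgroup.normalizer (X : Set G) →
      Subgroup.normalizer (X : Set G) ≤ N)
    (h1 : bpO M q ≠ ⊥) (h2 : bpO M s ≠ ⊥) : False := by
  have hKs : bpO N s ≠ ⊥ := fun h => h2 (bp_core_eq_bot hFN hKM hcN h)
  have hKc : bpOc N q ≠ ⊥ := by
    intro h
    apply hKs
    rw [eq_bot_iff, ← h]
    exact bpO_le_bpOc N ⟨s, hs.out⟩ hqs
  have hFc : bpOc M q ≠ ⊥ := by
    intro h
    apply h2
    rw [eq_bot_iff, ← h]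
    exact bpO_le_bpOc M ⟨s, hs.out⟩ hqs
  have e : bpO M q = bpO N q :=
    le_antisymm (bp_key_le hKM hFN hcN hnormM hFc) (bp_key_le hFN hKM hcM hnormN hKc)
  have h3 := hnormM (bpO M q) h1 (bpO_le M q) (le_normalizer_bpO M q)
  have h4 : N ≤ Subgroup.normalizer (bpO M q : Set G) := by
    rw [e]; exact le_normalizer_bpO N q
  exact hNM (h4.trans h3)

end key

section layers

variable {G : Type u} [Group G]

theorem bp_le_normalizer_subgroupOf {M X : Subgroup G} {K : Subgroup ↥M}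
    (h : K.map M.subtype ≤ Subgroup.normalizer (X : Set G)) :
    K ≤ Subgroup.normalizer ((X.subgroupOf M : Subgroup ↥M) : Set ↥M) := by
  intro k hk
  have hk' : (k : G) ∈ Subgroup.normalizer (X : Set G) := h ⟨k, hk, rfl⟩
  rw [Subgroup.mem_normalizer_iff]
  intro x
  rw [mem_subgroupOf, mem_subgroupOf]
  exact Subgroup.mem_normalizer_iff.mp hk' x

theorem bp_isSolvable_subgroupOf_map {M N : Subgroup G} (H : Subgroup ↥N)
    (hH : Group.IsSolvable ↥H) (hle : H.map N.subtype ≤ M) :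
    Group.IsSolvable ↥((H.map N.subtype).subgroupOf M) := by
  have h1 : Group.IsSolvable ↥(H.map N.subtype) :=
    Group.isSolvable_of_surjective (MonoidHom.subgroupMap_surjective N.subtype H)
  exact Group.isSolvable_of_isSolvable_injective
    (f := (Subgroup.subgroupOfEquivOfLe hle).toMonoidHom)
    (Subgroup.subgroupOfEquivOfLe hle).injective

variable [Finite G]

/-- Under `F*(M) ≤ N` and `F*(N) ≤ M`, `E(M) ≤ E(N)`. -/
theorem bp_layer_map_le (M N : Subgroup G)
    (h1 : (Cfsg.generalizedFittingSubgroup ↥M).map M.subtype ≤ N)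
    (h2 : (Cfsg.generalizedFittingSubgroup ↥N).map N.subtype ≤ M) :
    (Cfsg.layer ↥M).map M.subtype ≤ (Cfsg.layer ↥N).map N.subtype := by
  rw [Subgroup.map_le_iff_le_comap]
  change sSup {K : Subgroup ↥M | Cfsg.IsComponent K} ≤ _
  apply sSup_le
  intro K hK
  have hK' : Cfsg.IsComponent K := hK
  have hEM : (Cfsg.layer ↥N).map N.subtype ≤ M :=
    (Subgroup.map_mono (layer_le_generalizedFitting ↥N)).trans h2
  have hFM : (Cfsg.fittingSubgroup ↥N).map N.subtype ≤ M :=
    (Subgroup.map_mono (fitting_le_generalizedFitting ↥N)).trans h2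
  have hKN : K.map M.subtype ≤ N :=
    (Subgroup.map_mono ((component_le_layer hK').trans (layer_le_generalizedFitting ↥M))).trans h1
  have hnE : N ≤ Subgroup.normalizer (((Cfsg.layer ↥N).map N.subtype : Subgroup G) : Set G) := by
    have := layer_normal ↥N
    exact bp_le_normalizer_map_subtype N _
  have hnF : N ≤ Subgroup.normalizer
      (((Cfsg.fittingSubgroup ↥N).map N.subtype : Subgroup G) : Set G) := by
    have := fittingSubgroup_normal ↥N
    exact bp_le_normalizer_map_subtype N _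
  have hsolv : Group.IsSolvable ↥(((Cfsg.fittingSubgroup ↥N).map N.subtype).subgroupOf M) := by
    apply bp_isSolvable_subgroupOf_map _ _ hFM
    have := fittingSubgroup_isNilpotent (G := ↥N)
    exact IsNilpotent.to_isSolvable
  have c1 := component_commutes_solvable hK' hsolv (bp_le_normalizer_subgroupOf (hKN.trans hnF))
  rcases bp_component_le_or_commutes hK' (bp_le_normalizer_subgroupOf (hKN.trans hnE)) with h | h
  · exact h
  · exfalso
    have hLE : ⁅K.map M.subtype, (Cfsg.layer ↥N).map N.subtype⁆ = ⊥ := by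
      have := congrArg (Subgroup.map M.subtype) h
      rwa [map_commutator, Subgroup.map_subgroupOf_eq_of_le hEM, Subgroup.map_bot] at this
    have hLF : ⁅K.map M.subtype, (Cfsg.fittingSubgroup ↥N).map N.subtype⁆ = ⊥ := by
      have := congrArg (Subgroup.map M.subtype) c1
      rwa [map_commutator, Subgroup.map_subgroupOf_eq_of_le hFM, Subgroup.map_bot] at this
    have hLc : K.map M.subtype ≤ Subgroup.centralizer
        (((Cfsg.generalizedFittingSubgroup ↥N).map N.subtype : Subgroup G) : Set G) := by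
      unfold Cfsg.generalizedFittingSubgroup
      rw [Subgroup.map_sup, Subgroup.le_centralizer_iff]
      apply sup_le
      · rw [← Subgroup.le_centralizer_iff]
        exact Subgroup.commutator_eq_bot_iff_le_centralizer.mp hLE
      · rw [← Subgroup.le_centralizer_iff]
        exact Subgroup.commutator_eq_bot_iff_le_centralizer.mp hLF
    have hLg : K.map M.subtype ≤ (Cfsg.generalizedFittingSubgroup ↥N).map N.subtype := by
      intro x hx
      have hxN : x ∈ N := hKN hx
      have hc : (⟨x, hxN⟩ : ↥N) ∈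
          Subgroup.centralizer (Cfsg.generalizedFittingSubgroup ↥N : Set ↥N) := by
        rw [Subgroup.mem_centralizer_iff]
        intro y hy
        have hy' : (y : G) ∈ (Cfsg.generalizedFittingSubgroup ↥N).map N.subtype := ⟨y, hy, rfl⟩
        have := (Subgroup.mem_centralizer_iff.mp (hLc hx)) _ hy'
        exact Subtype.ext this
      exact ⟨⟨x, hxN⟩, centralizer_generalizedFitting_le ↥N hc, rfl⟩
    have hab : ⁅K.map M.subtype, K.map M.subtype⁆ = ⊥ := by
      rw [eq_bot_iff]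
      refine (Subgroup.commutator_mono le_rfl hLg).trans ?_
      exact le_of_eq (Subgroup.commutator_eq_bot_iff_le_centralizer.mpr hLc)
    rw [← map_commutator, component_perfect hK',
      Subgroup.map_eq_bot_iff_of_injective _ M.subtype_injective] at hab
    exact component_ne_bot hK' hab

end layers

section main

variable {G : Type u} [Group G]

theorem bp_normalizer_le [IsSimpleGroup G] {M : Subgroup G} (hM : IsCoatom M) :
    ∀ X : Subgroup G, X ≠ ⊥ → X ≤ M → M ≤ Subgroup.normalizer (X : Set G) →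
      Subgroup.normalizer (X : Set G) ≤ M := by
  intro X hX hXM hn
  rcases eq_or_lt_of_le hn with h | h
  · exact le_of_eq h.symm
  · exfalso
    have htop := hM.2 _ h
    have hXn : X.Normal := Subgroup.normalizer_eq_top_iff.mp htop
    rcases hXn.eq_bot_or_eq_top with h0 | h0
    · exact hX h0
    · apply hM.1
      rw [eq_top_iff, ← h0]
      exact hXM

variable [Finite G]

theorem bp_layer_eq_bot [IsSimpleGroup G] (M N : Subgroup G) (hM : IsCoatom M)
    (hN : IsCoatom N) (hMN : M ≠ N)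
    (h1 : (Cfsg.generalizedFittingSubgroup ↥M).map M.subtype ≤ N)
    (h2 : (Cfsg.generalizedFittingSubgroup ↥N).map N.subtype ≤ M) :
    Cfsg.layer ↥M = ⊥ := by
  by_contra hne
  have e : (Cfsg.layer ↥M).map M.subtype = (Cfsg.layer ↥N).map N.subtype :=
    le_antisymm (bp_layer_map_le M N h1 h2) (bp_layer_map_le N M h2 h1)
  have hne' : (Cfsg.layer ↥M).map M.subtype ≠ ⊥ := by
    rw [Ne, Subgroup.map_eq_bot_iff_of_injective _ M.subtype_injective]
    exact hne
  have hnM : M ≤ Subgroup.normalizer (((Cfsg.layer ↥M).map M.subtype : Subgroup G) : Set G) := by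
    have := layer_normal ↥M
    exact bp_le_normalizer_map_subtype M _
  have hnN : N ≤ Subgroup.normalizer (((Cfsg.layer ↥M).map M.subtype : Subgroup G) : Set G) := by
    rw [e]
    have := layer_normal ↥N
    exact bp_le_normalizer_map_subtype N _
  have h3 := bp_normalizer_le hM _ hne' (Subgroup.map_subtype_le _) hnM
  have hNM : N ≤ M := hnN.trans h3
  rcases eq_or_lt_of_le hNM with h | h
  · exact hMN h.symm
  · exact hM.1 (hN.2 _ h)

theorem bp_isPGroup_of_cores (M : Subgroup G) (p : ℕ) [hp : Fact p.Prime]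
    (h : ∀ r : Nat.Primes, (r : ℕ) ≠ p → bpO M (r : ℕ) = ⊥)
    (hg : Cfsg.generalizedFittingSubgroup ↥M = Cfsg.fittingSubgroup ↥M) :
    IsPGroup p ↥(Cfsg.generalizedFittingSubgroup ↥M) := by
  have hle : Cfsg.generalizedFittingSubgroup ↥M ≤ Cfsg.pCore p ↥M := by
    rw [hg, fittingSubgroup_eq_iSup_pCore]
    apply iSup_le
    intro r
    by_cases hr : (r : ℕ) = p
    · rw [hr]
    · have := h r hr
      unfold bpO at this
      rw [Subgroup.map_eq_bot_iff_of_injective _ M.subtype_injective] at this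
      rw [this]; exact bot_le
  exact (pCore_isPGroup' p ↥M).to_le hle

/-- Bender: distinct maximal subgroups `M`, `N` of a finite simple group with `F*(M) ≤ N` and
`F*(N) ≤ M` have `F*(M)` and `F*(N)` both `p`-groups for one prime `p`. -/
theorem bender_pair [IsSimpleGroup G] (M N : Subgroup G) (hM : IsCoatom M)
    (hN : IsCoatom N) (hMN : M ≠ N)
    (h1 : (Cfsg.generalizedFittingSubgroup ↥M).map M.subtype ≤ N)
    (h2 : (Cfsg.generalizedFittingSubgroup ↥N).map N.subtype ≤ M) :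
    ∃ p : ℕ, p.Prime ∧ IsPGroup p ↥(Cfsg.generalizedFittingSubgroup ↥M) ∧
      IsPGroup p ↥(Cfsg.generalizedFittingSubgroup ↥N) := by
  have hEM := bp_layer_eq_bot M N hM hN hMN h1 h2
  have hEN := bp_layer_eq_bot N M hN hM (fun h => hMN h.symm) h2 h1
  have hgM : Cfsg.generalizedFittingSubgroup ↥M = Cfsg.fittingSubgroup ↥M := by
    unfold Cfsg.generalizedFittingSubgroup; rw [hEM, bot_sup_eq]
  have hgN : Cfsg.generalizedFittingSubgroup ↥N = Cfsg.fittingSubgroup ↥N := by
    unfold Cfsg.generalizedFittingSubgroup; rw [hEN, bot_sup_eq]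
  have hFN : bpF M ≤ N := by unfold bpF; rw [← hgM]; exact h1
  have hKM : bpF N ≤ M := by unfold bpF; rw [← hgN]; exact h2
  have hcent : ∀ (M : Subgroup G),
      Cfsg.generalizedFittingSubgroup ↥M = Cfsg.fittingSubgroup ↥M →
      M ⊓ Subgroup.centralizer (bpF M : Set G) ≤ bpF M := by
    intro M hg x hx
    have hc : (⟨x, hx.1⟩ : ↥M) ∈
        Subgroup.centralizer (Cfsg.generalizedFittingSubgroup ↥M : Set ↥M) := by
      rw [Subgroup.mem_centralizer_iff]
      intro y hy
      have hy' : (y : G) ∈ bpF M := by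
        unfold bpF; rw [← hg]; exact ⟨y, hy, rfl⟩
      have := (Subgroup.mem_centralizer_iff.mp hx.2) _ hy'
      exact Subtype.ext this
    have := centralizer_generalizedFitting_le ↥M hc
    rw [hg] at this
    exact ⟨⟨x, hx.1⟩, this, rfl⟩
  have hcM := hcent M hgM
  have hcN := hcent N hgN
  have hnormM := bp_normalizer_le hM
  have hnormN := bp_normalizer_le hN
  have hNM : ¬ N ≤ M := by
    intro h
    rcases eq_or_lt_of_le h with h | h
    · exact hMN h.symm
    · exact hM.1 (hN.2 _ h)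
  have hMN' : ¬ M ≤ N := by
    intro h
    rcases eq_or_lt_of_le h with h | h
    · exact hMN h
    · exact hN.1 (hM.2 _ h)
  -- some prime divides |F(M)|
  have hex : ∃ p : Nat.Primes, bpO M (p : ℕ) ≠ ⊥ := by
    by_contra hcon
    push Not at hcon
    have hF : bpF M = ⊥ := by
      rw [bpF_eq_iSup, eq_bot_iff]
      apply iSup_le
      intro r
      rw [hcon r]
    apply hMN'
    have : M ≤ bpF M := by
      refine le_trans (le_inf le_rfl ?_) hcM
      rw [hF]
      intro x _
      rw [Subgroup.mem_centralizer_iff]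
      intro y hy
      have : y = 1 := by simpa using hy
      rw [this]; simp
    rw [hF] at this
    exact this.trans bot_le
  obtain ⟨p, hp⟩ := hex
  have hpf : Fact (p : ℕ).Prime := ⟨p.2⟩
  have hMr : ∀ r : Nat.Primes, (r : ℕ) ≠ (p : ℕ) → bpO M (r : ℕ) = ⊥ := by
    intro r hr
    by_contra hne
    have : Fact (r : ℕ).Prime := ⟨r.2⟩
    exact bp_two_primes hr hNM hFN hKM hcM hcN hnormM hnormN hp hne
  have hNp : bpO N (p : ℕ) ≠ ⊥ := fun h => hp (bp_core_eq_bot hFN hKM hcN h)
  have hNr : ∀ r : Nat.Primes, (r : ℕ) ≠ (p : ℕ) → bpO N (r : ℕ) = ⊥ := by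
    intro r hr
    by_contra hne
    have : Fact (r : ℕ).Prime := ⟨r.2⟩
    exact bp_two_primes hr hMN' hKM hFN hcN hcM hnormN hnormM hNp hne
  exact ⟨p, p.2, bp_isPGroup_of_cores M p hMr hgM, bp_isPGroup_of_cores N p hNr hgN⟩

end main

end Cfsg.Agent.Lib.Helper30
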