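import Mathlib
import Cfsg.Agent.Lib.Helper46.Subnormal

set_option autoImplicit false

/-!
Index bounds for normal cores: `|X : core(H)|` divides `|X : H|!`, a subgroup `Z ≤ H` has
`|Z : Z ∩ core(H)|` dividing `(|X : H| - 1)!`, and a bound for the core of a subgroup that is
normalized by a subgroup of small index.
-/

namespace Cfsg.Agent.Lib.Helper30

open Subgroup

universe u

section perm

/-- The stabilizer of a point in `Perm Y` has order `(|Y| - 1)!`. -/
theorem card_stabilizer_perm {Y : Type u} [Finite Y] (y : Y) :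
    Nat.card (MulAction.stabilizer (Equiv.Perm Y) y) = (Nat.card Y - 1).factorial := by
  classical
  have horb : MulAction.orbit (Equiv.Perm Y) y = Set.univ := by
    rw [Set.eq_univ_iff_forall]
    intro z
    exact ⟨Equiv.swap y z, by simp⟩
  have h1 := MulAction.index_stabilizer (Equiv.Perm Y) y
  rw [horb, Set.ncard_univ] at h1
  have h2 := Subgroup.card_mul_index (MulAction.stabilizer (Equiv.Perm Y) y)
  rw [h1, Nat.card_perm] at h2
  have hpos : Nat.card Y ≠ 0 := by
    have : Nonempty Y := ⟨y⟩
    exact Nat.card_pos.ne'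
  have h3 := Nat.mul_factorial_pred hpos
  rw [← h3, mul_comm] at h2
  exact Nat.eq_of_mul_eq_mul_left (Nat.pos_of_ne_zero hpos) h2

end perm

section cores

variable {X : Type u} [Group X] [Finite X]

/-- `|X : core(H)|` divides `|X : H|!`. -/
theorem index_normalCore_dvd_factorial (H : Subgroup X) :
    H.normalCore.index ∣ (H.index).factorial := by
  rw [normalCore_eq_ker, index_ker, index_eq_card, ← Nat.card_perm]
  exact card_subgroup_dvd_card (MulAction.toPermHom X (X ⧸ H)).range

/-- For `Z ≤ H`: `|Z : Z ∩ core(H)|` divides `(|X : H| - 1)!`. -/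
theorem relIndex_normalCore_dvd_factorial (H Z : Subgroup X) (hZ : Z ≤ H) :
    H.normalCore.relIndex Z ∣ (H.index - 1).factorial := by
  set f := MulAction.toPermHom X (X ⧸ H) with hf
  have h1 : H.normalCore.relIndex Z = Nat.card (f.comp Z.subtype).range := by
    rw [normalCore_eq_ker, Subgroup.relIndex, Subgroup.subgroupOf, MonoidHom.comap_ker,
      index_ker]
  rw [h1]
  have hle : (f.comp Z.subtype).range ≤
      MulAction.stabilizer (Equiv.Perm (X ⧸ H)) ((1 : X) : X ⧸ H) := by
    rintro _ ⟨z, rfl⟩
    rw [MulAction.mem_stabilizer_iff]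
    change ((z : X) • ((1 : X) : X ⧸ H)) = ((1 : X) : X ⧸ H)
    rw [MulAction.Quotient.smul_mk, smul_eq_mul, mul_one]
    exact QuotientGroup.eq.mpr (by simpa using H.inv_mem (hZ z.2))
  have h2 := Subgroup.card_dvd_of_le hle
  rwa [card_stabilizer_perm, ← index_eq_card] at h2

/-- In a group, the index of a finite intersection of normal subgroups divides the product of
the indices. -/
theorem index_finset_inf_dvd_prod {Y : Type u} [Group Y] {ι : Type*} (s : Finset ι)
    (N : ι → Subgroup Y) (hN : ∀ i, (N i).Normal) :
    (s.inf N).index ∣ ∏ i ∈ s, (N i).index := by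
  classical
  induction s using Finset.induction_on with
  | empty => simp
  | insert i s hi ih =>
    rw [Finset.inf_insert, Finset.prod_insert hi]
    have h1 : (N i ⊓ s.inf N).index = (s.inf N).relIndex (N i) * (N i).index := by
      rw [← inf_relIndex_left (N i) (s.inf N), relIndex_mul_index inf_le_left]
    rw [h1, mul_comm]
    apply mul_dvd_mul_left
    have hn : (s.inf N).Normal := by
      clear ih hi h1
      induction s using Finset.induction_on with
      | empty => rw [Finset.inf_empty]; infer_instance
      | insert j s _ ih' =>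
        rw [Finset.inf_insert]
        have := hN j
        exact Subgroup.normal_inf_normal _ _
    exact (relIndex_dvd_index_of_normal (s.inf N) (N i)).trans ih

/-- If `T ⊴ K ⊴ X` and `T` is normalized by a subgroup `D`, then `|K : core_X(T)|` divides
`|K : T| ^ |X : D|`. -/
theorem relIndex_normalCore_dvd_pow (K T D : Subgroup X) [hK : K.Normal]
    (hKT : K ≤ normalizer (T : Set X)) (hDT : D ≤ normalizer (T : Set X)) :
    T.normalCore.relIndex K ∣ (T.relIndex K) ^ D.index := by
  classical
  have : Fintype (X ⧸ D) := Fintype.ofFinite _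
  set N : X ⧸ D → Subgroup X := fun c => T.map (MulAut.conj (Quotient.out c)).toMonoidHom with hNdef
  have hcore : T.normalCore = ⨅ c, N c := by
    apply le_antisymm
    · apply le_iInf
      intro c x hx
      refine ⟨(Quotient.out c)⁻¹ * x * (Quotient.out c)⁻¹⁻¹, hx _, ?_⟩
      simp only [MulEquiv.coe_toMonoidHom, MulAut.conj_apply]
      group
    · intro x hx b
      rw [mem_iInf] at hx
      obtain ⟨t, ht, htx⟩ := hx ((b⁻¹ : X) : X ⧸ D)
      obtain ⟨δ, hδ⟩ := QuotientGroup.mk_out_eq_mul D b⁻¹
      simp only [MulEquiv.coe_toMonoidHom, MulAut.conj_apply] at htx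
      rw [hδ] at htx
      have h1 : (δ : X) * t * (δ : X)⁻¹ ∈ T := (mem_normalizer_iff.mp (hDT δ.2) t).mp ht
      have e : b * x * b⁻¹ = (δ : X) * t * (δ : X)⁻¹ := by
        rw [← htx]; group
      rw [e]; exact h1
  have hKN : ∀ c, K ≤ normalizer (N c : Set X) := by
    intro c
    apply Cfsg.Agent.Lib.Helper46.le_normalizer_of_conj_mem
    rintro k hk _ ⟨t, ht, rfl⟩
    have hk' : (Quotient.out c)⁻¹ * k * (Quotient.out c)⁻¹⁻¹ ∈ K := hK.conj_mem k hk _
    have h1 := (mem_normalizer_iff.mp (hKT hk') t).mp ht
    refine ⟨_, h1, ?_⟩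
    simp only [MulEquiv.coe_toMonoidHom, MulAut.conj_apply]
    group
  have hrel : ∀ c, (N c).relIndex K = T.relIndex K := by
    intro c
    have hKmap : K.map (MulAut.conj (Quotient.out c)).toMonoidHom = K := by
      ext x
      constructor
      · rintro ⟨k, hk, rfl⟩
        simpa using hK.conj_mem k hk _
      · intro hx
        refine ⟨(Quotient.out c)⁻¹ * x * (Quotient.out c)⁻¹⁻¹, hK.conj_mem x hx _, ?_⟩
        simp only [MulEquiv.coe_toMonoidHom, MulAut.conj_apply]
        group
    have := relIndex_map_map_of_injective (f := (MulAut.conj (Quotient.out c)).toMonoidHom) T K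
      (MulAut.conj (Quotient.out c)).injective
    rw [hKmap] at this
    exact this
  have hsub : (T.normalCore).subgroupOf K = Finset.univ.inf (fun c => (N c).subgroupOf K) := by
    rw [Finset.inf_univ_eq_iInf, hcore]
    unfold Subgroup.subgroupOf
    rw [Subgroup.comap_iInf]
  have hnorm : ∀ c, ((N c).subgroupOf K).Normal := fun c =>
    Subgroup.normal_subgroupOf_of_le_normalizer (hKN c)
  have hdvd := index_finset_inf_dvd_prod Finset.univ (fun c => (N c).subgroupOf K) hnorm
  rw [← hsub] at hdvd
  have hprod : ∏ c ∈ (Finset.univ : Finset (X ⧸ D)), ((N c).subgroupOf K).index =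
      (T.relIndex K) ^ D.index := by
    have : ∀ c ∈ (Finset.univ : Finset (X ⧸ D)), ((N c).subgroupOf K).index = T.relIndex K :=
      fun c _ => hrel c
    rw [Finset.prod_congr rfl this, Finset.prod_const, Finset.card_univ, index_eq_card,
      Nat.card_eq_fintype_card]
  rw [hprod] at hdvd
  exact hdvd

end cores

end Cfsg.Agent.Lib.Helper30
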