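import Mathlib
import Cfsg.Prelude.Def_Local
import Cfsg.Agent.Lib.Helper22.FStar
import Cfsg.Agent.Lib.Helper2.PResidual
import Cfsg.Agent.Lib.Helper96.Wielandt
import Cfsg.Agent.S0575

set_option autoImplicit false

/-! Tools for computing `F*(X/N)` when `N = Z(E(X)) Φ(F(X))`. -/

namespace Cfsg.Agent.Lib.Helper30

open Cfsg.Agent.Lib.Helper22
open scoped commutatorElement

/-- A finite group which is nilpotent modulo a normal subgroup inside `Z(W) Φ(W)` is nilpotent. -/
theorem isNilpotent_of_quotient_le_center_sup_frattini {W : Type*} [Group W] [Finite W]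
    (N : Subgroup W) [N.Normal] (h : Group.IsNilpotent (W ⧸ N))
    (hN : N ≤ Subgroup.center W ⊔ frattini W) : Group.IsNilpotent W := by
  have hnc : NormalizerCondition (W ⧸ N) := Group.normalizerCondition_of_isNilpotent
  apply ((Group.isNilpotent_of_finite_tfae (G := W)).out 0 2).mpr
  intro M hM
  by_cases hc : Subgroup.center W ≤ M
  · have hNM : N ≤ M := hN.trans (sup_le hc (frattini_le_coatom hM))
    set π := QuotientGroup.mk' N with hπ
    have hsurj : Function.Surjective π := QuotientGroup.mk'_surjective _
    have hcm : (M.map π).comap π = M := by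
      rw [Subgroup.comap_map_eq, hπ, QuotientGroup.ker_mk', sup_eq_left]
      exact hNM
    have hne : M.map π < ⊤ := by
      rw [lt_top_iff_ne_top]
      intro h1
      apply hM.1
      rw [← hcm, h1, Subgroup.comap_top]
    have h2 := hnc (M.map π) hne
    rw [← Subgroup.comap_lt_comap_of_surjective hsurj, hcm,
      Subgroup.comap_normalizer_eq_of_surjective _ hsurj, hcm] at h2
    exact Subgroup.normalizer_eq_top_iff.mp (hM.2 _ h2)
  · have h1 : M < M ⊔ Subgroup.center W := by
      refine lt_of_le_of_ne le_sup_left ?_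
      intro h2
      apply hc
      rw [h2]
      exact le_sup_right
    have h2 : M ⊔ Subgroup.center W = ⊤ := hM.2 _ h1
    apply Subgroup.normalizer_eq_top_iff.mp
    rw [eq_top_iff, ← h2]
    exact sup_le Subgroup.le_normalizer (Subgroup.center_le_normalizer _)

/-- Hom version. -/
theorem isNilpotent_of_hom_ker_le_center_sup_frattini {W Q : Type*} [Group W] [Finite W] [Group Q]
    (φ : W →* Q) (hQ : Group.IsNilpotent Q)
    (hker : φ.ker ≤ Subgroup.center W ⊔ frattini W) : Group.IsNilpotent W := by
  apply isNilpotent_of_quotient_le_center_sup_frattini φ.ker _ hker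
  have : Group.IsNilpotent ↥φ.range := inferInstance
  exact Group.nilpotent_of_mulEquiv (QuotientGroup.quotientKerEquivRange φ).symm

/-- The Frattini subgroup of a normal subgroup `F ≤ W` lies in the Frattini subgroup of `W`. -/
theorem frattini_map_subgroupOf_le {X : Type*} [Group X] [Finite X] (F W : Subgroup X) [F.Normal]
    (hFW : F ≤ W) : ((frattini ↥F).map F.subtype).subgroupOf W ≤ frattini ↥W := by
  intro w hw
  rw [Subgroup.mem_subgroupOf] at hw
  obtain ⟨a, ha, hax⟩ := hw
  let e := Subgroup.subgroupOfEquivOfLe hFW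
  have hb : e.symm a ∈ frattini ↥(F.subgroupOf W) :=
    frattini_le_comap_frattini_of_surjective (φ := e.symm.toMonoidHom) e.symm.surjective ha
  have h1 : (F.subgroupOf W).subtype (e.symm a) ∈ frattini ↥W :=
    Cfsg.Agent.S0575.result (F.subgroupOf W) ⟨e.symm a, hb, rfl⟩
  have h2 : (F.subgroupOf W).subtype (e.symm a) = w := by
    apply Subtype.ext
    rw [← hax]
    rfl
  rwa [h2] at h1

/-- The join of two elementwise commuting nilpotent subgroups is nilpotent. -/
theorem isNilpotent_sup_of_commute {G : Type*} [Group G] (A B : Subgroup G)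
    (hA : Group.IsNilpotent ↥A) (hB : Group.IsNilpotent ↥B)
    (hc : ∀ a ∈ A, ∀ b ∈ B, Commute a b) : Group.IsNilpotent ↥(A ⊔ B) := by
  let φ : ↥A × ↥B →* G := MonoidHom.noncommCoprod A.subtype B.subtype
    (fun m n => hc m m.2 n n.2)
  have hr : φ.range = A ⊔ B := by
    have := MonoidHom.noncommCoprod_range A.subtype B.subtype (fun m n => hc m m.2 n n.2)
    rw [Subgroup.range_subtype, Subgroup.range_subtype] at this
    exact this
  have h1 : Group.IsNilpotent ↥φ.range :=
    Group.nilpotent_of_surjective φ.rangeRestrict φ.rangeRestrict_surjective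
  rwa [hr] at h1

end Cfsg.Agent.Lib.Helper30
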