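import Mathlib
import Cfsg.Agent.Lib.Helper45.LtCore

/-! # S2363 hive "Lt" (helper45), leaf LT-E8 (helper30) -/

set_option autoImplicit false

namespace Cfsg.Agent.Lib.Helper45.Lt

/-- `∏ (q^a - 1) ≤ q^(∑ a)` over a list of exponents -/
theorem e8_list_le {q : ℕ} :
    ∀ L : List ℕ, (L.map (fun a => q ^ a - 1)).prod ≤ q ^ L.sum := by
  intro L
  induction L with
  | nil => simp
  | cons a L ih =>
    rw [List.map_cons, List.prod_cons, List.sum_cons, pow_add]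
    exact Nat.mul_le_mul (Nat.sub_le _ _) ih

/-- `∏ (q^a - 1) < q^(∑ a)` over a nonempty list of exponents -/
theorem e8_list_lt {q : ℕ} (hq : 1 ≤ q) :
    ∀ L : List ℕ, L ≠ [] → (L.map (fun a => q ^ a - 1)).prod < q ^ L.sum := by
  intro L hL
  cases L with
  | nil => exact absurd rfl hL
  | cons a L =>
    rw [List.map_cons, List.prod_cons, List.sum_cons, pow_add]
    have h1 : q ^ a - 1 < q ^ a := Nat.sub_lt (pow_pos hq _) Nat.one_pos
    calc (q ^ a - 1) * (L.map (fun a => q ^ a - 1)).prod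
        ≤ (q ^ a - 1) * q ^ L.sum := Nat.mul_le_mul_left _ (e8_list_le L)
      _ < q ^ a * q ^ L.sum := Nat.mul_lt_mul_of_pos_right h1 (pow_pos hq _)

/-- `p ∤ ∏ (q^a - 1)` over a list of positive exponents -/
theorem e8_list_not_dvd {p f : ℕ} (hp : p.Prime) (hf : 1 ≤ f) :
    ∀ L : List ℕ, (∀ a ∈ L, 1 ≤ a) → ¬ p ∣ (L.map (fun a => (p ^ f) ^ a - 1)).prod := by
  intro L
  induction L with
  | nil =>
    intro _ h
    rw [List.map_nil, List.prod_nil] at h
    exact hp.one_lt.ne' (Nat.dvd_one.1 h)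
  | cons a L ih =>
    intro hL
    rw [List.map_cons, List.prod_cons]
    exact lt_not_dvd_mul hp (lt_not_dvd_sub_one hp hf (hL a (List.mem_cons_self)))
      (ih (fun b hb => hL b (List.mem_cons_of_mem _ hb)))

/-- LT-E8 (S1065): `N = 120`, `l = 8`. -/
theorem lt_e8 {p f g : ℕ} (hp : p.Prime) (hf : 1 ≤ f) (hg : 0 < g)
    (hcard : g = (p ^ f) ^ 120 * ((p ^ f) ^ 2 - 1) * ((p ^ f) ^ 8 - 1) * ((p ^ f) ^ 12 - 1) *
      ((p ^ f) ^ 14 - 1) * ((p ^ f) ^ 18 - 1) * ((p ^ f) ^ 20 - 1) * ((p ^ f) ^ 24 - 1) *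
      ((p ^ f) ^ 30 - 1)) :
    g < p ^ (3 * g.factorization p) ∧ g ^ 3 < p ^ (8 * g.factorization p) := by
  have hq : 1 ≤ p ^ f := pow_pos hp.pos f
  have key := lt_core (N := 120) (l := 8) (d := 1)
    (M := ([2, 8, 12, 14, 18, 20, 24, 30].map (fun a => (p ^ f) ^ a - 1)).prod) hp hf hg ?_ ?_ ?_ ?_
    (by norm_num)
  · exact ⟨key.2.1, key.2.2 (by norm_num)⟩
  · rw [hcard]
    simp only [List.map, List.prod_cons, List.prod_nil]
    ring
  · exact fun h => hp.one_lt.ne' (Nat.dvd_one.1 h)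
  · exact e8_list_not_dvd hp hf _ (by decide)
  · rw [one_mul]
    have h := e8_list_lt hq [2, 8, 12, 14, 18, 20, 24, 30] (by simp)
    have hs : ([2, 8, 12, 14, 18, 20, 24, 30] : List ℕ).sum = 120 + 8 := by norm_num
    rw [hs] at h
    exact h

end Cfsg.Agent.Lib.Helper45.Lt
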