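import Mathlib

set_option autoImplicit false

namespace Cfsg.Agent.Lib.Helper30

variable {S : Type*} [Group S]

theorem mem_map_conj_iff {g y : S} {R : Subgroup S} :
    y ∈ R.map (MulAut.conj g).toMonoidHom ↔ g⁻¹ * y * g ∈ R := by
  constructor
  · rintro ⟨x, hx, rfl⟩
    have : g⁻¹ * ((MulAut.conj g).toMonoidHom x) * g = x := by
      simp [MulAut.conj_apply]; group
    rw [this]; exact hx
  · intro h
    refine ⟨g⁻¹ * y * g, h, ?_⟩
    simp [MulAut.conj_apply]; group

theorem conj_mem_map_conj_iff {g x : S} {R : Subgroup S} :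
    g * x * g⁻¹ ∈ R.map (MulAut.conj g).toMonoidHom ↔ x ∈ R := by
  rw [mem_map_conj_iff]
  have : g⁻¹ * (g * x * g⁻¹) * g = x := by group
  rw [this]

theorem mem_normalizer_of_map_conj_eq {g : S} {R : Subgroup S}
    (h : R.map (MulAut.conj g).toMonoidHom = R) : g ∈ Subgroup.normalizer (R : Set S) := by
  rw [Subgroup.mem_normalizer_iff]
  intro x
  constructor
  · intro hx
    have := (conj_mem_map_conj_iff (g := g) (x := x) (R := R)).mpr hx
    rwa [h] at this
  · intro hx
    rw [← h] at hx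
    exact conj_mem_map_conj_iff.mp hx

theorem map_conj_eq_of_mem_normalizer {g : S} {R : Subgroup S}
    (h : g ∈ Subgroup.normalizer (R : Set S)) : R.map (MulAut.conj g).toMonoidHom = R := by
  ext y
  rw [mem_map_conj_iff]
  have hg : g⁻¹ ∈ Subgroup.normalizer (R : Set S) := inv_mem h
  rw [Subgroup.mem_normalizer_iff] at hg
  have := hg y
  rw [inv_inv] at this
  exact this.symm

theorem card_map_conj [Finite S] (g : S) (R : Subgroup S) :
    Nat.card ↥(R.map (MulAut.conj g).toMonoidHom) = Nat.card ↥R :=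
  (Nat.card_congr (R.equivMapOfInjective (MulAut.conj g).toMonoidHom
    (MulAut.conj g).injective).toEquiv).symm

/-- normalizer growth inside a subgroup of a finite `p`-group -/
theorem exists_normalizing_not_mem [Finite S] {p : ℕ} [Fact p.Prime] (hS : IsPGroup p S)
    {N H : Subgroup S} (hNH : N < H) :
    ∃ g ∈ H, g ∉ N ∧ ∀ n ∈ N, g * n * g⁻¹ ∈ N := by
  have hH : IsPGroup p ↥H := hS.to_subgroup H
  have : Group.IsNilpotent ↥H := hH.isNilpotent
  have hnc : NormalizerCondition ↥H := Group.normalizerCondition_of_isNilpotent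
  have hlt : N.subgroupOf H < ⊤ := by
    rw [lt_top_iff_ne_top]
    intro h
    rw [Subgroup.subgroupOf_eq_top] at h
    exact hNH.not_ge h
  have h2 := hnc _ hlt
  obtain ⟨g, hgn, hgN⟩ := SetLike.exists_of_lt h2
  refine ⟨g, g.2, fun h => hgN (by rw [Subgroup.mem_subgroupOf]; exact h), ?_⟩
  intro n hn
  rw [Subgroup.mem_normalizer_iff] at hgn
  have := (hgn ⟨n, hNH.le hn⟩).mp (by rw [Subgroup.mem_subgroupOf]; exact hn)
  rw [Subgroup.mem_subgroupOf] at this
  simpa using this

/-- a proper subgroup of a subgroup `H` of a finite `p`-group lies in a proper subgroup of `H`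
normalized by `H` -/
theorem exists_normal_proper_of_lt [Finite S] {p : ℕ} [Fact p.Prime] (hS : IsPGroup p S)
    {R H : Subgroup S} (hRH : R < H) :
    ∃ M : Subgroup S, R ≤ M ∧ M < H ∧ ∀ h ∈ H, ∀ m ∈ M, h * m * h⁻¹ ∈ M := by
  have hH : IsPGroup p ↥H := hS.to_subgroup H
  have : Group.IsNilpotent ↥H := hH.isNilpotent
  have hnc : NormalizerCondition ↥H := Group.normalizerCondition_of_isNilpotent
  have hne : R.subgroupOf H ≠ ⊤ := by
    intro h
    rw [Subgroup.subgroupOf_eq_top] at h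
    exact hRH.not_ge h
  rcases eq_top_or_exists_le_coatom (R.subgroupOf H) with h | ⟨M', hM', hRM'⟩
  · exact absurd h hne
  have hnorm : M'.Normal := Subgroup.NormalizerCondition.normal_of_coatom M' hnc hM'
  refine ⟨M'.map H.subtype, ?_, ?_, ?_⟩
  · intro r hr
    exact ⟨⟨r, hRH.le hr⟩, hRM' (by rw [Subgroup.mem_subgroupOf]; exact hr), rfl⟩
  · refine lt_of_le_of_ne (Subgroup.map_subtype_le M') ?_
    intro h
    apply hM'.1
    rw [eq_top_iff]
    intro x _
    have hx : (x : S) ∈ M'.map H.subtype := by rw [h]; exact x.2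
    obtain ⟨y, hy, hyx⟩ := hx
    have : y = x := Subtype.ext hyx
    rwa [← this]
  · rintro h hh _ ⟨m, hm, rfl⟩
    exact ⟨⟨h, hh⟩ * m * ⟨h, hh⟩⁻¹, hnorm.conj_mem m hm ⟨h, hh⟩, by simp⟩

end Cfsg.Agent.Lib.Helper30
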