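import Mathlib

set_option autoImplicit false

namespace Cfsg.Agent.Lib.Helper30

open scoped LinearAlgebra.Projectivization

section
variable {F : Type*} [Field F] {V : Type*} [AddCommGroup V] [Module F V]

/-- The points of the projective space lying in the submodule `U`. -/
def pts (U : Submodule F V) : Set (ℙ F V) := {x | x.rep ∈ U}

theorem mk_mem_pts (U : Submodule F V) (v : V) (hv : v ≠ 0) :
    Projectivization.mk F v hv ∈ pts U ↔ v ∈ U := by
  obtain ⟨a, ha⟩ := Projectivization.exists_smul_eq_mk_rep F v hv
  show (Projectivization.mk F v hv).rep ∈ U ↔ v ∈ U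
  rw [← ha]
  exact U.smul_mem_iff' a

theorem pts_inf (U U' : Submodule F V) : pts (U ⊓ U') = pts U ∩ pts U' := by
  ext x
  simp [pts]

theorem map_mem_pts_iff {σ : F →+* F} (f : V →ₛₗ[σ] V) (hf : Function.Injective f)
    (U : Submodule F V) (x : ℙ F V) :
    Projectivization.map f hf x ∈ pts U ↔ x ∈ pts (U.comap f) := by
  induction x using Projectivization.ind with
  | h v hv =>
    rw [Projectivization.map_mk, mk_mem_pts, mk_mem_pts]
    rfl

theorem pts_eq_range (U : Submodule F V) :
    pts U = Set.range (Projectivization.map U.subtype U.injective_subtype) := by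
  ext x
  constructor
  · intro hx
    induction x using Projectivization.ind with
    | h v hv =>
      rw [mk_mem_pts] at hx
      have hv' : (⟨v, hx⟩ : U) ≠ 0 := by
        intro h
        apply hv
        exact congrArg Subtype.val h
      refine ⟨Projectivization.mk F (⟨v, hx⟩ : U) hv', ?_⟩
      rw [Projectivization.map_mk]
      rfl
  · rintro ⟨y, rfl⟩
    induction y using Projectivization.ind with
    | h u hu =>
      rw [Projectivization.map_mk, mk_mem_pts]
      exact u.2

theorem card_pts [Finite F] [Finite V] (U : Submodule F V) :
    Nat.card U = Nat.card (pts U) * (Nat.card F - 1) + 1 := by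
  have h := Projectivization.card' F U
  have e : Nat.card (pts U) = Nat.card (ℙ F U) := by
    rw [pts_eq_range]
    exact Nat.card_range_of_injective
      (Projectivization.map_injective (τ := RingHom.id F) U.subtype U.injective_subtype)
  rw [e]
  exact h

end


section
variable {F : Type*} [Field F] {V : Type*} [AddCommGroup V] [Module F V]

theorem card_comap_of_injective [Finite V] {σ : F →+* F} (f : V →ₛₗ[σ] V)
    (hf : Function.Injective f) (U : Submodule F V) :
    Nat.card (U.comap f) = Nat.card U := by
  have hs : Function.Surjective f := Finite.injective_iff_surjective.mp hf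
  have : ((U.comap f : Submodule F V) : Set V) = f ⁻¹' (U : Set V) := rfl
  show Nat.card ((U.comap f : Submodule F V) : Set V) = Nat.card (U : Set V)
  rw [this]
  exact Nat.card_preimage_of_injective hf (by rw [hs.range_eq]; exact Set.subset_univ _)

theorem finrank_inf_hyperplanes [Module.Finite F V] (n : ℕ) (hV : Module.finrank F V = n)
    (W W' : Submodule F V) (hW : Module.finrank F W = n - 1) (hW' : Module.finrank F W' = n - 1) :
    Module.finrank F (W ⊓ W' : Submodule F V) = n - 1 ∨
      Module.finrank F (W ⊓ W' : Submodule F V) = n - 2 := by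
  have h1 := Submodule.finrank_sup_add_finrank_inf_eq W W'
  have h2 : Module.finrank F (W ⊔ W' : Submodule F V) ≤ n := hV ▸ Submodule.finrank_le _
  have h3 : Module.finrank F W ≤ Module.finrank F (W ⊔ W' : Submodule F V) :=
    Submodule.finrank_mono le_sup_left
  have h4 : Module.finrank F (W ⊓ W' : Submodule F V) ≤ Module.finrank F W :=
    Submodule.finrank_mono inf_le_left
  omega

theorem finrank_ker_proj [Finite F] (n : ℕ) (i : Fin n) :
    Module.finrank F (LinearMap.ker (LinearMap.proj i : (Fin n → F) →ₗ[F] F)) = n - 1 := by
  have h := LinearMap.finrank_range_add_finrank_ker (LinearMap.proj i : (Fin n → F) →ₗ[F] F)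
  have hr : LinearMap.range (LinearMap.proj i : (Fin n → F) →ₗ[F] F) = ⊤ :=
    LinearMap.range_eq_top.mpr (LinearMap.proj_surjective i)
  rw [hr, finrank_top, Module.finrank_self, Module.finrank_fin_fun] at h
  omega

end

end Cfsg.Agent.Lib.Helper30
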