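import Mathlib
import Cfsg.Prelude.Def_Solvable
import Cfsg.Agent.Lib.Helper22.Fitting
import Cfsg.Agent.Lib.Helper2.PGroup

set_option autoImplicit false

namespace Cfsg.Agent.Lib.Helper30

section

variable {X : Type*} [Group X]

/-- The subgroup generated by the squares of the elements of `R`. -/
def agemo2 (R : Subgroup X) : Subgroup X := Subgroup.closure {y | ∃ r ∈ R, y = r ^ 2}

theorem sq_mem_agemo2 {R : Subgroup X} {r : X} (hr : r ∈ R) : r ^ 2 ∈ agemo2 R :=
  Subgroup.subset_closure ⟨r, hr, rfl⟩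

theorem agemo2_le (R : Subgroup X) : agemo2 R ≤ R := by
  unfold agemo2
  rw [Subgroup.closure_le]
  rintro _ ⟨r, hr, rfl⟩
  exact R.pow_mem hr 2

theorem agemo2_normal (R : Subgroup X) [hR : R.Normal] : (agemo2 R).Normal := by
  constructor
  intro n hn g
  have h1 : (agemo2 R).map (MulAut.conj g).toMonoidHom ≤ agemo2 R := by
    unfold agemo2
    rw [MonoidHom.map_closure, Subgroup.closure_le]
    rintro _ ⟨_, ⟨r, hr, rfl⟩, rfl⟩
    apply Subgroup.subset_closure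
    refine ⟨g * r * g⁻¹, hR.conj_mem r hr g, ?_⟩
    simp [conj_pow]
  apply h1
  exact ⟨n, hn, by simp⟩

theorem agemo2_ne [Finite X] (R : Subgroup X) (hR : IsPGroup 2 ↥R) (hne : R ≠ ⊥) : agemo2 R ≠ R := by
  have : Fact (Nat.Prime 2) := ⟨Nat.prime_two⟩
  intro h
  have hnt : Nontrivial ↥R := (Subgroup.nontrivial_iff_ne_bot R).mpr hne
  have h1 : agemo2 R ≤ (frattini ↥R).map R.subtype := by
    unfold agemo2
    rw [Subgroup.closure_le]
    rintro _ ⟨r, hr, rfl⟩
    exact ⟨(⟨r, hr⟩ : ↥R) ^ 2, Cfsg.Agent.Lib.Helper2.pow_mem_frattini hR _, by simp⟩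
  rw [h] at h1
  have h2 : frattini ↥R = ⊤ := by
    rw [eq_top_iff]
    intro y _
    obtain ⟨z, hz, hzy⟩ := h1 y.2
    have : z = y := Subtype.ext hzy
    rw [← this]
    exact hz
  rcases eq_top_or_exists_le_coatom (⊥ : Subgroup ↥R) with h3 | ⟨K, hK, -⟩
  · exact bot_ne_top h3
  · have := frattini_le_coatom hK
    rw [h2, top_le_iff] at this
    exact hK.1 this

/-- The elements acting trivially on `R / agemo2 R` for every normal subgroup `R ≤ Q`. -/
def stabD (Q : Subgroup X) : Subgroup X where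
  carrier := {c | ∀ R : Subgroup X, R.Normal → R ≤ Q → ∀ x ∈ R, c * x * c⁻¹ * x⁻¹ ∈ agemo2 R}
  one_mem' := by
    intro R _ _ x _
    simp
  mul_mem' := by
    intro c d hc hd R hR hRQ x hx
    have hn := agemo2_normal R
    have h1 : c * d * x * (c * d)⁻¹ * x⁻¹ = c * (d * x * d⁻¹ * x⁻¹) * c⁻¹ * (c * x * c⁻¹ * x⁻¹) := by
      group
    rw [h1]
    exact (agemo2 R).mul_mem (hn.conj_mem _ (hd R hR hRQ x hx) c) (hc R hR hRQ x hx)
  inv_mem' := by
    intro c hc R hR hRQ x hx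
    have hn := agemo2_normal R
    have h1 : c⁻¹ * x * c⁻¹⁻¹ * x⁻¹ = c⁻¹ * (c * x * c⁻¹ * x⁻¹)⁻¹ * c⁻¹⁻¹ := by group
    rw [h1]
    exact hn.conj_mem _ ((agemo2 R).inv_mem (hc R hR hRQ x hx)) c⁻¹

theorem mem_stabD {Q : Subgroup X} {c : X} :
    c ∈ stabD Q ↔ ∀ R : Subgroup X, R.Normal → R ≤ Q → ∀ x ∈ R, c * x * c⁻¹ * x⁻¹ ∈ agemo2 R :=
  Iff.rfl

theorem stabD_normal (Q : Subgroup X) : (stabD Q).Normal := by
  constructor
  intro c hc g R hR hRQ x hx
  have hn := agemo2_normal R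
  have hx' : g⁻¹ * x * g ∈ R := by
    have := hR.conj_mem x hx g⁻¹
    simpa using this
  have h1 : g * c * g⁻¹ * x * (g * c * g⁻¹)⁻¹ * x⁻¹ =
      g * (c * (g⁻¹ * x * g) * c⁻¹ * (g⁻¹ * x * g)⁻¹) * g⁻¹ := by group
  rw [h1]
  exact hn.conj_mem _ (hc R hR hRQ _ hx') g

/-- An element commuting with its conjugates under `Q` has its square in `stabD Q`. -/
theorem sq_mem_stabD {Q : Subgroup X} {a : X} (ha : ∀ x ∈ Q, Commute a (x * a * x⁻¹)) :
    a ^ 2 ∈ stabD Q := by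
  intro R hR hRQ x hx
  set w := a * x * a⁻¹ * x⁻¹ with hw
  have hwR : w ∈ R := R.mul_mem (hR.conj_mem x hx a) (R.inv_mem hx)
  have hcw : Commute a w := by
    have h1 : w = a * (x * a * x⁻¹)⁻¹ := by rw [hw]; group
    rw [h1]
    exact (Commute.refl a).mul_right (ha x (hRQ hx)).inv_right
  have h2 : a ^ 2 * x * (a ^ 2)⁻¹ * x⁻¹ = w ^ 2 := by
    have h3 : a ^ 2 * x * (a ^ 2)⁻¹ * x⁻¹ = a * w * a⁻¹ * w := by rw [hw, pow_two]; group
    rw [h3, hcw.eq, mul_inv_cancel_right, pow_two]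
  rw [h2]
  exact sq_mem_agemo2 hwR

theorem conj_pow_eq_of_stab {c x y : X} (hy : c * x * c⁻¹ = y * x) (hcy : c * y * c⁻¹ = y) (k : ℕ) :
    c ^ k * x * (c ^ k)⁻¹ = y ^ k * x := by
  induction k with
  | zero => simp
  | succ k ih =>
    have h1 : c ^ (k + 1) * x * (c ^ (k + 1))⁻¹ = c * (c ^ k * x * (c ^ k)⁻¹) * c⁻¹ := by
      rw [pow_succ']; group
    have hcyk : c * y ^ k * c⁻¹ = y ^ k := by
      rw [← conj_pow, hcy]
    rw [h1, ih]
    calc c * (y ^ k * x) * c⁻¹ = (c * y ^ k * c⁻¹) * (c * x * c⁻¹) := by group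
      _ = y ^ k * (y * x) := by rw [hcyk, hy]
      _ = y ^ (k + 1) * x := by rw [pow_succ]; group

/-- Odd-order elements of `stabD Q` centralize every normal 2-subgroup `R ≤ Q`. -/
theorem centralizes_of_odd [Finite X] {Q : Subgroup X} (hQ : IsPGroup 2 ↥Q) {c : X}
    (hc : c ∈ stabD Q) (hodd : Odd (orderOf c)) :
    ∀ (n : ℕ) (R : Subgroup X), R.Normal → R ≤ Q → Nat.card ↥R ≤ n → ∀ x ∈ R, c * x * c⁻¹ = x := by
  intro n
  induction n with
  | zero =>
    intro R _ _ hcard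
    have : 0 < Nat.card ↥R := Nat.card_pos
    omega
  | succ n ih =>
    intro R hR hRQ hcard x hx
    by_cases hbot : R = ⊥
    · rw [hbot, Subgroup.mem_bot] at hx
      rw [hx]; simp
    · have hRp : IsPGroup 2 ↥R := hQ.to_le hRQ
      have hlt : Nat.card ↥(agemo2 R) < Nat.card ↥R := by
        rcases lt_or_eq_of_le (Subgroup.card_le_of_le (agemo2_le R)) with h | h
        · exact h
        · exfalso
          apply agemo2_ne R hRp hbot
          exact Subgroup.eq_of_le_of_card_ge (agemo2_le R) h.ge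
      have hn := agemo2_normal R
      have ih' := ih (agemo2 R) hn ((agemo2_le R).trans hRQ) (by omega)
      set y := c * x * c⁻¹ * x⁻¹ with hy
      have hyA : y ∈ agemo2 R := hc R hR hRQ x hx
      have hcy : c * y * c⁻¹ = y := ih' y hyA
      have hyx : c * x * c⁻¹ = y * x := by rw [hy]; group
      have h1 := conj_pow_eq_of_stab hyx hcy (orderOf c)
      rw [pow_orderOf_eq_one] at h1
      have h2 : y ^ orderOf c = 1 := by
        have : x = y ^ orderOf c * x := by simpa using h1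
        exact (mul_eq_right (b := x)).mp this.symm
      obtain ⟨k, hk⟩ := hQ ⟨y, hRQ (agemo2_le R hyA)⟩
      have h3 : y ^ 2 ^ k = 1 := by
        have := congrArg Subtype.val hk
        simpa using this
      have hcop : Nat.Coprime (orderOf c) (2 ^ k) :=
        Nat.Coprime.pow_right k (Nat.Coprime.symm ((Nat.Prime.coprime_iff_not_dvd Nat.prime_two).mpr
          (fun h => (Nat.not_even_iff_odd.mpr hodd) (even_iff_two_dvd.mpr h))))
      have h4 := pow_gcd_eq_one.mpr ⟨h2, h3⟩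
      rw [hcop, pow_one] at h4
      rw [hyx, h4, one_mul]

theorem isPGroup_stabD [Finite X] {Q : Subgroup X} [hQn : Q.Normal] (hQ : IsPGroup 2 ↥Q)
    (hC : Subgroup.centralizer (Q : Set X) ≤ Q) : IsPGroup 2 ↥(stabD Q) := by
  rintro ⟨d, hd⟩
  obtain ⟨j, m, hm, hn⟩ := Nat.exists_eq_two_pow_mul_odd (orderOf_pos d).ne'
  refine ⟨j, Subtype.ext ?_⟩
  simp only [Subgroup.coe_pow, Subgroup.coe_one]
  set c := d ^ 2 ^ j with hc
  have hcD : c ∈ stabD Q := (stabD Q).pow_mem hd _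
  have hoc : orderOf c = m := by
    rw [hc, orderOf_pow_of_dvd (by positivity) (by rw [hn]; exact dvd_mul_right _ _), hn,
      Nat.mul_div_cancel_left _ (by positivity)]
  have hcent := centralizes_of_odd hQ hcD (by rw [hoc]; exact hm) (Nat.card ↥Q) Q hQn le_rfl le_rfl
  have hcC : c ∈ Subgroup.centralizer (Q : Set X) := by
    rw [Subgroup.mem_centralizer_iff]
    intro x hx
    have := hcent x hx
    calc x * c = (c * x * c⁻¹) * c := by rw [this]
      _ = c * x := by group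
  obtain ⟨k, hk⟩ := hQ ⟨c, hC hcC⟩
  have h3 : c ^ 2 ^ k = 1 := by
    have := congrArg Subtype.val hk
    simpa using this
  have h4 : orderOf c ∣ 2 ^ k := orderOf_dvd_of_pow_eq_one h3
  rw [hoc] at h4
  have h5 : m = 1 := by
    have hcop : Nat.Coprime m (2 ^ k) :=
      Nat.Coprime.pow_right k (Nat.Coprime.symm ((Nat.Prime.coprime_iff_not_dvd Nat.prime_two).mpr
        (fun h => (Nat.not_even_iff_odd.mpr hm) (even_iff_two_dvd.mpr h))))
    exact Nat.eq_one_of_dvd_coprimes hcop dvd_rfl h4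
  have h6 : c = 1 := by
    rw [← orderOf_eq_one_iff, hoc, h5]
  exact h6

/-- If `C_X(O_2(X)) ≤ O_2(X)` and `a` commutes with all its conjugates under `O_2(X)`, then
`a ^ 2 ∈ O_2(X)`. -/
theorem sq_mem_pCore_of_commute_conj [Finite X]
    (hC : Subgroup.centralizer (Cfsg.pCore 2 X : Set X) ≤ Cfsg.pCore 2 X) {a : X}
    (ha : ∀ x ∈ Cfsg.pCore 2 X, Commute a (x * a * x⁻¹)) : a ^ 2 ∈ Cfsg.pCore 2 X := by
  have : Fact (Nat.Prime 2) := ⟨Nat.prime_two⟩
  have hQn : (Cfsg.pCore 2 X).Normal := Cfsg.Agent.Lib.Helper22.pCore_normal' 2 X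
  have hQ : IsPGroup 2 ↥(Cfsg.pCore 2 X) := Cfsg.Agent.Lib.Helper22.pCore_isPGroup' 2 X
  have hD := isPGroup_stabD hQ hC
  have hDn := stabD_normal (Cfsg.pCore 2 X)
  exact Cfsg.Agent.Lib.Helper22.le_pCore' hDn hD (sq_mem_stabD ha)

end

end Cfsg.Agent.Lib.Helper30
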