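import Mathlib.GroupTheory.IsSubnormal
import Mathlib.Algebra.Group.Subgroup.Finite
import Mathlib.GroupTheory.Index
import Mathlib.GroupTheory.GroupAction.ConjAct

set_option autoImplicit false

namespace Cfsg.Agent.Lib.Helper30

universe u

/-- Generic radical lemma: a subnormal subgroup with property `P` lies in the radical `R X`. -/
theorem subnormal_le_radical_aux
    (R : ∀ (X : Type u) [Group X], Subgroup X)
    (P : ∀ (X : Type u) [Group X], Prop)
    (hchar : ∀ (X : Type u) [Group X] [Finite X], (R X).Characteristic)
    (hle : ∀ (X : Type u) [Group X] [Finite X] (N : Subgroup X), N.Normal → P ↥N → N ≤ R X)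
    (hP : ∀ (X : Type u) [Group X] [Finite X], P ↥(R X))
    (hiso : ∀ (X Y : Type u) [Group X] [Group Y], (X ≃* Y) → P X → P Y) :
    ∀ (n : ℕ) (X : Type u) [Group X] [Finite X], Nat.card X = n →
      ∀ Y : Subgroup X, Y.IsSubnormal → P ↥Y → Y ≤ R X := by
  intro n
  induction n using Nat.strong_induction_on with
  | _ n ih =>
    intro X _ _ hn Y hY hc
    by_cases htop : Y = ⊤
    · subst htop
      exact hle X ⊤ inferInstance hc
    · obtain ⟨N, hNn, hYN, hNtop⟩ := hY.exists_normal_and_le_and_lt_top_of_ne htop
      have hlt : Nat.card ↥N < n := by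
        rw [← hn]
        have h1 := Subgroup.card_le_card_group N
        rcases lt_or_eq_of_le h1 with h | h
        · exact h
        · exact absurd (Subgroup.card_eq_iff_eq_top N |>.mp h) hNtop.ne
      have hsub : (Y.subgroupOf N).IsSubnormal := hY.subgroupOf
      have hPs : P ↥(Y.subgroupOf N) := hiso _ _ (Subgroup.subgroupOfEquivOfLe hYN).symm hc
      have h2 := ih (Nat.card ↥N) hlt ↥N rfl (Y.subgroupOf N) hsub hPs
      have h3 : Y = (Y.subgroupOf N).map N.subtype := (Subgroup.map_subgroupOf_eq_of_le hYN).symm
      rw [h3]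
      refine (Subgroup.map_mono h2).trans ?_
      have i0 : (R ↥N).Characteristic := hchar ↥N
      have i1 : ((R ↥N).map N.subtype).Normal := ConjAct.normal_of_characteristic_of_normal
      apply hle X _ i1
      exact hiso _ _ ((R ↥N).equivMapOfInjective N.subtype N.subtype_injective) (hP ↥N)

end Cfsg.Agent.Lib.Helper30
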