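import Cfsg.Prelude.Def_LocalStructure
import Cfsg.Agent.Lib.Helper2.PResidual
import Cfsg.Agent.Lib.Helper30.PGroupBasic

set_option autoImplicit false

namespace Cfsg.Agent.Lib.Helper30

universe u

section
variable {H : Type*} [Group H]

/-- every subgroup of a finite nilpotent group is subnormal -/
theorem isSubnormal_of_isNilpotent [Finite H] [Group.IsNilpotent H] :
    ∀ (n : ℕ) (L : Subgroup H), Nat.card H - Nat.card ↥L = n → L.IsSubnormal := by
  intro n
  induction n using Nat.strong_induction_on with
  | _ n ih =>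
    intro L hn
    by_cases htop : L = ⊤
    · subst htop; exact Subgroup.IsSubnormal.top
    · have hnc : NormalizerCondition H := Group.normalizerCondition_of_isNilpotent
      have hlt : L < Subgroup.normalizer (L : Set H) := hnc L (lt_top_iff_ne_top.mpr htop)
      have hcard : Nat.card ↥L < Nat.card ↥(Subgroup.normalizer (L : Set H)) := by
        refine lt_of_le_of_ne (Subgroup.card_le_of_le hlt.le) ?_
        intro h
        exact hlt.ne (Subgroup.eq_of_le_of_card_ge hlt.le h.ge)
      have hle : Nat.card ↥(Subgroup.normalizer (L : Set H)) ≤ Nat.card H :=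
        Subgroup.card_le_card_group _
      have hN := ih (Nat.card H - Nat.card ↥(Subgroup.normalizer (L : Set H))) (by omega)
        (Subgroup.normalizer (L : Set H)) rfl
      exact Subgroup.IsSubnormal.step L _ hlt.le hN Subgroup.normal_in_normalizer

theorem subnormalClosure_mem [Finite H] (A : Subgroup H) :
    A ≤ Cfsg.subnormalClosure A ∧ (Cfsg.subnormalClosure A).IsSubnormal := by
  classical
  set S : Set (Subgroup H) := {K : Subgroup H | A ≤ K ∧ K.IsSubnormal} with hS
  have hne : S.Nonempty := ⟨⊤, le_top, Subgroup.IsSubnormal.top⟩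
  obtain ⟨M, hM⟩ := (Set.toFinite S).exists_minimal hne
  have hMS : M ∈ S := hM.prop
  have hleast : ∀ B ∈ S, M ≤ B := by
    intro B hB
    have hinf : M ⊓ B ∈ S := ⟨le_inf hMS.1 hB.1, hMS.2.inf hB.2⟩
    exact (hM.le_of_le hinf inf_le_left).trans inf_le_right
  have : Cfsg.subnormalClosure A = M := le_antisymm (sInf_le hMS) (le_sInf hleast)
  rw [this]
  exact hMS

theorem subnormalClosure_le {A L : Subgroup H} (hAL : A ≤ L) (hL : L.IsSubnormal) :
    Cfsg.subnormalClosure A ≤ L := sInf_le ⟨hAL, hL⟩

/-- a subgroup between `A` and `K = subnormalClosure A`, normal in `K`, is all of `K` -/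
theorem eq_subnormalClosure_of_normal [Finite H] {A L : Subgroup H}
    (hAL : A ≤ L) (hLK : L ≤ Cfsg.subnormalClosure A)
    (hL : (L.subgroupOf (Cfsg.subnormalClosure A)).IsSubnormal) : L = Cfsg.subnormalClosure A :=
  le_antisymm hLK
    (subnormalClosure_le hAL (Subgroup.IsSubnormal.trans hLK hL (subnormalClosure_mem A).2))

end

end Cfsg.Agent.Lib.Helper30
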