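import Mathlib

set_option autoImplicit false

open scoped commutatorElement

namespace Cfsg.Agent.Lib.Helper30

universe u

section
variable {X : Type*} [Group X]

/-- `X / D` is perfect -/
def PerfMod (D : Subgroup X) : Prop := ⁅(⊤ : Subgroup X), (⊤ : Subgroup X)⁆ ⊔ D = ⊤

/-- if `X = N₁ D = N₂ D`, `D ≤ K`, `K` normal and `N₁`, `N₂` commute modulo `K`,
then `X/K` is abelian -/
theorem commutator_top_le_of_sup_eq_top {N₁ N₂ D K : Subgroup X} [K.Normal]
    (h₁ : N₁ ⊔ D = ⊤) (h₂ : N₂ ⊔ D = ⊤) [D.Normal] (hDK : D ≤ K)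
    (hN : ∀ a ∈ N₁, ∀ b ∈ N₂, ⁅a, b⁆ ∈ K) :
    ⁅(⊤ : Subgroup X), (⊤ : Subgroup X)⁆ ≤ K := by
  rw [Subgroup.commutator_le]
  intro g _ h _
  have hg : g ∈ N₁ ⊔ D := by rw [h₁]; trivial
  have hh : h ∈ N₂ ⊔ D := by rw [h₂]; trivial
  obtain ⟨a, ha, d, hd, rfl⟩ := Subgroup.mem_sup_of_normal_right.mp hg
  obtain ⟨b, hb, e, he, rfl⟩ := Subgroup.mem_sup_of_normal_right.mp hh
  rw [← QuotientGroup.eq_one_iff (N := K)]
  have hd1 : ((d : X) : X ⧸ K) = 1 := (QuotientGroup.eq_one_iff d).mpr (hDK hd)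
  have he1 : ((e : X) : X ⧸ K) = 1 := (QuotientGroup.eq_one_iff e).mpr (hDK he)
  have hab : (((⁅a, b⁆ : X)) : X ⧸ K) = 1 := (QuotientGroup.eq_one_iff _).mpr (hN a ha b hb)
  have h1 : ((⁅a * d, b * e⁆ : X) : X ⧸ K) = ⁅((a * d : X) : X ⧸ K), ((b * e : X) : X ⧸ K)⁆ :=
    map_commutatorElement (QuotientGroup.mk' K) (a * d) (b * e)
  have h2 : ((⁅a, b⁆ : X) : X ⧸ K) = ⁅((a : X) : X ⧸ K), ((b : X) : X ⧸ K)⁆ :=
    map_commutatorElement (QuotientGroup.mk' K) a b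
  rw [h1, QuotientGroup.mk_mul, QuotientGroup.mk_mul, hd1, he1, mul_one, mul_one, ← h2, hab]

theorem PerfMod.inf_normal {D : Subgroup X} [D.Normal] (hD : PerfMod D)
    {N₁ N₂ : Subgroup X} [N₁.Normal] [N₂.Normal] (h₁ : N₁ ⊔ D = ⊤) (h₂ : N₂ ⊔ D = ⊤) :
    (N₁ ⊓ N₂) ⊔ D = ⊤ := by
  have hK : ⁅(⊤ : Subgroup X), (⊤ : Subgroup X)⁆ ≤ (N₁ ⊓ N₂) ⊔ D := by
    apply commutator_top_le_of_sup_eq_top h₁ h₂ le_sup_right
    intro a ha b hb
    apply Subgroup.mem_sup_left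
    exact Subgroup.commutator_le_inf N₁ N₂ (Subgroup.commutator_mem_commutator ha hb)
  rw [eq_top_iff, ← hD]
  exact sup_le hK le_sup_right

/-- transport of "supplement" statements into a subgroup -/
theorem subgroupOf_sup_subgroupOf_eq_top_iff {U V N : Subgroup X} :
    U.subgroupOf N ⊔ V.subgroupOf N = ⊤ ↔ N ≤ (U ⊓ N) ⊔ (V ⊓ N) := by
  have hmap : (U.subgroupOf N ⊔ V.subgroupOf N).map N.subtype = (U ⊓ N) ⊔ (V ⊓ N) := by
    rw [Subgroup.map_sup, Subgroup.subgroupOf_map_subtype, Subgroup.subgroupOf_map_subtype]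
  constructor
  · intro h
    rw [← hmap, h]
    intro n hn
    exact ⟨⟨n, hn⟩, trivial, rfl⟩
  · intro h
    rw [eq_top_iff]
    intro n _
    have hn : (n : X) ∈ (U.subgroupOf N ⊔ V.subgroupOf N).map N.subtype := by
      rw [hmap]; exact h n.2
    obtain ⟨m, hm, hmn⟩ := hn
    have : m = n := Subtype.ext hmn
    rwa [← this]

/-- Dedekind: a supplement of the normal subgroup `D` inside `N` stays a supplement in `N` -/
theorem supplement_descend {B D N : Subgroup X} [D.Normal] (hBN : B ≤ N) (hBD : B ⊔ D = ⊤) :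
    B.subgroupOf N ⊔ D.subgroupOf N = ⊤ := by
  rw [subgroupOf_sup_subgroupOf_eq_top_iff]
  intro n hn
  have : n ∈ B ⊔ D := by rw [hBD]; trivial
  obtain ⟨b, hb, d, hd, rfl⟩ := Subgroup.mem_sup_of_normal_right.mp this
  have hdN : d ∈ N := by
    have : d = b⁻¹ * (b * d) := by group
    rw [this]; exact N.mul_mem (N.inv_mem (hBN hb)) hn
  exact Subgroup.mul_mem _ (Subgroup.mem_sup_left ⟨hb, hBN hb⟩) (Subgroup.mem_sup_right ⟨hd, hdN⟩)

theorem supplement_ascend {C D N : Subgroup X} (hND : N ⊔ D = ⊤)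
    (h : C.subgroupOf N ⊔ D.subgroupOf N = ⊤) : C ⊔ D = ⊤ := by
  rw [subgroupOf_sup_subgroupOf_eq_top_iff] at h
  rw [eq_top_iff, ← hND]
  apply sup_le _ le_sup_right
  exact h.trans (sup_le_sup inf_le_left inf_le_left)

theorem PerfMod.descend {D N : Subgroup X} [D.Normal] [N.Normal] (hD : PerfMod D)
    (hND : N ⊔ D = ⊤) : PerfMod (D.subgroupOf N) := by
  -- first: ⁅N,N⁆ ⊔ D = ⊤
  have h1 : ⁅N, N⁆ ⊔ D = ⊤ := by
    have hK : ⁅(⊤ : Subgroup X), (⊤ : Subgroup X)⁆ ≤ ⁅N, N⁆ ⊔ D := by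
      apply commutator_top_le_of_sup_eq_top hND hND le_sup_right
      intro a ha b hb
      exact Subgroup.mem_sup_left (Subgroup.commutator_mem_commutator ha hb)
    rw [eq_top_iff, ← hD]
    exact sup_le hK le_sup_right
  have h2 : ⁅N, N⁆ ≤ N := Subgroup.commutator_le_left N N
  have h3 := supplement_descend (N := N) h2 h1
  unfold PerfMod
  have h4 : ⁅(⊤ : Subgroup ↥N), (⊤ : Subgroup ↥N)⁆ = (⁅N, N⁆).subgroupOf N := by
    apply Subgroup.map_injective N.subtype_injective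
    rw [Subgroup.map_commutator, Subgroup.map_subgroupOf_eq_of_le h2, ← MonoidHom.range_eq_map,
      Subgroup.range_subtype]
  rw [h4]
  exact h3

end

theorem card_lt_of_lt_top {X : Type*} [Group X] [Finite X] {M : Subgroup X} (h : M < ⊤) :
    Nat.card ↥M < Nat.card X := by
  have h1 := Subgroup.card_le_card_group M
  rcases lt_or_eq_of_le h1 with h2 | h2
  · exact h2
  · exact absurd (Subgroup.card_eq_iff_eq_top M |>.mp h2) h.ne

/-- normal `N`, subnormal `B`, both supplementing `D` with `X/D` perfect: `B ⊓ N` supplements `D` -/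
theorem supp_inf_normal_aux : ∀ (n : ℕ) (X : Type u) [Group X] [Finite X], Nat.card X = n →
    ∀ (D : Subgroup X) [D.Normal], PerfMod D → ∀ (N : Subgroup X) [N.Normal], N ⊔ D = ⊤ →
    ∀ B : Subgroup X, B.IsSubnormal → B ⊔ D = ⊤ → (B ⊓ N) ⊔ D = ⊤ := by
  intro n
  induction n using Nat.strong_induction_on with
  | _ n ih =>
    intro X _ _ hn D _ hD N _ hND B hB hBD
    by_cases htop : B = ⊤
    · subst htop
      rw [top_inf_eq]; exact hND
    · obtain ⟨M, hMn, hBM, hMtop⟩ := hB.exists_normal_and_le_and_lt_top_of_ne htop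
      have hMD : M ⊔ D = ⊤ := by
        rw [eq_top_iff, ← hBD]; exact sup_le_sup_right hBM D
      have hNM : (N ⊓ M) ⊔ D = ⊤ := hD.inf_normal hND hMD
      have hlt : Nat.card ↥M < n := hn ▸ card_lt_of_lt_top hMtop
      have hD' : PerfMod (D.subgroupOf M) := hD.descend hMD
      have hN' : (N ⊓ M).subgroupOf M ⊔ D.subgroupOf M = ⊤ := supplement_descend inf_le_right hNM
      rw [Subgroup.inf_subgroupOf_right] at hN'
      have hB' : B.subgroupOf M ⊔ D.subgroupOf M = ⊤ := supplement_descend hBM hBD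
      have := ih _ hlt ↥M rfl (D.subgroupOf M) hD' (N.subgroupOf M) hN' (B.subgroupOf M)
        hB.subgroupOf hB'
      have h2 : B.subgroupOf M ⊓ N.subgroupOf M = (B ⊓ N).subgroupOf M := by
        ext x; simp [Subgroup.mem_subgroupOf]
      rw [h2] at this
      exact supplement_ascend hMD this

theorem supp_inf_aux : ∀ (n : ℕ) (X : Type u) [Group X] [Finite X], Nat.card X = n →
    ∀ (D : Subgroup X) [D.Normal], PerfMod D → ∀ B₁ : Subgroup X, B₁.IsSubnormal → B₁ ⊔ D = ⊤ →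
    ∀ B₂ : Subgroup X, B₂.IsSubnormal → B₂ ⊔ D = ⊤ → (B₁ ⊓ B₂) ⊔ D = ⊤ := by
  intro n
  induction n using Nat.strong_induction_on with
  | _ n ih =>
    intro X _ _ hn D _ hD B₁ hB₁ hB₁D B₂ hB₂ hB₂D
    by_cases htop : B₁ = ⊤
    · subst htop
      rw [top_inf_eq]; exact hB₂D
    · obtain ⟨M, hMn, hBM, hMtop⟩ := hB₁.exists_normal_and_le_and_lt_top_of_ne htop
      have hMD : M ⊔ D = ⊤ := by
        rw [eq_top_iff, ← hB₁D]; exact sup_le_sup_right hBM D
      have hlt : Nat.card ↥M < n := hn ▸ card_lt_of_lt_top hMtop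
      have hD' : PerfMod (D.subgroupOf M) := hD.descend hMD
      have hB₂M : (B₂ ⊓ M) ⊔ D = ⊤ := supp_inf_normal_aux _ X rfl D hD M hMD B₂ hB₂ hB₂D
      have hB₁' : B₁.subgroupOf M ⊔ D.subgroupOf M = ⊤ := supplement_descend hBM hB₁D
      have hB₂' : (B₂ ⊓ M).subgroupOf M ⊔ D.subgroupOf M = ⊤ :=
        supplement_descend inf_le_right hB₂M
      rw [Subgroup.inf_subgroupOf_right] at hB₂'
      have := ih _ hlt ↥M rfl (D.subgroupOf M) hD' (B₁.subgroupOf M) hB₁.subgroupOf hB₁'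
        (B₂.subgroupOf M) hB₂.subgroupOf hB₂'
      have h2 : B₁.subgroupOf M ⊓ B₂.subgroupOf M = (B₁ ⊓ B₂).subgroupOf M := by
        ext x; simp [Subgroup.mem_subgroupOf]
      rw [h2] at this
      exact supplement_ascend hMD this

theorem supp_inf {X : Type u} [Group X] [Finite X] (D : Subgroup X) [D.Normal] (hD : PerfMod D)
    {B₁ B₂ : Subgroup X} (hB₁ : B₁.IsSubnormal) (hB₁D : B₁ ⊔ D = ⊤)
    (hB₂ : B₂.IsSubnormal) (hB₂D : B₂ ⊔ D = ⊤) : (B₁ ⊓ B₂) ⊔ D = ⊤ :=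
  supp_inf_aux _ X rfl D hD B₁ hB₁ hB₁D B₂ hB₂ hB₂D

/-- the least subnormal supplement -/
theorem exists_least_subnormal_supplement {X : Type u} [Group X] [Finite X]
    (D : Subgroup X) [D.Normal] (hD : PerfMod D) :
    ∃ B : Subgroup X, B.Normal ∧ B ⊔ D = ⊤ ∧
      ∀ B' : Subgroup X, B'.IsSubnormal → B' ⊔ D = ⊤ → B ≤ B' := by
  classical
  set S : Set (Subgroup X) := {B : Subgroup X | B.IsSubnormal ∧ B ⊔ D = ⊤} with hS
  have hne : S.Nonempty := ⟨⊤, Subgroup.IsSubnormal.top, top_sup_eq _⟩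
  obtain ⟨B, hB⟩ := (Set.toFinite S).exists_minimal hne
  have hBS : B ∈ S := hB.prop
  have hleast : ∀ B' : Subgroup X, B'.IsSubnormal → B' ⊔ D = ⊤ → B ≤ B' := by
    intro B' hB' hB'D
    have hinf : B ⊓ B' ∈ S := ⟨hBS.1.inf hB', supp_inf D hD hBS.1 hBS.2 hB' hB'D⟩
    exact (hB.le_of_le hinf inf_le_left).trans inf_le_right
  refine ⟨B, ?_, hBS.2, hleast⟩
  constructor
  intro x hx g
  -- conjugate of B by g⁻¹ is again in S
  have hconj : B.map (MulAut.conj g⁻¹).toMonoidHom ∈ S := by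
    refine ⟨hBS.1.map (MulAut.conj g⁻¹).surjective, ?_⟩
    have h1 : (B ⊔ D).map (MulAut.conj g⁻¹).toMonoidHom = ⊤ := by
      rw [hBS.2, ← MonoidHom.range_eq_map]
      exact MonoidHom.range_eq_top.mpr (MulAut.conj g⁻¹).surjective
    rw [Subgroup.map_sup] at h1
    have h2 : D.map (MulAut.conj g⁻¹).toMonoidHom = D := by
      ext y
      constructor
      · rintro ⟨d, hd, rfl⟩
        simpa using (inferInstance : D.Normal).conj_mem d hd g⁻¹
      · intro hy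
        refine ⟨g * y * g⁻¹, (inferInstance : D.Normal).conj_mem y hy g, ?_⟩
        simp; group
    rwa [h2] at h1
  have hle := hleast _ hconj.1 hconj.2
  obtain ⟨y, hy, hyx⟩ := hle hx
  have : g * x * g⁻¹ = y := by
    rw [← hyx]; simp; group
  rw [this]; exact hy

end Cfsg.Agent.Lib.Helper30
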