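import Cfsg.Agent.Lib.Helper30.PGroupBasic

set_option autoImplicit false

namespace Cfsg.Agent.Lib.Helper30

variable {S : Type*} [Group S]


/-- a conjugation-invariant family of subgroups of equal order, pairwise meeting trivially -/
structure TIFam (Δ : Set (Subgroup S)) : Prop where
  inv : ∀ s : S, ∀ R ∈ Δ, R.map (MulAut.conj s).toMonoidHom ∈ Δ
  ord : ∀ R ∈ Δ, ∀ T ∈ Δ, Nat.card ↥R = Nat.card ↥T
  ti : ∀ R ∈ Δ, ∀ T ∈ Δ, R = T ∨ R ⊓ T = ⊥

theorem TIFam.le_normalizer_of_le_normalizer [Finite S] (hS : IsPGroup 2 S)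
    {Δ : Set (Subgroup S)} (hΔ : TIFam Δ) {R T : Subgroup S} (hR : R ∈ Δ) (hT : T ∈ Δ)
    (hTR : T ≤ Subgroup.normalizer (R : Set S)) :
    R ≤ Subgroup.normalizer (T : Set S) := by
  have : Fact (Nat.Prime 2) := ⟨Nat.prime_two⟩
  by_contra hRT
  set H : Subgroup S := R ⊔ T with hH
  set N : Subgroup S := Subgroup.normalizer (T : Set S) ⊓ H with hN
  have hTN : T ≤ N := le_inf Subgroup.le_normalizer le_sup_right
  have hNH : N < H := by
    refine lt_of_le_of_ne inf_le_right ?_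
    intro h
    apply hRT
    have : R ≤ N := by rw [h]; exact le_sup_left
    exact this.trans inf_le_left
  obtain ⟨g, hgH, hgN, hgn⟩ := exists_normalizing_not_mem hS hNH
  have hT' : T.map (MulAut.conj g).toMonoidHom ∈ Δ := hΔ.inv g T hT
  have hT'N : T.map (MulAut.conj g).toMonoidHom ≤ N := by
    rintro _ ⟨x, hx, rfl⟩
    exact hgn x (hTN hx)
  have hT'ne : T.map (MulAut.conj g).toMonoidHom ≠ T := by
    intro h
    exact hgN ⟨mem_normalizer_of_map_conj_eq h, hgH⟩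
  have hdisj : Disjoint (T.map (MulAut.conj g).toMonoidHom) T := by
    rw [disjoint_iff]
    rcases hΔ.ti _ hT' _ hT with h | h
    · exact absurd h hT'ne
    · exact h
  have hinj := Subgroup.mul_injective_of_disjoint hdisj
  have hlow : Nat.card ↥T * Nat.card ↥T ≤ Nat.card ↥N := by
    have h1 : Nat.card (↥(T.map (MulAut.conj g).toMonoidHom) × ↥T) ≤ Nat.card ↥N := by
      apply Nat.card_le_card_of_injective
        (fun p : ↥(T.map (MulAut.conj g).toMonoidHom) × ↥T =>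
          (⟨(p.1 : S) * p.2, N.mul_mem (hT'N p.1.2) (hTN p.2.2)⟩ : ↥N))
      intro p q hpq
      apply hinj
      exact congrArg Subtype.val hpq
    rwa [Nat.card_prod, card_map_conj] at h1
  have hupp : Nat.card ↥N ≤ Nat.card ↥(N ⊓ R) * Nat.card ↥T := by
    have h1 : Nat.card ↥N ≤ Nat.card (↥(N ⊓ R) × ↥T) := by
      apply Nat.card_le_card_of_surjective
        (fun p : ↥(N ⊓ R) × ↥T =>
          (⟨(p.1 : S) * p.2, N.mul_mem (Subgroup.mem_inf.mp p.1.2).1 (hTN p.2.2)⟩ : ↥N))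
      rintro ⟨n, hn⟩
      have hnH : n ∈ (↑(R ⊔ T) : Set S) := hNH.le hn
      rw [Subgroup.coe_mul_of_right_le_normalizer_left R T hTR] at hnH
      obtain ⟨r, hr, t, ht, hrt⟩ := hnH
      have hrN : r ∈ N := by
        have : r = n * t⁻¹ := by rw [← hrt]; group
        rw [this]
        exact N.mul_mem hn (N.inv_mem (hTN ht))
      exact ⟨(⟨r, Subgroup.mem_inf.mpr ⟨hrN, hr⟩⟩, ⟨t, ht⟩), Subtype.ext hrt⟩
    rwa [Nat.card_prod] at h1
  have hTpos : 0 < Nat.card ↥T := Nat.card_pos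
  have h3 : Nat.card ↥T ≤ Nat.card ↥(N ⊓ R) :=
    Nat.le_of_mul_le_mul_right (hlow.trans hupp) hTpos
  have h4 : N ⊓ R = R := by
    apply Subgroup.eq_of_le_of_card_ge inf_le_right
    rw [hΔ.ord R hR T hT]
    exact h3
  apply hRT
  rw [← h4]
  exact inf_le_left.trans inf_le_left

theorem TIFam.commute_of_le_normalizer [Finite S] (hS : IsPGroup 2 S)
    {Δ : Set (Subgroup S)} (hΔ : TIFam Δ) {R T : Subgroup S} (hR : R ∈ Δ) (hT : T ∈ Δ)
    (hne : R ≠ T) (hTR : T ≤ Subgroup.normalizer (R : Set S)) :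
    ∀ r ∈ R, ∀ t ∈ T, r * t = t * r := by
  have hRT := hΔ.le_normalizer_of_le_normalizer hS hR hT hTR
  have hbot : R ⊓ T = ⊥ := by
    rcases hΔ.ti R hR T hT with h | h
    · exact absurd h hne
    · exact h
  intro r hr t ht
  have h1 : r * t * r⁻¹ * t⁻¹ ∈ R := by
    have : t * r⁻¹ * t⁻¹ ∈ R :=
      (Subgroup.mem_normalizer_iff.mp (hTR ht) r⁻¹).mp (R.inv_mem hr)
    have h2 : r * t * r⁻¹ * t⁻¹ = r * (t * r⁻¹ * t⁻¹) := by group
    rw [h2]; exact R.mul_mem hr this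
  have h2 : r * t * r⁻¹ * t⁻¹ ∈ T := by
    have : r * t * r⁻¹ ∈ T := (Subgroup.mem_normalizer_iff.mp (hRT hr) t).mp ht
    exact T.mul_mem this (T.inv_mem ht)
  have h3 : r * t * r⁻¹ * t⁻¹ ∈ R ⊓ T := ⟨h1, h2⟩
  rw [hbot, Subgroup.mem_bot] at h3
  calc r * t = (r * t * r⁻¹ * t⁻¹) * (t * r) := by group
    _ = t * r := by rw [h3, one_mul]



/-- every `h ∈ H` either normalizes `R` or moves it to an elementwise commuting conjugate
meeting `R` trivially -/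
def Good (R H : Subgroup S) : Prop :=
  ∀ h ∈ H, h ∉ Subgroup.normalizer (R : Set S) →
    (∀ x ∈ R, ∀ y ∈ R, x * (h * y * h⁻¹) = (h * y * h⁻¹) * x) ∧
      (∀ x ∈ R, h * x * h⁻¹ ∈ R → x = 1)

theorem comm_pow_left {r t : S} (hc : r * (t * r⁻¹ * t⁻¹) = (t * r⁻¹ * t⁻¹) * r) (k : ℕ) :
    (r * t * r⁻¹ * t⁻¹) ^ k = r ^ k * (t * (r⁻¹) ^ k * t⁻¹) := by
  have h1 : r * t * r⁻¹ * t⁻¹ = r * (t * r⁻¹ * t⁻¹) := by group
  have hc' : Commute r (t * r⁻¹ * t⁻¹) := hc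
  rw [h1, hc'.mul_pow, conj_pow]

theorem comm_pow_right {r t : S} (hc : t⁻¹ * (r * t * r⁻¹) = (r * t * r⁻¹) * t⁻¹) (k : ℕ) :
    (r * t * r⁻¹ * t⁻¹) ^ k = (r * t ^ k * r⁻¹) * (t⁻¹) ^ k := by
  have hc' : Commute (r * t * r⁻¹) t⁻¹ := hc.symm
  rw [hc'.mul_pow, conj_pow]

theorem orderOf_eq_of_good {R T H : Subgroup S} (hR : Good R H) (hT : Good T H)
    (hRH : R ≤ H) (hTH : T ≤ H) {r t : S} (hr : r ∈ R) (ht : t ∈ T)
    (hrT : r ∉ Subgroup.normalizer (T : Set S)) (htR : t ∉ Subgroup.normalizer (R : Set S)) :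
    orderOf (r * t * r⁻¹ * t⁻¹) = orderOf r ∧ orderOf (r * t * r⁻¹ * t⁻¹) = orderOf t := by
  obtain ⟨h1, h2⟩ := hR t (hTH ht) htR
  obtain ⟨h3, h4⟩ := hT r (hRH hr) hrT
  have hcl := comm_pow_left (h1 r hr r⁻¹ (R.inv_mem hr))
  have hcr := comm_pow_right (h3 t⁻¹ (T.inv_mem ht) t ht)
  constructor
  · rw [orderOf_eq_orderOf_iff]
    intro k
    rw [hcl k]
    constructor
    · intro h
      have h5 : t * (r⁻¹) ^ k * t⁻¹ = (r ^ k)⁻¹ := eq_inv_of_mul_eq_one_right h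
      have h6 : (r⁻¹) ^ k = 1 := by
        apply h2 _ (R.pow_mem (R.inv_mem hr) k)
        rw [h5]; exact R.inv_mem (R.pow_mem hr k)
      rw [inv_pow, inv_eq_one] at h6
      exact h6
    · intro h
      rw [inv_pow, h]; group
  · rw [orderOf_eq_orderOf_iff]
    intro k
    rw [hcr k]
    constructor
    · intro h
      have h5 : r * t ^ k * r⁻¹ = ((t⁻¹) ^ k)⁻¹ := eq_inv_of_mul_eq_one_left h
      rw [inv_pow, inv_inv] at h5
      apply h4 _ (T.pow_mem ht k)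
      rw [h5]; exact T.pow_mem ht k
    · intro h
      rw [inv_pow, h]; group

theorem orderOf_two_pow (hS : IsPGroup 2 S) (g : S) : ∃ e : ℕ, orderOf g = 2 ^ e := by
  obtain ⟨k, hk⟩ := hS g
  obtain ⟨e, -, he⟩ := (Nat.dvd_prime_pow Nat.prime_two).mp (orderOf_dvd_of_pow_eq_one hk)
  exact ⟨e, he⟩

theorem sq_eq_one_of_good (hS : IsPGroup 2 S) {R T H : Subgroup S} (hR : Good R H) (hT : Good T H)
    (hRH : R ≤ H) (hTH : T ≤ H) {r t : S} (hr : r ∈ R) (ht : t ∈ T)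
    (hrT : r ∉ Subgroup.normalizer (T : Set S)) (htR : t ∉ Subgroup.normalizer (R : Set S)) :
    r ^ 2 = 1 ∧ t ^ 2 = 1 := by
  obtain ⟨ho1, ho2⟩ := orderOf_eq_of_good hR hT hRH hTH hr ht hrT htR
  obtain ⟨e, he⟩ := orderOf_two_pow hS r
  have hrt : orderOf r = orderOf t := ho1.symm.trans ho2
  have hr1 : r ≠ 1 := by
    intro h; apply hrT; rw [h]; exact Subgroup.one_mem _
  have he0 : e ≠ 0 := by
    intro h
    rw [h, pow_zero, orderOf_eq_one_iff] at he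
    exact hr1 he
  have he1 : e = 1 := by
    by_contra hne
    have he2 : 2 ≤ e := by omega
    set k : ℕ := 2 ^ (e - 1) with hk
    have h2k : 2 * k = 2 ^ e := by
      rw [hk, ← pow_succ']; congr 1; omega
    have hkpos : 0 < k := by positivity
    have hklt : k < orderOf r := by rw [he, ← h2k]; omega
    have hk2 : 2 ≤ k := by
      have : 2 ^ 1 ≤ 2 ^ (e - 1) := Nat.pow_le_pow_right (by norm_num) (by omega)
      simpa [hk] using this
    obtain ⟨h1, h2⟩ := hR t (hTH ht) htR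
    obtain ⟨h3, h4⟩ := hT r (hRH hr) hrT
    have hcl := comm_pow_left (h1 r hr r⁻¹ (R.inv_mem hr)) k
    have hcr := comm_pow_right (h3 t⁻¹ (T.inv_mem ht) t ht) k
    have hu : t ^ k ∈ T := T.pow_mem ht k
    have hu2 : (t ^ k) ^ 2 = 1 := by
      rw [← pow_mul, mul_comm, h2k, ← he, hrt]; exact pow_orderOf_eq_one t
    have hu1 : t ^ k ≠ 1 := pow_ne_one_of_lt_orderOf hkpos.ne' (hrt ▸ hklt)
    have hrk : r ^ k ≠ 1 := pow_ne_one_of_lt_orderOf hkpos.ne' hklt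
    by_cases huR : t ^ k ∈ Subgroup.normalizer (R : Set S)
    · -- then c ^ k lies in R
      have hcR : (r * t * r⁻¹ * t⁻¹) ^ k ∈ R := by
        rw [hcr, inv_pow]
        have h5 : t ^ k * r⁻¹ * (t ^ k)⁻¹ ∈ R :=
          (Subgroup.mem_normalizer_iff.mp huR r⁻¹).mp (R.inv_mem hr)
        have h6 : r * t ^ k * r⁻¹ * (t ^ k)⁻¹ = r * (t ^ k * r⁻¹ * (t ^ k)⁻¹) := by group
        rw [h6]; exact R.mul_mem hr h5
      have h7 : t * (r⁻¹) ^ k * t⁻¹ = (r ^ k)⁻¹ * (r * t * r⁻¹ * t⁻¹) ^ k := by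
        rw [hcl]; group
      have h8 : (r⁻¹) ^ k = 1 := by
        apply h2 _ (R.pow_mem (R.inv_mem hr) k)
        rw [h7]; exact R.mul_mem (R.inv_mem (R.pow_mem hr k)) hcR
      rw [inv_pow, inv_eq_one] at h8
      exact hrk h8
    · have := (orderOf_eq_of_good hR hT hRH hTH hr hu hrT huR)
      have h9 : orderOf r = orderOf (t ^ k) := this.1.symm.trans this.2
      have h10 : orderOf (t ^ k) = 2 := orderOf_eq_prime hu2 hu1
      rw [h9, h10] at hklt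
      omega
  subst he1
  rw [pow_one] at he
  refine ⟨?_, ?_⟩
  · rw [← he]; exact pow_orderOf_eq_one r
  · rw [← he, hrt]; exact pow_orderOf_eq_one t

theorem false_of_good (hS : IsPGroup 2 S) {R T H : Subgroup S} (hR : Good R H) (hT : Good T H)
    (hRH : R ≤ H) (hTH : T ≤ H) {y x w : S} (hy : y ∈ R) (hx : x ∈ T) (hw : w ∈ T)
    (hyT : y ∉ Subgroup.normalizer (T : Set S)) (hxR : x ∉ Subgroup.normalizer (R : Set S))
    (hw2 : w ^ 2 ≠ 1) : False := by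
  have hwR : w ∈ Subgroup.normalizer (R : Set S) := by
    by_contra h
    exact hw2 (sq_eq_one_of_good hS hR hT hRH hTH hy hw hyT h).2
  have hxwR : x * w ∉ Subgroup.normalizer (R : Set S) := by
    intro h
    apply hxR
    have : x = (x * w) * w⁻¹ := by group
    rw [this]
    exact Subgroup.mul_mem _ h (Subgroup.inv_mem _ hwR)
  have hx2 : x ^ 2 = 1 := (sq_eq_one_of_good hS hR hT hRH hTH hy hx hyT hxR).2
  have hxw2 : (x * w) ^ 2 = 1 :=
    (sq_eq_one_of_good hS hR hT hRH hTH hy (T.mul_mem hx hw) hyT hxwR).2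
  have hxinv : x⁻¹ = x := by
    rw [pow_two] at hx2
    exact inv_eq_of_mul_eq_one_left hx2
  -- x inverts w
  have hinvw : x * w⁻¹ * x⁻¹ = w := by
    rw [pow_two] at hxw2
    have h1 : w⁻¹ = x * w * x := by
      have : w * (x * w * x) = 1 := by
        have h2 : x * (w * (x * w * x)) * x⁻¹ = x * w * (x * w) * (x * x⁻¹) := by group
        have h3 : x * (w * (x * w * x)) * x⁻¹ = 1 := by
          rw [h2, hxw2]; group
        have h4 : w * (x * w * x) = x⁻¹ * (x * (w * (x * w * x)) * x⁻¹) * x := by group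
        rw [h4, h3]; group
      exact inv_eq_of_mul_eq_one_right this
    rw [h1, hxinv]
    have hxx : x * x = 1 := by rw [← pow_two]; exact hx2
    calc x * (x * w * x) * x = (x * x) * w * (x * x) := by group
      _ = w := by rw [hxx]; group
  obtain ⟨h1, h2⟩ := hR x (hTH hx) hxR
  obtain ⟨h3, h4⟩ := hT y (hRH hy) hyT
  set a : S := y * w * y⁻¹ * w⁻¹ with ha
  have haR : a ∈ R := by
    have h5 : w * y⁻¹ * w⁻¹ ∈ R := (Subgroup.mem_normalizer_iff.mp hwR y⁻¹).mp (R.inv_mem hy)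
    have h6 : a = y * (w * y⁻¹ * w⁻¹) := by rw [ha]; group
    rw [h6]; exact R.mul_mem hy h5
  have hapow : ∀ k : ℕ, a ^ k = (y * w ^ k * y⁻¹) * (w⁻¹) ^ k :=
    comm_pow_right (h3 w⁻¹ (T.inv_mem hw) w hw)
  -- x a x⁻¹ = d * w where d = y w y⁻¹
  have hxa : x * a * x⁻¹ = (y * w * y⁻¹) * w := by
    have hxd : x * (y * w * y⁻¹) = (y * w * y⁻¹) * x := h3 x hx w hw
    calc x * a * x⁻¹ = (x * (y * w * y⁻¹)) * w⁻¹ * x⁻¹ := by rw [ha]; group
      _ = ((y * w * y⁻¹) * x) * w⁻¹ * x⁻¹ := by rw [hxd]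
      _ = (y * w * y⁻¹) * (x * w⁻¹ * x⁻¹) := by group
      _ = (y * w * y⁻¹) * w := by rw [hinvw]
  have hw2eq : w ^ 2 = (x * a * x⁻¹) * a⁻¹ := by
    have hwd : w * (y * w * y⁻¹) = (y * w * y⁻¹) * w := h3 w hw w hw
    rw [hxa, ha]
    calc w ^ 2 = w * w := pow_two w
      _ = w * (w * (y * w * y⁻¹)) * (y * w * y⁻¹)⁻¹ := by group
      _ = w * ((y * w * y⁻¹) * w) * (y * w * y⁻¹)⁻¹ := by rw [hwd]
      _ = (w * (y * w * y⁻¹)) * w * (y * w * y⁻¹)⁻¹ := by group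
      _ = ((y * w * y⁻¹) * w) * w * (y * w * y⁻¹)⁻¹ := by rw [hwd]
      _ = y * w * y⁻¹ * w * (y * w * y⁻¹ * w⁻¹)⁻¹ := by group
  have hcomm : Commute (x * a * x⁻¹) a⁻¹ := (h1 a⁻¹ (R.inv_mem haR) a haR).symm
  have hw2pow : ∀ k : ℕ, (w ^ 2) ^ k = (x * a ^ k * x⁻¹) * (a ^ k)⁻¹ := by
    intro k
    rw [hw2eq, hcomm.mul_pow, conj_pow, inv_pow]
  obtain ⟨f, hf⟩ := orderOf_two_pow hS w
  have hf2 : 2 ≤ f := by
    by_contra hlt
    apply hw2
    have hdvd : orderOf w ∣ 2 := by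
      rw [hf]
      have : f ≤ 1 := by omega
      calc 2 ^ f ∣ 2 ^ 1 := pow_dvd_pow 2 this
        _ = 2 := pow_one 2
    exact orderOf_dvd_iff_pow_eq_one.mp hdvd
  set k : ℕ := 2 ^ (f - 1) with hk
  have h2k : 2 * k = 2 ^ f := by
    rw [hk, ← pow_succ']; congr 1; omega
  have hkpos : 0 < k := by positivity
  have hklt : k < orderOf w := by rw [hf, ← h2k]; omega
  have hwk : w ^ k ≠ 1 := pow_ne_one_of_lt_orderOf hkpos.ne' hklt
  have h5 : (w ^ 2) ^ k = 1 := by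
    rw [← pow_mul, h2k, ← hf]; exact pow_orderOf_eq_one w
  rw [hw2pow k] at h5
  have h6 : x * a ^ k * x⁻¹ = a ^ k := by
    have := eq_inv_of_mul_eq_one_left h5
    rwa [inv_inv] at this
  have h7 : a ^ k = 1 := by
    apply h2 _ (R.pow_mem haR k)
    rw [h6]; exact R.pow_mem haR k
  rw [hapow k] at h7
  have h8 : y * w ^ k * y⁻¹ = w ^ k := by
    have := eq_inv_of_mul_eq_one_left h7
    rwa [inv_pow, inv_inv] at this
  apply hwk
  apply h4 _ (T.pow_mem hw k)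
  rw [h8]; exact T.pow_mem hw k

theorem TIFam.good_of_ih [Finite S] (hS : IsPGroup 2 S)
    {Δ : Set (Subgroup S)} (hΔ : TIFam Δ) {H : Subgroup S}
    (ih : ∀ M : Subgroup S, Nat.card ↥M < Nat.card ↥H → ∀ R ∈ Δ, ∀ T ∈ Δ, R ≤ M → T ≤ M → R ≠ T →
      ∀ r ∈ R, ∀ t ∈ T, r * t = t * r)
    {R : Subgroup S} (hR : R ∈ Δ) (hRH : R < H) : Good R H := by
  have : Fact (Nat.Prime 2) := ⟨Nat.prime_two⟩
  obtain ⟨M, hRM, hMH, hMn⟩ := exists_normal_proper_of_lt hS hRH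
  have hMcard : Nat.card ↥M < Nat.card ↥H := by
    refine lt_of_le_of_ne (Subgroup.card_le_of_le hMH.le) ?_
    intro h
    exact hMH.ne (Subgroup.eq_of_le_of_card_ge hMH.le h.ge)
  intro h hh hhn
  have hR' : R.map (MulAut.conj h).toMonoidHom ∈ Δ := hΔ.inv h R hR
  have hne : R ≠ R.map (MulAut.conj h).toMonoidHom := by
    intro heq
    exact hhn (mem_normalizer_of_map_conj_eq heq.symm)
  have hR'M : R.map (MulAut.conj h).toMonoidHom ≤ M := by
    rintro _ ⟨x, hx, rfl⟩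
    exact hMn h hh x (hRM hx)
  constructor
  · intro x hx y hy
    exact ih M hMcard R hR _ hR' hRM hR'M hne x hx _ (conj_mem_map_conj_iff.mpr hy)
  · intro x hx hx'
    have hbot : R ⊓ R.map (MulAut.conj h).toMonoidHom = ⊥ := by
      rcases hΔ.ti R hR _ hR' with h1 | h1
      · exact absurd h1 hne
      · exact h1
    have h2 : h * x * h⁻¹ ∈ R ⊓ R.map (MulAut.conj h).toMonoidHom :=
      ⟨hx', conj_mem_map_conj_iff.mpr hx⟩
    rw [hbot, Subgroup.mem_bot] at h2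
    have : x = h⁻¹ * (h * x * h⁻¹) * h := by group
    rw [this, h2]; group

theorem TIFam.commute_aux [Finite S] (hS : IsPGroup 2 S)
    {Δ : Set (Subgroup S)} (hΔ : TIFam Δ) (hsq : ∀ R ∈ Δ, ∃ r ∈ R, r ^ 2 ≠ 1) :
    ∀ (n : ℕ) (H : Subgroup S), Nat.card ↥H = n → ∀ R ∈ Δ, ∀ T ∈ Δ, R ≤ H → T ≤ H → R ≠ T →
      ∀ r ∈ R, ∀ t ∈ T, r * t = t * r := by
  intro n
  induction n using Nat.strong_induction_on with
  | _ n ih =>
    intro H hHn R hR T hT hRH hTH hne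
    subst hHn
    have ih' : ∀ M : Subgroup S, Nat.card ↥M < Nat.card ↥H → ∀ R ∈ Δ, ∀ T ∈ Δ, R ≤ M → T ≤ M →
        R ≠ T → ∀ r ∈ R, ∀ t ∈ T, r * t = t * r := fun M hM => ih _ hM M rfl
    have hRlt : R < H := by
      refine lt_of_le_of_ne hRH ?_
      intro h
      apply hne
      symm
      apply Subgroup.eq_of_le_of_card_ge (h ▸ hTH)
      exact (hΔ.ord R hR T hT).le
    have hTlt : T < H := by
      refine lt_of_le_of_ne hTH ?_
      intro h
      apply hne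
      apply Subgroup.eq_of_le_of_card_ge (h ▸ hRH)
      exact (hΔ.ord R hR T hT).ge
    have hgR : Good R H := hΔ.good_of_ih hS ih' hR hRlt
    have hgT : Good T H := hΔ.good_of_ih hS ih' hT hTlt
    by_cases hTR : T ≤ Subgroup.normalizer (R : Set S)
    · exact hΔ.commute_of_le_normalizer hS hR hT hne hTR
    by_cases hRT : R ≤ Subgroup.normalizer (T : Set S)
    · intro r hr t ht
      exact (hΔ.commute_of_le_normalizer hS hT hR hne.symm hRT t ht r hr).symm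
    exfalso
    obtain ⟨x, hxT, hxR⟩ := SetLike.not_le_iff_exists.mp hTR
    obtain ⟨y, hyR, hyT⟩ := SetLike.not_le_iff_exists.mp hRT
    obtain ⟨w, hwT, hw2⟩ := hsq T hT
    exact false_of_good hS hgR hgT hRH hTH hyR hxT hwT hyT hxR hw2

theorem TIFam.commute [Finite S] (hS : IsPGroup 2 S)
    {Δ : Set (Subgroup S)} (hΔ : TIFam Δ) (hsq : ∀ R ∈ Δ, ∃ r ∈ R, r ^ 2 ≠ 1)
    {R T : Subgroup S} (hR : R ∈ Δ) (hT : T ∈ Δ) (hne : R ≠ T) :
    ∀ r ∈ R, ∀ t ∈ T, r * t = t * r :=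
  hΔ.commute_aux hS hsq _ ⊤ rfl R hR T hT le_top le_top hne

end Cfsg.Agent.Lib.Helper30
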