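import Cfsg.Agent.Lib.Helper30.TIFamily

set_option autoImplicit false

namespace Cfsg.Agent.Lib.Helper30

theorem subgroupOf_map_conj {X : Type*} [Group X] (S₀ R : Subgroup X) (s : ↥S₀) :
    (R.subgroupOf S₀).map (MulAut.conj s).toMonoidHom =
      (R.map (MulAut.conj (s : X)).toMonoidHom).subgroupOf S₀ := by
  ext y
  rw [Subgroup.mem_subgroupOf]
  constructor
  · rintro ⟨r, hr, rfl⟩
    have hr' : (r : X) ∈ R := Subgroup.mem_subgroupOf.mp hr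
    exact ⟨(r : X), hr', by simp⟩
  · rintro ⟨r, hr, hry⟩
    have hrS : r ∈ S₀ := by
      have h1 : r = (s : X)⁻¹ * (y : X) * (s : X) := by
        rw [← hry]; simp [mul_assoc]
      rw [h1]
      exact S₀.mul_mem (S₀.mul_mem (S₀.inv_mem s.2) y.2) s.2
    refine ⟨⟨r, hrS⟩, ?_, ?_⟩
    · rw [SetLike.mem_coe, Subgroup.mem_subgroupOf]; exact hr
    · apply Subtype.ext
      rw [← hry]
      simp

/-- The TI-family commuting theorem, for a family of subgroups of a 2-subgroup `S₀` of a group. -/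
theorem commute_of_tiFam_subgroup {X : Type*} [Group X] (S₀ : Subgroup X) [Finite ↥S₀]
    (hS : IsPGroup 2 ↥S₀) (Δ : Set (Subgroup X)) (hle : ∀ R ∈ Δ, R ≤ S₀)
    (hinv : ∀ s ∈ S₀, ∀ R ∈ Δ, R.map (MulAut.conj s).toMonoidHom ∈ Δ)
    (hord : ∀ R ∈ Δ, ∀ T ∈ Δ, Nat.card ↥R = Nat.card ↥T)
    (hti : ∀ R ∈ Δ, ∀ T ∈ Δ, R = T ∨ R ⊓ T = ⊥)
    (hsq : ∀ R ∈ Δ, ∃ r ∈ R, r ^ 2 ≠ 1) :
    ∀ R ∈ Δ, ∀ T ∈ Δ, R ≠ T → ∀ r ∈ R, ∀ t ∈ T, r * t = t * r := by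
  set Δ' : Set (Subgroup ↥S₀) := {R' | ∃ R ∈ Δ, R' = R.subgroupOf S₀} with hΔ'
  have hfam : TIFam Δ' := by
    refine ⟨?_, ?_, ?_⟩
    · rintro s _ ⟨R, hR, rfl⟩
      exact ⟨R.map (MulAut.conj (s : X)).toMonoidHom, hinv s s.2 R hR, subgroupOf_map_conj S₀ R s⟩
    · rintro _ ⟨R, hR, rfl⟩ _ ⟨T, hT, rfl⟩
      rw [Nat.card_congr (Subgroup.subgroupOfEquivOfLe (hle R hR)).toEquiv,
        Nat.card_congr (Subgroup.subgroupOfEquivOfLe (hle T hT)).toEquiv]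
      exact hord R hR T hT
    · rintro _ ⟨R, hR, rfl⟩ _ ⟨T, hT, rfl⟩
      rcases hti R hR T hT with h | h
      · left; rw [h]
      · right
        rw [eq_bot_iff]
        intro y hy
        have h1 : (y : X) ∈ R ⊓ T :=
          ⟨Subgroup.mem_subgroupOf.mp hy.1, Subgroup.mem_subgroupOf.mp hy.2⟩
        rw [h, Subgroup.mem_bot] at h1
        rw [Subgroup.mem_bot]
        exact Subtype.ext h1
  have hsq' : ∀ R' ∈ Δ', ∃ r ∈ R', r ^ 2 ≠ 1 := by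
    rintro _ ⟨R, hR, rfl⟩
    obtain ⟨r, hr, hr2⟩ := hsq R hR
    refine ⟨⟨r, hle R hR hr⟩, Subgroup.mem_subgroupOf.mpr hr, ?_⟩
    intro h
    apply hr2
    have := congrArg Subtype.val h
    simpa using this
  intro R hR T hT hne r hr t ht
  have hR' : R.subgroupOf S₀ ∈ Δ' := ⟨R, hR, rfl⟩
  have hT' : T.subgroupOf S₀ ∈ Δ' := ⟨T, hT, rfl⟩
  have hne' : R.subgroupOf S₀ ≠ T.subgroupOf S₀ := by
    intro h
    apply hne
    rw [Subgroup.subgroupOf_inj, inf_eq_left.mpr (hle R hR), inf_eq_left.mpr (hle T hT)] at h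
    exact h
  have := hfam.commute hS hsq' hR' hT' hne' ⟨r, hle R hR hr⟩ (Subgroup.mem_subgroupOf.mpr hr)
    ⟨t, hle T hT ht⟩ (Subgroup.mem_subgroupOf.mpr ht)
  exact congrArg Subtype.val this

end Cfsg.Agent.Lib.Helper30
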