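import Mathlib
import Cfsg.Prelude.Def_Local
import Cfsg.Agent.Lib.Helper21.Components
import Cfsg.Agent.Lib.Helper22.FStar
import Cfsg.Agent.Lib.Helper22.Fitting
import Cfsg.Agent.Lib.Helper22.CharP
import Cfsg.Agent.Lib.Helper46.Subnormal
import Cfsg.Agent.Lib.Helper62.SnIn
import Cfsg.Agent.Lib.Helper62.Conj
import Cfsg.Agent.Lib.Helper87.PCore
import Cfsg.Agent.Lib.Helper30.BenderPair

set_option autoImplicit false

/-!
A Thompson--Wielandt type theorem for a pair of conjugate core-free maximal subgroups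
`M`, `M'`, with first cores `K`, `K'` and second cores `A`, `A'`.
-/

namespace Cfsg.Agent.Lib.Helper30

open Subgroup
open scoped commutatorElement
open Cfsg.Agent.Lib.Helper22
open Cfsg.Agent.Lib.Helper21
open Cfsg.Agent.Lib.Helper62

universe u

section data

variable {G : Type u} [Group G]

/-- The configuration: `M`, `M'` with the normalizer property, first cores `K`, `K'` and
nontrivial normal subgroups `A ⊴ M`, `A' ⊴ M'` inside `K ⊓ K'`. -/
structure TWData (M M' K K' A A' : Subgroup G) : Prop where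
  normM : ∀ X : Subgroup G, X ≠ ⊥ → X ≤ M → M ≤ normalizer (X : Set G) →
    normalizer (X : Set G) ≤ M
  normM' : ∀ X : Subgroup G, X ≠ ⊥ → X ≤ M' → M' ≤ normalizer (X : Set G) →
    normalizer (X : Set G) ≤ M'
  both : ∀ X : Subgroup G, M ≤ normalizer (X : Set G) → M' ≤ normalizer (X : Set G) →
    X ≤ M ⊓ M' → X = ⊥
  K_le : K ≤ M ⊓ M'
  K_norm : M ≤ normalizer (K : Set G)
  K_core : ∀ m ∈ M, (∀ n ∈ M, n * m * n⁻¹ ∈ M') → m ∈ K
  K'_le : K' ≤ M ⊓ M'
  K'_norm : M' ≤ normalizer (K' : Set G)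
  K'_core : ∀ m ∈ M', (∀ n ∈ M', n * m * n⁻¹ ∈ M) → m ∈ K'
  A_le : A ≤ K ⊓ K'
  A_norm : M ≤ normalizer (A : Set G)
  A_ne : A ≠ ⊥
  A'_le : A' ≤ K ⊓ K'
  A'_norm : M' ≤ normalizer (A' : Set G)
  A'_ne : A' ≠ ⊥

variable {M M' K K' A A' : Subgroup G}

theorem TWData.symm (D : TWData M M' K K' A A') : TWData M' M K' K A' A where
  normM := D.normM'
  normM' := D.normM
  both := fun X h1 h2 h3 => D.both X h2 h1 (by rwa [inf_comm])
  K_le := by rw [inf_comm]; exact D.K'_le
  K_norm := D.K'_norm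
  K_core := D.K'_core
  K'_le := by rw [inf_comm]; exact D.K_le
  K'_norm := D.K_norm
  K'_core := D.K_core
  A_le := by rw [inf_comm]; exact D.A'_le
  A_norm := D.A'_norm
  A_ne := D.A'_ne
  A'_le := by rw [inf_comm]; exact D.A_le
  A'_norm := D.A_norm
  A'_ne := D.A_ne

theorem TWData.K_leM (D : TWData M M' K K' A A') : K ≤ M := D.K_le.trans inf_le_left
theorem TWData.K_leM' (D : TWData M M' K K' A A') : K ≤ M' := D.K_le.trans inf_le_right
theorem TWData.K'_leM (D : TWData M M' K K' A A') : K' ≤ M := D.K'_le.trans inf_le_left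
theorem TWData.K'_leM' (D : TWData M M' K K' A A') : K' ≤ M' := D.K'_le.trans inf_le_right

theorem TWData.K_le_normalizer_inf (D : TWData M M' K K' A A') :
    K ≤ normalizer ((K ⊓ K' : Subgroup G) : Set G) :=
  le_normalizer_inf le_normalizer (D.K_leM'.trans D.K'_norm)

theorem TWData.K'_le_normalizer_inf (D : TWData M M' K K' A A') :
    K' ≤ normalizer ((K ⊓ K' : Subgroup G) : Set G) :=
  le_normalizer_inf (D.K'_leM.trans D.K_norm) le_normalizer

theorem TWData.centralizer_A_le (D : TWData M M' K K' A A') :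
    centralizer (A : Set G) ≤ M :=
  (Subgroup.centralizer_le_normalizer _).trans
    (D.normM A D.A_ne ((D.A_le.trans inf_le_left).trans D.K_leM) D.A_norm)

theorem TWData.centralizer_A'_le (D : TWData M M' K K' A A') :
    centralizer (A' : Set G) ≤ M' :=
  D.symm.centralizer_A_le

/-- Elements of `M` centralizing `K` lie in `K`. -/
theorem TWData.mem_K_of_centralizes (D : TWData M M' K K' A A') {x : G} (hxM : x ∈ M)
    (hx : x ∈ centralizer (K : Set G)) : x ∈ K := by
  apply D.K_core x hxM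
  intro n hn
  apply D.centralizer_A'_le
  rw [mem_centralizer_iff]
  intro a ha
  have haK : a ∈ K := (D.A'_le.trans inf_le_left) ha
  have h1 : n⁻¹ * a * n⁻¹⁻¹ ∈ K :=
    (mem_normalizer_iff.mp (D.K_norm (M.inv_mem hn)) a).mp haK
  have h2 := (mem_centralizer_iff.mp hx) _ h1
  have e1 : a * (n * x * n⁻¹) = n * ((n⁻¹ * a * n⁻¹⁻¹) * x) * n⁻¹ := by group
  have e2 : n * x * n⁻¹ * a = n * (x * (n⁻¹ * a * n⁻¹⁻¹)) * n⁻¹ := by group
  rw [e1, e2, h2]

end data

section components

variable {G : Type u} [Group G] {M M' K K' A A' : Subgroup G}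

/-- Every component of `M` lies in `K`. -/
theorem TWData.component_le_K (D : TWData M M' K K' A A') {J : Subgroup ↥M}
    (hJ : Cfsg.IsComponent J) : J.map M.subtype ≤ K := by
  have hKn : (K.subgroupOf M).Normal :=
    (Subgroup.normal_subgroupOf_iff_le_normalizer D.K_leM).mpr D.K_norm
  have hJn : J ≤ normalizer ((K.subgroupOf M : Subgroup ↥M) : Set ↥M) := by
    rw [Subgroup.normalizer_eq_top_iff.mpr hKn]; exact le_top
  rcases bp_component_le_or_commutes hJ hJn with h | h
  · have := Subgroup.map_mono (f := M.subtype) h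
    rwa [Subgroup.map_subgroupOf_eq_of_le D.K_leM] at this
  · have hc : ⁅J.map M.subtype, K⁆ = ⊥ := by
      have := congrArg (Subgroup.map M.subtype) h
      rwa [map_commutator, Subgroup.map_subgroupOf_eq_of_le D.K_leM, Subgroup.map_bot] at this
    intro x hx
    exact D.mem_K_of_centralizes (Subgroup.map_subtype_le _ hx)
      (Subgroup.commutator_eq_bot_iff_le_centralizer.mp hc hx)

/-- Every component of `M` lies in `K ⊓ K'`. -/
theorem TWData.component_le_inf (D : TWData M M' K K' A A') {J : Subgroup ↥M}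
    (hJ : Cfsg.IsComponent J) : J.map M.subtype ≤ K ⊓ K' := by
  have hJK := D.component_le_K hJ
  have hJn : J ≤ normalizer (((K ⊓ K').subgroupOf M : Subgroup ↥M) : Set ↥M) :=
    bp_le_normalizer_subgroupOf (hJK.trans D.K_le_normalizer_inf)
  have hTM : K ⊓ K' ≤ M := inf_le_left.trans D.K_leM
  rcases bp_component_le_or_commutes hJ hJn with h | h
  · have := Subgroup.map_mono (f := M.subtype) h
    rwa [Subgroup.map_subgroupOf_eq_of_le hTM] at this
  · exfalso
    have hc : ⁅J.map M.subtype, K ⊓ K'⁆ = ⊥ := by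
      have := congrArg (Subgroup.map M.subtype) h
      rwa [map_commutator, Subgroup.map_subgroupOf_eq_of_le hTM, Subgroup.map_bot] at this
    have hperf : ⁅J.map M.subtype, J.map M.subtype⁆ = J.map M.subtype := by
      rw [← map_commutator, component_perfect hJ]
    -- `[K', J] ≤ K ⊓ K'`
    have h1 : ⁅K', J.map M.subtype⁆ ≤ K ⊓ K' := by
      rw [Subgroup.commutator_le]
      intro k hk x hx
      have hxK : x ∈ K := hJK hx
      refine ⟨?_, ?_⟩
      · have h2 : k * x * k⁻¹ ∈ K :=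
          (mem_normalizer_iff.mp (D.K_norm (D.K'_leM hk)) x).mp hxK
        have e : ⁅k, x⁆ = (k * x * k⁻¹) * x⁻¹ := by rw [commutatorElement_def]
        rw [e]
        exact K.mul_mem h2 (K.inv_mem hxK)
      · have h2 : x * k⁻¹ * x⁻¹ ∈ K' :=
          (mem_normalizer_iff.mp (D.K'_norm (D.K_leM' hxK)) k⁻¹).mp (K'.inv_mem hk)
        have e : ⁅k, x⁆ = k * (x * k⁻¹ * x⁻¹) := by rw [commutatorElement_def]; group
        rw [e]
        exact K'.mul_mem hk h2
    have h3 : ⁅⁅K', J.map M.subtype⁆, J.map M.subtype⁆ = ⊥ := by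
      rw [eq_bot_iff]
      refine (Subgroup.commutator_mono h1 le_rfl).trans ?_
      rw [Subgroup.commutator_comm]
      exact hc.le
    have h4 : ⁅K', J.map M.subtype⁆ = ⊥ := commutator_eq_bot_of_perfect hperf h3
    have h5 : J.map M.subtype ≤ centralizer (K' : Set G) := by
      rw [Subgroup.commutator_comm] at h4
      exact Subgroup.commutator_eq_bot_iff_le_centralizer.mp h4
    have h6 : J.map M.subtype ≤ K' := by
      intro x hx
      exact D.symm.mem_K_of_centralizes (D.K_leM' (hJK hx)) (h5 hx)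
    have hab : ⁅J.map M.subtype, J.map M.subtype⁆ = ⊥ := by
      rw [eq_bot_iff]
      refine (Subgroup.commutator_mono le_rfl h6).trans ?_
      rw [Subgroup.commutator_comm]
      exact h4.le
    rw [hperf, Subgroup.map_eq_bot_iff_of_injective _ M.subtype_injective] at hab
    exact component_ne_bot hJ hab

/-- `E(M) ≤ E(M')`. -/
theorem TWData.layer_map_le (D : TWData M M' K K' A A') :
    (Cfsg.layer ↥M).map M.subtype ≤ (Cfsg.layer ↥M').map M'.subtype := by
  rw [Subgroup.map_le_iff_le_comap]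
  change sSup {J : Subgroup ↥M | Cfsg.IsComponent J} ≤ _
  apply sSup_le
  intro J hJ
  have hJ' : Cfsg.IsComponent J := hJ
  rw [← Subgroup.map_le_iff_le_comap]
  have hJT := D.component_le_inf hJ'
  have hJM' : J.map M.subtype ≤ M' := (hJT.trans inf_le_left).trans D.K_leM'
  have s1 : SnIn (J.map M.subtype) M := snIn_of_map_subtype hJ'.1
  have s2 : SnIn (J.map M.subtype) (K ⊓ K') := s1.restrict hJT (inf_le_left.trans D.K_leM)
  have s3 : SnIn (K ⊓ K') K' := snIn_of_le_normalizer inf_le_right D.K'_le_normalizer_inf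
  have s4 : SnIn K' M' := snIn_of_le_normalizer D.K'_leM' D.K'_norm
  have s5 : SnIn (J.map M.subtype) M' := (s2.trans s3).trans s4
  have hcomp : Cfsg.IsComponent ((J.map M.subtype).subgroupOf M') := by
    refine ⟨s5.2, ?_⟩
    exact quasisimple_of_mulEquiv
      ((J.equivMapOfInjective M.subtype M.subtype_injective).trans
        (Subgroup.subgroupOfEquivOfLe hJM').symm) hJ'.2
  have := Subgroup.map_mono (f := M'.subtype) (component_le_layer hcomp)
  rwa [Subgroup.map_subgroupOf_eq_of_le hJM'] at this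

/-- `E(M) = 1`. -/
theorem TWData.layer_eq_bot (D : TWData M M' K K' A A') : Cfsg.layer ↥M = ⊥ := by
  have e : (Cfsg.layer ↥M).map M.subtype = (Cfsg.layer ↥M').map M'.subtype :=
    le_antisymm D.layer_map_le D.symm.layer_map_le
  have hnM : M ≤ normalizer (((Cfsg.layer ↥M).map M.subtype : Subgroup G) : Set G) := by
    have := layer_normal ↥M
    exact bp_le_normalizer_map_subtype M _
  have hnM' : M' ≤ normalizer (((Cfsg.layer ↥M).map M.subtype : Subgroup G) : Set G) := by
    rw [e]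
    have := layer_normal ↥M'
    exact bp_le_normalizer_map_subtype M' _
  have h := D.both _ hnM hnM'
    (le_inf (Subgroup.map_subtype_le _) (by rw [e]; exact Subgroup.map_subtype_le _))
  rwa [Subgroup.map_eq_bot_iff_of_injective _ M.subtype_injective] at h

end components

section elementary

variable {G : Type u} [Group G]

/-- `(ua)^n ∈ u^n H` when `u` normalizes `H` and `a ∈ H`. -/
theorem tw_pow_mul (H : Subgroup G) {u a : G} (hu : u ∈ normalizer (H : Set G)) (ha : a ∈ H)
    (n : ℕ) : ∃ h ∈ H, (u * a) ^ n = u ^ n * h := by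
  induction n with
  | zero => exact ⟨1, H.one_mem, by simp⟩
  | succ n ih =>
    obtain ⟨h, hh, e⟩ := ih
    have hu' : u⁻¹ ∈ normalizer (H : Set G) := (normalizer (H : Set G)).inv_mem hu
    have h1 : u⁻¹ * h * u⁻¹⁻¹ ∈ H := (mem_normalizer_iff.mp hu' h).mp hh
    refine ⟨u⁻¹ * h * u⁻¹⁻¹ * a, H.mul_mem h1 ha, ?_⟩
    rw [pow_succ, e, pow_succ]
    group

/-- If `u` is a `p`-element normalizing `H`, `a ∈ H` and `ua` is a `p'`-element then `u ∈ H`. -/
theorem tw_mem_of_coprime (H : Subgroup G) {p k : ℕ} {u a : G}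
    (hu : u ∈ normalizer (H : Set G)) (hup : u ^ (p ^ k) = 1) (ha : a ∈ H)
    (hcop : (orderOf (u * a)).Coprime p) : u ∈ H := by
  obtain ⟨h, hh, e⟩ := tw_pow_mul H hu ha (orderOf (u * a))
  rw [pow_orderOf_eq_one] at e
  have h1 : u ^ orderOf (u * a) ∈ H := by
    have : u ^ orderOf (u * a) = h⁻¹ := eq_inv_of_mul_eq_one_left e.symm
    rw [this]; exact H.inv_mem hh
  have hdvd : orderOf u ∣ p ^ k := orderOf_dvd_of_pow_eq_one hup
  have hc : (orderOf (u * a)).Coprime (orderOf u) :=
    Nat.Coprime.coprime_dvd_right hdvd (Nat.Coprime.pow_right k hcop)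
  obtain ⟨m, hm⟩ := exists_pow_eq_self_of_coprime hc
  rw [← hm]
  exact H.pow_mem h1 m

/-- Conjugation preserving a generating set preserves the closure. -/
theorem tw_conj_mem_closure {S : Set G} {c : G}
    (h : ∀ s ∈ S, c * s * c⁻¹ ∈ closure S) {x : G} (hx : x ∈ closure S) :
    c * x * c⁻¹ ∈ closure S := by
  induction hx using Subgroup.closure_induction with
  | mem x hx => exact h x hx
  | one => simp
  | mul x y _ _ hx hy =>
    have e : c * (x * y) * c⁻¹ = (c * x * c⁻¹) * (c * y * c⁻¹) := by group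
    rw [e]; exact (closure S).mul_mem hx hy
  | inv x _ hx =>
    have e : c * x⁻¹ * c⁻¹ = (c * x * c⁻¹)⁻¹ := by group
    rw [e]; exact (closure S).inv_mem hx

end elementary

section key

variable {G : Type u} [Group G] {M M' K K' A A' : Subgroup G}

/-- The commutator condition defining `C_M(K/P)`. -/
def TWC (M K P : Subgroup G) (m : G) : Prop :=
  m ∈ M ∧ ∀ k ∈ K, m * k * m⁻¹ * k⁻¹ ∈ P

theorem TWC.inv {P : Subgroup G} {m : G}
    (hP : M ≤ normalizer (P : Set G)) (h : TWC M K P m) : TWC M K P m⁻¹ := by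
  refine ⟨M.inv_mem h.1, ?_⟩
  intro k hk
  have h1 := h.2 k hk
  have h2 : m⁻¹ * (m * k * m⁻¹ * k⁻¹)⁻¹ * m⁻¹⁻¹ ∈ P :=
    (mem_normalizer_iff.mp (hP (M.inv_mem h.1)) _).mp (P.inv_mem h1)
  have e : m⁻¹ * k * m⁻¹⁻¹ * k⁻¹ = m⁻¹ * (m * k * m⁻¹ * k⁻¹)⁻¹ * m⁻¹⁻¹ := by group
  rw [e]; exact h2

theorem TWC.conj {P : Subgroup G} {m n : G} (hK : M ≤ normalizer (K : Set G))
    (hP : M ≤ normalizer (P : Set G)) (h : TWC M K P m) (hn : n ∈ M) :
    TWC M K P (n * m * n⁻¹) := by
  refine ⟨M.mul_mem (M.mul_mem hn h.1) (M.inv_mem hn), ?_⟩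
  intro k hk
  have hk' : n⁻¹ * k * n⁻¹⁻¹ ∈ K := (mem_normalizer_iff.mp (hK (M.inv_mem hn)) k).mp hk
  have h1 := h.2 _ hk'
  have h2 : n * (m * (n⁻¹ * k * n⁻¹⁻¹) * m⁻¹ * (n⁻¹ * k * n⁻¹⁻¹)⁻¹) * n⁻¹ ∈ P :=
    (mem_normalizer_iff.mp (hP hn) _).mp h1
  have e : n * m * n⁻¹ * k * (n * m * n⁻¹)⁻¹ * k⁻¹ =
      n * (m * (n⁻¹ * k * n⁻¹⁻¹) * m⁻¹ * (n⁻¹ * k * n⁻¹⁻¹)⁻¹) * n⁻¹ := by group
  rw [e]; exact h2

/-- The key lemma: if `A'` has a nontrivial `p'`-element, then `C_M(K/P) ≤ K` for every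
`p`-subgroup `P ≤ K` normalized by `M`. -/
theorem TWData.mem_K_of_TWC (D : TWData M M' K K' A A') {p : ℕ} {P : Subgroup G}
    (hPp : IsPGroup p P) (hPK : P ≤ K) (hPn : M ≤ normalizer (P : Set G))
    {a₀ : G} (ha₀ : a₀ ∈ A') (ha₀1 : a₀ ≠ 1) (ha₀c : (orderOf a₀).Coprime p)
    {m : G} (hm : TWC M K P m) : m ∈ K := by
  set S : Set G := {a | a ∈ A' ∧ (orderOf a).Coprime p} with hS
  have hSA : closure S ≤ A' := (closure_le A').mpr fun a ha => ha.1
  have hne : closure S ≠ ⊥ := by
    intro h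
    have : a₀ ∈ closure S := Subgroup.subset_closure ⟨ha₀, ha₀c⟩
    rw [h, mem_bot] at this
    exact ha₀1 this
  have hA'M' : A' ≤ M' := (D.A'_le.trans inf_le_left).trans D.K_leM'
  have hnM' : M' ≤ normalizer ((closure S : Subgroup G) : Set G) := by
    apply Cfsg.Agent.Lib.Helper46.le_normalizer_of_conj_mem
    intro h hh x hx
    apply tw_conj_mem_closure _ hx
    intro s hs
    apply Subgroup.subset_closure
    refine ⟨(mem_normalizer_iff.mp (D.A'_norm hh) s).mp hs.1, ?_⟩
    have : orderOf (h * s * h⁻¹) = orderOf s := by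
      have := orderOf_injective (MulAut.conj h).toMonoidHom (MulAut.conj h).injective s
      simpa using this
    rw [this]; exact hs.2
  have hN := D.normM' _ hne (hSA.trans hA'M') hnM'
  -- every element with the commutator property conjugates generators into the closure
  have hconj : ∀ c : G, TWC M K P c → ∀ x ∈ closure S, c * x * c⁻¹ ∈ closure S := by
    intro c hc x hx
    apply tw_conj_mem_closure _ hx
    intro s hs
    apply Subgroup.subset_closure
    have hsK : s ∈ K := (D.A'_le.trans inf_le_left) hs.1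
    have hu := hc.2 s hsK
    set u : G := c * s * c⁻¹ * s⁻¹ with hudef
    have hus : c * s * c⁻¹ = u * s := by rw [hudef]; group
    have hord : orderOf (u * s) = orderOf s := by
      rw [← hus]
      have := orderOf_injective (MulAut.conj c).toMonoidHom (MulAut.conj c).injective s
      simpa using this
    have huN : u ∈ normalizer (A' : Set G) := D.A'_norm (D.K_leM' (hPK hu))
    obtain ⟨k, hk⟩ := hPp ⟨u, hu⟩
    have hk' : u ^ (p ^ k) = 1 := by
      have := congrArg Subtype.val hk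
      simpa using this
    have huA : u ∈ A' := tw_mem_of_coprime A' huN hk' hs.1 (by rw [hord]; exact hs.2)
    rw [hus]
    exact ⟨A'.mul_mem huA hs.1, by rw [hord]; exact hs.2⟩
  have hmem : ∀ c : G, TWC M K P c → c ∈ M' := by
    intro c hc
    apply hN
    rw [mem_normalizer_iff]
    intro x
    constructor
    · exact hconj c hc x
    · intro hx
      have := hconj c⁻¹ (hc.inv hPn) _ hx
      have e : c⁻¹ * (c * x * c⁻¹) * c⁻¹⁻¹ = x := by group
      rwa [e] at this
  apply D.K_core m hm.1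
  intro n hn
  exact hmem _ (hm.conj D.K_norm hPn hn)

end key

section pcore

variable {G : Type u} [Group G] [Finite G] {M M' K K' A A' : Subgroup G}

/-- If `A'` has a nontrivial `p'`-element and `O_p(M) ≠ 1` then `O_p(M') ≤ O_p(M)`. -/
theorem TWData.bpO_le_bpO (D : TWData M M' K K' A A') {p : ℕ} [hp : Fact p.Prime]
    {a₀ : G} (ha₀ : a₀ ∈ A') (ha₀1 : a₀ ≠ 1) (ha₀c : (orderOf a₀).Coprime p)
    (hQ : bpO M p ≠ ⊥) : bpO M' p ≤ bpO M p := by
  set Q := bpO M p with hQdef
  set Q' := bpO M' p with hQ'def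
  have hQp : IsPGroup p Q := bpO_isPGroup M p
  have hQ'p : IsPGroup p Q' := bpO_isPGroup M' p
  have hQM : Q ≤ M := bpO_le M p
  have hQ'M' : Q' ≤ M' := bpO_le M' p
  have hQn : M ≤ normalizer (Q : Set G) := le_normalizer_bpO M p
  have hQ'n : M' ≤ normalizer (Q' : Set G) := le_normalizer_bpO M' p
  set P := Q ⊓ K with hPdef
  have hPp : IsPGroup p P := hQp.to_le inf_le_left
  have hPK : P ≤ K := inf_le_right
  have hPn : M ≤ normalizer (P : Set G) := le_normalizer_inf hQn D.K_norm
  have hSnK : SnIn K M := snIn_of_le_normalizer D.K_leM D.K_norm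
  -- `Q ≤ K`
  have hQK : Q ≤ K := by
    intro m hm
    apply D.mem_K_of_TWC hPp hPK hPn ha₀ ha₀1 ha₀c
    refine ⟨hQM hm, ?_⟩
    intro k hk
    refine ⟨?_, ?_⟩
    · have h1 : k * m⁻¹ * k⁻¹ ∈ Q :=
        (mem_normalizer_iff.mp (hQn (D.K_leM hk)) m⁻¹).mp (Q.inv_mem hm)
      have e : m * k * m⁻¹ * k⁻¹ = m * (k * m⁻¹ * k⁻¹) := by group
      rw [e]; exact Q.mul_mem hm h1
    · have h1 : m * k * m⁻¹ ∈ K := (mem_normalizer_iff.mp (D.K_norm (hQM hm)) k).mp hk
      exact K.mul_mem h1 (K.inv_mem hk)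
  have hQM' : Q ≤ M' := hQK.trans D.K_leM'
  -- `S = QQ'` is a `p`-group
  set S := Q ⊔ Q' with hSdef
  have hSp : IsPGroup p S := IsPGroup.to_sup_of_normal_right' hQp hQ'p (hQM'.trans hQ'n)
  have hKS : K ≤ normalizer (S : Set G) :=
    le_normalizer_sup (D.K_leM.trans hQn) (D.K_leM'.trans hQ'n)
  -- `S ⊓ M ≤ Q`
  have hSM : S ⊓ M ≤ Q := by
    intro s hs
    have hsK : s ∈ K := by
      apply D.mem_K_of_TWC hPp hPK hPn ha₀ ha₀1 ha₀c
      refine ⟨hs.2, ?_⟩
      intro k hk
      have hmemS : s * k * s⁻¹ * k⁻¹ ∈ S := by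
        have h2 : k * s⁻¹ * k⁻¹ ∈ S :=
          (mem_normalizer_iff.mp (hKS hk) s⁻¹).mp (S.inv_mem hs.1)
        have e : s * k * s⁻¹ * k⁻¹ = s * (k * s⁻¹ * k⁻¹) := by group
        rw [e]; exact S.mul_mem hs.1 h2
      have hmemK : s * k * s⁻¹ * k⁻¹ ∈ K := by
        have h2 : s * k * s⁻¹ ∈ K := (mem_normalizer_iff.mp (D.K_norm hs.2) k).mp hk
        exact K.mul_mem h2 (K.inv_mem hk)
      have hle : S ⊓ K ≤ Q := by
        apply le_bpO_of_subnormal (inf_le_right.trans D.K_leM) (hSp.to_le inf_le_left)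
        have s1 : SnIn (S ⊓ K) K :=
          snIn_of_le_normalizer inf_le_right (le_normalizer_inf hKS le_normalizer)
        exact (s1.trans hSnK).2
      exact ⟨hle ⟨hmemS, hmemK⟩, hmemK⟩
    have hle : S ⊓ K ≤ Q := by
      apply le_bpO_of_subnormal (inf_le_right.trans D.K_leM) (hSp.to_le inf_le_left)
      have s1 : SnIn (S ⊓ K) K :=
        snIn_of_le_normalizer inf_le_right (le_normalizer_inf hKS le_normalizer)
      exact (s1.trans hSnK).2
    exact hle ⟨hs.1, hsK⟩
  -- normalizers grow in the `p`-group `S`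
  have hNQ : normalizer (Q : Set G) ≤ M := D.normM Q hQ hQM hQn
  have hnil : Group.IsNilpotent ↥S := hSp.isNilpotent
  have htop : Q.subgroupOf S = ⊤ := by
    by_contra hne
    have hlt : Q.subgroupOf S < ⊤ := lt_top_iff_ne_top.mpr hne
    have hnc := Group.normalizerCondition_of_isNilpotent (G := ↥S) _ hlt
    obtain ⟨s, hsN, hsQ⟩ := SetLike.exists_of_lt hnc
    have hsn : (s : G) ∈ normalizer (Q : Set G) := by
      rw [mem_normalizer_iff]
      intro x
      have key := mem_normalizer_iff.mp hsN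
      constructor
      · intro hx
        have hxS : x ∈ S := (le_sup_left : Q ≤ S) hx
        have := (key ⟨x, hxS⟩).mp (mem_subgroupOf.mpr hx)
        exact mem_subgroupOf.mp this
      · intro hx
        have hxS' : (s : G) * x * (s : G)⁻¹ ∈ S := (le_sup_left : Q ≤ S) hx
        have hxS : x ∈ S := by
          have h2 := S.mul_mem (S.mul_mem (S.inv_mem s.2) hxS') s.2
          have e : (s : G)⁻¹ * ((s : G) * x * (s : G)⁻¹) * (s : G) = x := by group
          rwa [e] at h2
        have := (key ⟨x, hxS⟩).mpr (mem_subgroupOf.mpr hx)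
        exact mem_subgroupOf.mp this
    exact hsQ (mem_subgroupOf.mpr (hSM ⟨s.2, hNQ hsn⟩))
  have hSQ : S ≤ Q := subgroupOf_eq_top.mp htop
  exact le_sup_right.trans hSQ

/-- If `O_p(M) ≠ 1` then `A'` is a `p`-group. -/
theorem TWData.isPGroup_A' (D : TWData M M' K K' A A') {p : ℕ} [hp : Fact p.Prime]
    (hcard : Nat.card (bpO M p) ≤ Nat.card (bpO M' p))
    (hQ : bpO M p ≠ ⊥) : IsPGroup p A' := by
  apply isPGroup_of_coprime_trivial'
  intro a ha
  by_contra hne
  have hord : orderOf (a : G) = orderOf a := Subgroup.orderOf_coe a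
  have hne' : (a : G) ≠ 1 := by
    intro h
    apply hne
    exact Subtype.ext h
  have hle := D.bpO_le_bpO a.2 hne' (by rw [hord]; exact ha) hQ
  have heq : bpO M' p = bpO M p := Subgroup.eq_of_le_of_card_ge hle hcard
  have hnM : M ≤ normalizer (bpO M p : Set G) := le_normalizer_bpO M p
  have hnM' : M' ≤ normalizer (bpO M p : Set G) := by
    rw [← heq]; exact le_normalizer_bpO M' p
  exact hQ (D.both _ hnM hnM' (le_inf (bpO_le M p) (by rw [← heq]; exact bpO_le M' p)))

end pcore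

section cores

variable {G : Type u} [Group G]

/-- The core in `M` of `Y`, as a subgroup of `G`. -/
def twCore (M Y : Subgroup G) : Subgroup G := ((Y.subgroupOf M).normalCore).map M.subtype

theorem twCore_le_left (M Y : Subgroup G) : twCore M Y ≤ M := Subgroup.map_subtype_le _

theorem twCore_le_right (M Y : Subgroup G) : twCore M Y ≤ Y := by
  rintro x ⟨y, hy, rfl⟩
  exact mem_subgroupOf.mp (Subgroup.normalCore_le _ hy)

theorem twCore_norm (M Y : Subgroup G) : M ≤ normalizer (twCore M Y : Set G) := by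
  have := Subgroup.normalCore_normal (Y.subgroupOf M)
  exact bp_le_normalizer_map_subtype M _

theorem twCore_mem (M Y : Subgroup G) {m : G} (hm : m ∈ M)
    (h : ∀ n ∈ M, n * m * n⁻¹ ∈ Y) : m ∈ twCore M Y := by
  refine ⟨⟨m, hm⟩, ?_, rfl⟩
  intro b
  exact mem_subgroupOf.mpr (h b b.2)

/-- A core-free maximal subgroup is the normalizer of each of its nontrivial normal subgroups. -/
theorem tw_normalizer_le {M : Subgroup G} (hM : IsCoatom M) (hcore : M.normalCore = ⊥) :
    ∀ X : Subgroup G, X ≠ ⊥ → X ≤ M → M ≤ normalizer (X : Set G) →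
      normalizer (X : Set G) ≤ M := by
  intro X hX hXM hn
  rcases eq_or_lt_of_le hn with h | h
  · exact le_of_eq h.symm
  · exfalso
    have htop := hM.2 _ h
    have hXn : X.Normal := Subgroup.normalizer_eq_top_iff.mp htop
    have : X ≤ M.normalCore := Subgroup.normal_le_normalCore.mpr hXM
    rw [hcore] at this
    exact hX (eq_bot_iff.mpr this)

end cores

section fstar

variable {G : Type u} [Group G] [Finite G]

/-- If `F*(M) = O_p(M)` then the same holds for every subgroup `N` normalized by `M`. -/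
theorem tw_fstar_of_normal {M N : Subgroup G} (p : ℕ) [hp : Fact p.Prime] (hNM : N ≤ M)
    (hn : M ≤ normalizer (N : Set G))
    (h : Cfsg.generalizedFittingSubgroup ↥M = Cfsg.pCore p ↥M) :
    Cfsg.generalizedFittingSubgroup ↥N = Cfsg.pCore p ↥N := by
  have hNn : (N.subgroupOf M).Normal :=
    (Subgroup.normal_subgroupOf_iff_le_normalizer hNM).mpr hn
  have h1 := generalizedFitting_inf_normal (N.subgroupOf M)
  have h2 : (Cfsg.generalizedFittingSubgroup ↥(N.subgroupOf M)).map (N.subgroupOf M).subtype ≤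
      Cfsg.pCore p ↥M := by
    rw [← h1, h]; exact inf_le_left
  have h3 : IsPGroup p ↥(Cfsg.generalizedFittingSubgroup ↥(N.subgroupOf M)) := by
    have h4 : IsPGroup p ↥((Cfsg.generalizedFittingSubgroup ↥(N.subgroupOf M)).map
        (N.subgroupOf M).subtype) := (pCore_isPGroup' p ↥M).to_le h2
    exact IsPGroup.of_injective h4
      ((Cfsg.generalizedFittingSubgroup ↥(N.subgroupOf M)).equivMapOfInjective
        (N.subgroupOf M).subtype (N.subgroupOf M).subtype_injective).toMonoidHom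
      ((Cfsg.generalizedFittingSubgroup ↥(N.subgroupOf M)).equivMapOfInjective
        (N.subgroupOf M).subtype (N.subgroupOf M).subtype_injective).injective
  have h5 : Cfsg.generalizedFittingSubgroup ↥(N.subgroupOf M) = Cfsg.pCore p ↥(N.subgroupOf M) := by
    apply le_antisymm
    · exact le_pCore' (generalizedFittingSubgroup_normal _) h3
    · exact (pCore_le_fitting p).trans (fitting_le_generalizedFitting _)
  exact generalizedFitting_eq_pCore_of_equiv p (Subgroup.subgroupOfEquivOfLe hNM) h5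

end fstar

section main

variable {G : Type u} [Group G] [Finite G]

/-- A nontrivial finite group has a nontrivial `O_p` for some prime `p`, if its layer is trivial. -/
theorem tw_exists_pCore_ne_bot {X : Type u} [Group X] [Finite X] [Nontrivial X]
    (hE : Cfsg.layer X = ⊥) : ∃ p : Nat.Primes, Cfsg.pCore (p : ℕ) X ≠ ⊥ := by
  by_contra hcon
  push Not at hcon
  have hF : Cfsg.fittingSubgroup X = ⊥ := by
    rw [fittingSubgroup_eq_iSup_pCore, eq_bot_iff]
    apply iSup_le
    intro r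
    rw [hcon r]
  have hg : Cfsg.generalizedFittingSubgroup X = ⊥ := by
    unfold Cfsg.generalizedFittingSubgroup
    rw [hE, hF, bot_sup_eq]
  have h1 := centralizer_generalizedFitting_le X
  rw [hg] at h1
  have h2 : (⊤ : Subgroup X) ≤ ⊥ := by
    refine le_trans ?_ h1
    intro x _
    rw [mem_centralizer_iff]
    intro y hy
    have : y = 1 := by simpa using hy
    rw [this]; simp
  exact top_ne_bot (eq_bot_iff.mpr h2)

/-- The Thompson--Wielandt theorem for second cores of a pair of conjugate core-free maximal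
subgroups. -/
theorem thompson_wielandt (M₁ M₂ : Subgroup G) (hmax : IsCoatom M₁) (g : G)
    (hconj : M₂ = M₁.map (MulAut.conj g).toMonoidHom) (hne : M₁ ≠ M₂)
    (hcore : M₁.normalCore = ⊥) (K K' A A' : Subgroup G)
    (hK : K = twCore M₁ (M₁ ⊓ M₂)) (hK' : K' = twCore M₂ (M₁ ⊓ M₂))
    (hA : A = twCore M₁ (K ⊓ K')) (hA' : A' = twCore M₂ (K ⊓ K'))
    (hA2 : A ≠ ⊥) (hB2 : A' ≠ ⊥) :
    ∃ p : ℕ, p.Prime ∧ IsPGroup p ↥(A ⊔ A') ∧
      Cfsg.generalizedFittingSubgroup ↥M₁ = Cfsg.pCore p ↥M₁ ∧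
      Cfsg.generalizedFittingSubgroup ↥K = Cfsg.pCore p ↥K ∧
      Cfsg.generalizedFittingSubgroup ↥M₂ = Cfsg.pCore p ↥M₂ ∧
      Cfsg.generalizedFittingSubgroup ↥K' = Cfsg.pCore p ↥K' := by
  have hmax2 : IsCoatom M₂ := by
    rw [hconj]
    exact ((MulEquiv.mapSubgroup (MulAut.conj g)).isCoatom_iff M₁).mpr hmax
  have hcore2 : M₂.normalCore = ⊥ := by
    rw [eq_bot_iff, ← hcore]
    have hn := Subgroup.normalCore_normal M₂
    apply Subgroup.normal_le_normalCore.mpr
    intro x hx
    have h1 : g * x * g⁻¹ ∈ M₂.normalCore := hn.conj_mem x hx g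
    have h2 := Subgroup.normalCore_le _ h1
    rw [hconj] at h2
    obtain ⟨y, hy, hyx⟩ := h2
    have : y = x := by simpa using hyx
    rwa [← this]
  have hsup : M₁ ⊔ M₂ = ⊤ := by
    apply hmax.2
    apply lt_of_le_of_ne le_sup_left
    intro h
    have h21 : M₂ ≤ M₁ := by
      have : M₂ ≤ M₁ ⊔ M₂ := le_sup_right
      rwa [← h] at this
    rcases eq_or_lt_of_le h21 with e | e
    · exact hne e.symm
    · exact hmax.1 (hmax2.2 _ e)
  have D : TWData M₁ M₂ K K' A A' :=
    { normM := tw_normalizer_le hmax hcore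
      normM' := tw_normalizer_le hmax2 hcore2
      both := by
        intro X h1 h2 h3
        have h4 : M₁ ⊔ M₂ ≤ normalizer (X : Set G) := sup_le h1 h2
        rw [hsup] at h4
        have hXn : X.Normal := Subgroup.normalizer_eq_top_iff.mp (eq_top_iff.mpr h4)
        have : X ≤ M₁.normalCore := Subgroup.normal_le_normalCore.mpr (h3.trans inf_le_left)
        rw [hcore] at this
        exact eq_bot_iff.mpr this
      K_le := by rw [hK]; exact twCore_le_right _ _
      K_norm := by rw [hK]; exact twCore_norm _ _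
      K_core := by
        intro m hm h
        rw [hK]
        exact twCore_mem _ _ hm
          (fun n hn => ⟨M₁.mul_mem (M₁.mul_mem hn hm) (M₁.inv_mem hn), h n hn⟩)
      K'_le := by rw [hK']; exact twCore_le_right _ _
      K'_norm := by rw [hK']; exact twCore_norm _ _
      K'_core := by
        intro m hm h
        rw [hK']
        exact twCore_mem _ _ hm
          (fun n hn => ⟨h n hn, M₂.mul_mem (M₂.mul_mem hn hm) (M₂.inv_mem hn)⟩)
      A_le := by rw [hA]; exact twCore_le_right _ _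
      A_norm := by rw [hA]; exact twCore_norm _ _
      A_ne := hA2
      A'_le := by rw [hA']; exact twCore_le_right _ _
      A'_norm := by rw [hA']; exact twCore_norm _ _
      A'_ne := hB2 }
  have hAM : A ≤ M₁ := (D.A_le.trans inf_le_left).trans D.K_leM
  have hL1 : Cfsg.layer ↥M₁ = ⊥ := D.layer_eq_bot
  have hnt : Nontrivial ↥M₁ := by
    obtain ⟨a, ha1⟩ := (Subgroup.ne_bot_iff_exists_ne_one (H := A)).mp hA2
    refine ⟨⟨⟨(a : G), hAM a.2⟩, 1, fun e => ha1 (Subtype.ext ?_)⟩⟩
    have := congrArg (Subtype.val : ↥M₁ → G) e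
    simpa using this
  obtain ⟨p, hp⟩ := tw_exists_pCore_ne_bot hL1
  have hpf : Fact (p : ℕ).Prime := ⟨p.2⟩
  -- transport of cores under conjugation
  have htr : ∀ q : ℕ, [Fact q.Prime] → (bpO M₁ q).map (MulAut.conj g).toMonoidHom = bpO M₂ q := by
    intro q _
    exact Cfsg.Agent.Lib.Helper87.pCore_map_subtype_equiv (MulAut.conj g) M₁ M₂ hconj.symm
  have hcardq : ∀ q : ℕ, [Fact q.Prime] → Nat.card (bpO M₂ q) = Nat.card (bpO M₁ q) := by
    intro q _
    rw [← htr q]
    exact (Nat.card_congr ((bpO M₁ q).equivMapOfInjective _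
      (MulAut.conj g).injective).toEquiv).symm
  have hbot : ∀ q : ℕ, [Fact q.Prime] → (bpO M₁ q = ⊥ ↔ Cfsg.pCore q ↥M₁ = ⊥) := by
    intro q _
    unfold bpO
    exact Subgroup.map_eq_bot_iff_of_injective _ M₁.subtype_injective
  have hbot2 : ∀ q : ℕ, [Fact q.Prime] → (bpO M₂ q = ⊥ ↔ bpO M₁ q = ⊥) := by
    intro q _
    rw [← htr q]
    exact Subgroup.map_eq_bot_iff_of_injective _ (MulAut.conj g).injective
  -- the two second cores are `q`-groups whenever `O_q(M₁) ≠ 1`
  have hA'q : ∀ q : ℕ, [Fact q.Prime] → bpO M₁ q ≠ ⊥ → IsPGroup q A' := by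
    intro q _ hq
    exact D.isPGroup_A' (le_of_eq (hcardq q).symm) hq
  have hAq : ∀ q : ℕ, [Fact q.Prime] → bpO M₁ q ≠ ⊥ → IsPGroup q A := by
    intro q _ hq
    exact D.symm.isPGroup_A' (le_of_eq (hcardq q)) (fun h => hq ((hbot2 q).mp h))
  have hp1 : bpO M₁ (p : ℕ) ≠ ⊥ := fun h => hp ((hbot (p : ℕ)).mp h)
  have hA'p := hA'q (p : ℕ) hp1
  have hAp := hAq (p : ℕ) hp1
  have hother : ∀ q : ℕ, q.Prime → q ≠ (p : ℕ) → Cfsg.pCore q ↥M₁ = ⊥ := by
    intro q hq hqp
    have : Fact q.Prime := ⟨hq⟩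
    by_contra hcon
    have h1 : bpO M₁ q ≠ ⊥ := fun h => hcon ((hbot q).mp h)
    have h2 := hA'q q h1
    have hdis := IsPGroup.disjoint_of_ne q (p : ℕ) hqp A' A' h2 hA'p
    exact hB2 (disjoint_self.mp hdis)
  have hF1 : Cfsg.generalizedFittingSubgroup ↥M₁ = Cfsg.pCore (p : ℕ) ↥M₁ :=
    generalizedFitting_eq_pCore_of (p : ℕ) hL1 hother
  have hF2 : Cfsg.generalizedFittingSubgroup ↥M₂ = Cfsg.pCore (p : ℕ) ↥M₂ := by
    subst hconj
    exact generalizedFitting_eq_pCore_of_equiv (p : ℕ)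
      (M₁.equivMapOfInjective (MulAut.conj g).toMonoidHom (MulAut.conj g).injective) hF1
  refine ⟨(p : ℕ), p.2, ?_, hF1, tw_fstar_of_normal (p : ℕ) D.K_leM D.K_norm hF1, hF2,
    tw_fstar_of_normal (p : ℕ) D.K'_leM' D.K'_norm hF2⟩
  -- `A ⊔ A' ≤ O_p(M₁)`
  have hSnK : SnIn K M₁ := snIn_of_le_normalizer D.K_leM D.K_norm
  have h1 : A ≤ bpO M₁ (p : ℕ) :=
    le_bpO_of_subnormal hAM hAp (snIn_of_le_normalizer hAM D.A_norm).2
  have h2 : A' ≤ bpO M₁ (p : ℕ) := by
    have hA'K : A' ≤ K := D.A'_le.trans inf_le_left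
    have s1 : SnIn A' K := snIn_of_le_normalizer hA'K (D.K_leM'.trans D.A'_norm)
    exact le_bpO_of_subnormal (hA'K.trans D.K_leM) hA'p (s1.trans hSnK).2
  exact (bpO_isPGroup M₁ (p : ℕ)).to_le (sup_le h1 h2)

end main

end Cfsg.Agent.Lib.Helper30
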