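import Mathlib
import Cfsg.Agent.Lib.Helper99.SympForm
import Cfsg.Agent.Lib.Helper59.TqDefs

/-! # TQ-DERODD (helper30, for helper59's Tq hive S5973 + S5987), part b:
invariant subspaces of `g₁ × 1` on a product, `g₁` without fixed vectors. -/

set_option autoImplicit false

namespace Cfsg.Agent.Lib.Helper59.Tq

open Module

section deroddb

variable {F : Type*} [Field F] {V₁ V₂ : Type*} [AddCommGroup V₁] [Module F V₁]
  [AddCommGroup V₂] [Module F V₂]

/-- the sum of the powers of an operator of order `r` without fixed vectors vanishes -/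
theorem derodd_geom_sum (g₁ : Module.End F V₁) (r : ℕ) (hgr : g₁ ^ r = 1)
    (hfix : ∀ v, g₁ v = v → v = 0) : ∑ t ∈ Finset.range r, g₁ ^ t = 0 := by
  apply LinearMap.ext
  intro v
  rw [LinearMap.zero_apply]
  apply hfix
  have h := mul_geom_sum g₁ r
  rw [hgr, sub_self] at h
  have h2 := congrArg (fun φ : Module.End F V₁ => φ v) h
  simp only [Module.End.mul_apply, LinearMap.sub_apply, Module.End.one_apply,
    LinearMap.zero_apply] at h2
  exact sub_eq_zero.1 h2

/-- an invariant subspace of `g₁ × 1` is a product -/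
theorem derodd_prod_split (g₁ : Module.End F V₁) (r : ℕ) (hr : (r : F) ≠ 0)
    (hsum : ∑ t ∈ Finset.range r, g₁ ^ t = 0) (W : Submodule F (V₁ × V₂))
    (hW : ∀ w ∈ W, (g₁ w.1, w.2) ∈ W) :
    ∀ w ∈ W, (w.1, (0 : V₂)) ∈ W ∧ ((0 : V₁), w.2) ∈ W := by
  have hpow : ∀ t : ℕ, ∀ w ∈ W, ((g₁ ^ t) w.1, w.2) ∈ W := by
    intro t
    induction t with
    | zero => intro w hw; simpa using hw
    | succ t ih =>
      intro w hw
      rw [pow_succ', Module.End.mul_apply]
      exact hW _ (ih w hw)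
  have key : ∀ w ∈ W, ((0 : V₁), w.2) ∈ W := by
    intro w hw
    have h1 : ∑ t ∈ Finset.range r, ((g₁ ^ t) w.1, w.2) ∈ W :=
      Submodule.sum_mem W (fun t _ => hpow t w hw)
    have h2 : ∑ t ∈ Finset.range r, ((g₁ ^ t) w.1, w.2) = ((0 : V₁), (r : F) • w.2) := by
      apply Prod.ext
      · rw [Prod.fst_sum]
        simp only
        rw [← LinearMap.sum_apply, hsum, LinearMap.zero_apply]
      · rw [Prod.snd_sum]
        simp only
        rw [Finset.sum_const, Finset.card_range, Nat.cast_smul_eq_nsmul]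
    rw [h2] at h1
    have h3 := W.smul_mem ((r : F)⁻¹) h1
    rw [Prod.smul_mk, smul_zero, smul_smul, inv_mul_cancel₀ hr, one_smul] at h3
    exact h3
  intro w hw
  refine ⟨?_, key w hw⟩
  have h := W.sub_mem hw (key w hw)
  have e : w - ((0 : V₁), w.2) = (w.1, (0 : V₂)) := by
    apply Prod.ext <;> simp
  rw [e] at h
  exact h

/-- dimension count for an invariant subspace of `g₁ × 1` -/
theorem derodd_prod_dims [FiniteDimensional F V₁] [FiniteDimensional F V₂]
    (g₁ : Module.End F V₁) (r : ℕ) (hr : (r : F) ≠ 0)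
    (hsum : ∑ t ∈ Finset.range r, g₁ ^ t = 0) (W : Submodule F (V₁ × V₂))
    (hW : ∀ w ∈ W, (g₁ w.1, w.2) ∈ W) :
    ∃ (W₁ : Submodule F V₁) (W₂ : Submodule F V₂), (∀ u ∈ W₁, g₁ u ∈ W₁) ∧
      (∀ u ∈ W₁, (u, (0 : V₂)) ∈ W) ∧ (∀ c ∈ W₂, ((0 : V₁), c) ∈ W) ∧
      finrank F W = finrank F W₁ + finrank F W₂ := by
  have hsplit := derodd_prod_split g₁ r hr hsum W hW
  refine ⟨W.comap (LinearMap.inl F V₁ V₂), W.comap (LinearMap.inr F V₁ V₂), ?_, ?_, ?_, ?_⟩
  · intro u hu
    have h : (u, (0 : V₂)) ∈ W := hu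
    exact hW _ h
  · intro u hu
    exact hu
  · intro c hc
    exact hc
  · let f : W →ₗ[F] (↥(W.comap (LinearMap.inl F V₁ V₂)) × ↥(W.comap (LinearMap.inr F V₁ V₂))) :=
      LinearMap.prod
        (LinearMap.codRestrict _ ((LinearMap.fst F V₁ V₂).comp W.subtype)
          (fun w => (hsplit w.1 w.2).1))
        (LinearMap.codRestrict _ ((LinearMap.snd F V₁ V₂).comp W.subtype)
          (fun w => (hsplit w.1 w.2).2))
    have hinj : Function.Injective f := by
      rw [← LinearMap.ker_eq_bot, LinearMap.ker_eq_bot']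
      intro w hw
      have h1 : (w : V₁ × V₂).1 = 0 := congrArg (fun z => (z.1 : V₁)) hw
      have h2 : (w : V₁ × V₂).2 = 0 := congrArg (fun z => (z.2 : V₂)) hw
      apply Subtype.ext
      exact Prod.ext h1 h2
    have hsurj : Function.Surjective f := by
      rintro ⟨⟨a, ha⟩, ⟨b, hb⟩⟩
      have ha' : (a, (0 : V₂)) ∈ W := ha
      have hb' : ((0 : V₁), b) ∈ W := hb
      refine ⟨⟨(a, b), ?_⟩, rfl⟩
      have := W.add_mem ha' hb'
      simpa using this
    have e := LinearEquiv.ofBijective f ⟨hinj, hsurj⟩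
    rw [LinearEquiv.finrank_eq e, Module.finrank_prod]

end deroddb

end Cfsg.Agent.Lib.Helper59.Tq
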