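import Mathlib
import Cfsg.Agent.Lib.Helper43.LeviPlus

/-! # TQ-DERODD (helper30, for helper59's Tq hive S5973 + S5987), part c:
the Levi element with `j` equal blocks and no fixed vectors; the Lagrangian of the split form. -/

set_option autoImplicit false

namespace Cfsg.Agent.Lib.Helper59.Tq

open Module Polynomial
open Cfsg.Agent.Lib.Helper40.PrimeOrder

section deroddc

variable {F : Type*} [Field F] [Fintype F]

/-- a matrix of order `r` on the split space of dimension `2 i j` without fixed vectors -/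
theorem derodd_levi (p : ℕ) [Fact p.Prime] [CharP F p] (r : ℕ) [Fact r.Prime] (hrp : r ≠ p)
    (i : ℕ) (hi : i = orderOf ((Fintype.card F : ℕ) : ZMod r)) (j k : ℕ) (hk : k = i * j) :
    ∃ L L' : Matrix (Fin k ⊕ Fin k) (Fin k ⊕ Fin k) F, L * L' = 1 ∧
      (∀ v, Cfsg.quadFormPlus k F (L.mulVec v) = Cfsg.quadFormPlus k F v) ∧
      L ^ r = 1 ∧ ∀ v, L.mulVec v = v → v = 0 := by
  classical
  subst hk
  have hr : r.Prime := Fact.out
  have hp : p.Prime := Fact.out
  have hr0 : 0 < r := hr.pos
  have hrF : (r : F) ≠ 0 := by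
    intro h
    have h1 : p ∣ r := (CharP.cast_eq_zero_iff F p r).1 h
    exact hrp ((Nat.prime_dvd_prime_iff_eq hp hr).1 h1).symm
  have hcard := card_Rset_mul (F := F) r hrF
  have hne : (Rset F r).Nonempty := by
    rw [← Finset.card_pos]
    have : 1 ≤ r - 1 := by have := hr.two_le; omega
    by_contra hcon
    have h0 : (Rset F r).card = 0 := by omega
    rw [h0, zero_mul] at hcard
    omega
  obtain ⟨π, hπ⟩ := hne
  have hπ' := (mem_Rset hr0).1 hπ
  have hdeg : π.natDegree = i := by
    rw [hi]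
    exact natDegree_of_irreducible_dvd r π hπ'.1 hπ'.2.1 hπ'.2.2.1 hπ'.2.2.2
  have hN : ∀ π' ∈ Multiset.replicate j π, π' ∈ Rset F r := by
    intro π' h
    rw [Multiset.eq_of_mem_replicate h]
    exact hπ
  have hd : (Multiset.replicate j π).prod.natDegree = i * j := by
    rw [Multiset.prod_replicate, hπ'.1.natDegree_pow, hdeg, mul_comm]
  obtain ⟨L, L', hLL', hpres, hchar, hLr⟩ :=
    Cfsg.Agent.Lib.Helper43.OrthGen.exists_levi p r (i * j) (Multiset.replicate j π) hN hd
  refine ⟨L, L', hLL', hpres, hLr, ?_⟩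
  intro v hv
  by_contra hv0
  have hev : Module.End.HasEigenvalue (Matrix.toLin' L) 1 := by
    apply Module.End.hasEigenvalue_of_hasEigenvector (x := v)
    refine ⟨?_, hv0⟩
    rw [Module.End.mem_eigenspace_iff, Matrix.toLin'_apply, hv, one_smul]
  rw [Module.End.hasEigenvalue_iff_isRoot_charpoly, Matrix.charpoly_toLin', hchar, IsRoot.def,
    eval_multiset_prod, Multiset.prod_eq_zero_iff] at hev
  obtain ⟨π', hπ'mem, hπ'0⟩ := Multiset.mem_map.1 hev
  have hπ'R : π' ∈ Rset F r := by
    rcases Multiset.mem_add.1 hπ'mem with h | h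
    · exact hN π' h
    · obtain ⟨π'', h1, rfl⟩ := Multiset.mem_map.1 h
      exact recip_mem_Rset r (hN π'' h1)
  exact eval_one_ne_zero_of_mem_Rset hr0 hπ'R hπ'0

omit [Fintype F] in
/-- the split form has a totally singular subspace of half the dimension -/
theorem derodd_plus_lagrangian (k : ℕ) :
    ∃ U : Submodule F (Fin k ⊕ Fin k → F),
      (∀ u ∈ U, Cfsg.quadFormPlus k F u = 0) ∧ finrank F U = k := by
  classical
  let φ : (Fin k ⊕ Fin k → F) →ₗ[F] (Fin k → F) := LinearMap.funLeft F F Sum.inr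
  have hsurj : Function.Surjective φ := by
    intro w
    refine ⟨Sum.elim 0 w, ?_⟩
    funext t
    rfl
  refine ⟨LinearMap.ker φ, ?_, ?_⟩
  · intro u hu
    have h0 : ∀ t : Fin k, u (Sum.inr t) = 0 := by
      intro t
      have := congrFun (LinearMap.mem_ker.1 hu) t
      exact this
    unfold Cfsg.quadFormPlus
    apply Finset.sum_eq_zero
    intro t _
    rw [h0 t, mul_zero]
  · have h := LinearMap.finrank_range_add_finrank_ker φ
    rw [LinearMap.range_eq_top.2 hsurj, finrank_top, Module.finrank_fintype_fun_eq_card,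
      Module.finrank_fintype_fun_eq_card, Fintype.card_sum, Fintype.card_fin] at h
    omega

end deroddc

end Cfsg.Agent.Lib.Helper59.Tq
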