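import Mathlib
import Cfsg.Prelude.Def_ClassicalGeometry
import Cfsg.Prelude.Def_GeometricClasses
import Cfsg.Agent.Lib.Helper99.SympForm
import Cfsg.Agent.Lib.Helper59.TqDefs
import Cfsg.Agent.Lib.Helper59.TqOMEGA
import Cfsg.Agent.Lib.Helper64.TqTRF
import Cfsg.Agent.Lib.Helper27.TqWITT
import Cfsg.Agent.Lib.Helper33.TqTYPEODD
import Cfsg.Agent.Lib.Helper48.TiCYC
import Cfsg.Agent.Lib.Helper40.SympBasic
import Cfsg.Agent.Lib.Helper8.OrthForms
import Cfsg.Agent.Lib.Helper30.TqDERODDa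
import Cfsg.Agent.Lib.Helper30.TqDERODDb
import Cfsg.Agent.Lib.Helper30.TqDERODDc

/-! # TQ-DERODD (helper30, for helper59's Tq hive S5973 + S5987), part d:
the analysis of the model `(split space of dimension 2 i j) × C` and the assembly, relative to
hyperbolic coordinates for nondegenerate spaces of plus type (a special case of TQ-TRANS). -/

set_option autoImplicit false

namespace Cfsg.Agent.Lib.Helper59.Tq

open Module Polynomial
open Cfsg.Agent.Lib.Helper99 Cfsg.Agent.Lib.Helper2.BG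

section deroddd

universe u

variable {F : Type u} [Field F]

/-- the polar form of a restricted form -/
theorem derodd_polar_comp {V : Type*} [AddCommGroup V] [Module F V] (Q : QuadraticForm F V)
    (Z : Submodule F V) (x y : Z) :
    QuadraticMap.polarBilin (Q.comp Z.subtype) x y = QuadraticMap.polarBilin Q (x : V) (y : V) := by
  show QuadraticMap.polar _ x y = QuadraticMap.polar _ (x : V) (y : V)
  unfold QuadraticMap.polar
  simp

/-- invariant totally singular subspaces of the model -/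
theorem derodd_model_bound {V₂ : Type*} [AddCommGroup V₂] [Module F V₂] [FiniteDimensional F V₂]
    (k i r : ℕ) [Fact r.Prime] (L : Matrix (Fin k ⊕ Fin k) (Fin k ⊕ Fin k) F) (hLr : L ^ r = 1)
    (hfix : ∀ v, L.mulVec v = v → v = 0) (hrF : (r : F) ≠ 0)
    (hdeg : AllIrrDeg (cyclotomic r F) i) (Q₂ : QuadraticForm F V₂)
    (W : Submodule F ((Fin k ⊕ Fin k → F) × V₂))
    (hWinv : ∀ w ∈ W, (L.mulVec w.1, w.2) ∈ W)
    (hWts : ∀ w ∈ W, Cfsg.quadFormPlus k F w.1 + Q₂ w.2 = 0) :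
    ∃ (W₂ : Submodule F V₂) (b : ℕ), (∀ c ∈ W₂, Q₂ c = 0) ∧
      finrank F W = finrank F W₂ + b * i ∧ b * i ≤ k := by
  classical
  set g₁ : Module.End F (Fin k ⊕ Fin k → F) := Matrix.toLin' L with hg₁
  have hg₁app : ∀ v, g₁ v = L.mulVec v := fun v => Matrix.toLin'_apply L v
  have hg₁r : g₁ ^ r = 1 := by
    rw [hg₁, ← Matrix.toLin'_pow, hLr, Matrix.toLin'_one]
    rfl
  have hg₁fix : ∀ v, g₁ v = v → v = 0 := fun v hv => hfix v (by rw [← hg₁app]; exact hv)
  have hsum := derodd_geom_sum g₁ r hg₁r hg₁fix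
  obtain ⟨W₁, W₂, hW₁inv, hW₁W, hW₂W, hdim⟩ := derodd_prod_dims g₁ r hrF hsum W
    (fun w hw => by rw [hg₁app]; exact hWinv w hw)
  have hW₁ts : ∀ u ∈ W₁, (Cfsg.Agent.Lib.Helper8.plusForm k F) u = 0 := by
    intro u hu
    have h := hWts _ (hW₁W u hu)
    simp only [map_zero, add_zero] at h
    rw [← Cfsg.Agent.Lib.Helper8.plusForm_coe]
    exact h
  have hW₂ts : ∀ c ∈ W₂, Q₂ c = 0 := by
    intro c hc
    have h := hWts _ (hW₂W c hc)
    have h0 : Cfsg.quadFormPlus k F 0 = 0 := by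
      unfold Cfsg.quadFormPlus
      simp
    simp only at h
    rw [h0, zero_add] at h
    exact h
  have hbound : finrank F W₁ ≤ k := by
    have hnd := Cfsg.Agent.Lib.Helper8.plusForm_nondegenerate k F
    have h := Cfsg.Agent.Lib.Helper79.TsSwap.ti_bound_refl
      (B := QuadraticMap.polarBilin (Cfsg.Agent.Lib.Helper8.plusForm k F))
      (fun u v h => by
        show QuadraticMap.polar _ v u = 0
        rw [QuadraticMap.polar_comm]
        exact h)
      (Z := ⊤) (U := W₁) (fun u _ hu => hnd.1 u (fun v => hu v Submodule.mem_top)) le_top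
      (witt_ti_of_ts _ hW₁ts)
    rw [finrank_top, Module.finrank_fintype_fun_eq_card, Fintype.card_sum, Fintype.card_fin] at h
    omega
  have hss : g₁.IsSemisimple :=
    Cfsg.Agent.Lib.Helper40.Symp.isSemisimple_of_pow_eq_one hrF hg₁r
  have hdvd : i ∣ finrank F W₁ := by
    refine dvd_finrank_of_inv hss (cyclotomic_ne_zero r F) hdeg (finrank F W₁) W₁ rfl hW₁inv ?_
    intro v _
    rw [Polynomial.cyclotomic_prime, map_sum]
    simp only [map_pow, aeval_X]
    rw [hsum]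
    rfl
  obtain ⟨b, hb⟩ := hdvd
  refine ⟨W₂, b, hW₂ts, ?_, ?_⟩
  · rw [hdim, hb]
    ring
  · rw [mul_comm, ← hb]
    exact hbound

end deroddd

section core

universe u

variable {ι : Type} [Fintype ι] [DecidableEq ι] {F : Type u} [Field F] [Fintype F]

omit [DecidableEq ι] [Fintype F] in
/-- `PlusOn` on the whole space is `IsPlus` -/
theorem derodd_plusOn_iff (QF : QuadraticForm F (ι → F)) : PlusOn QF ⊤ ↔ IsPlus (⇑QF) := by
  have htop : finrank F (⊤ : Submodule F (ι → F)) = Fintype.card ι := by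
    rw [finrank_top, Module.finrank_fintype_fun_eq_card]
  constructor
  · rintro ⟨U, -, hU, hUd⟩
    exact ⟨U, hU, by rw [hUd, htop]⟩
  · rintro ⟨U, hU, hUd⟩
    exact ⟨U, le_top, hU, by rw [hUd, htop]⟩

/-- TQ-DERODD relative to hyperbolic coordinates for spaces of plus type -/
theorem derodd_core
    (hhyp : ∀ (k : ℕ) (V' : Type u) [AddCommGroup V'] [Module F V'] [FiniteDimensional F V']
      (Q' : QuadraticForm F V'), Nd (QuadraticMap.polarBilin Q') ⊤ → finrank F V' = 2 * k →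
      PlusOn Q' ⊤ → ∃ Θ : (Fin k ⊕ Fin k → F) ≃ₗ[F] V', ∀ v, Q' (Θ v) = Cfsg.quadFormPlus k F v)
    {p : ℕ} [Fact p.Prime] [CharP F p] (Q : (ι → F) → F) (d e : ℕ) (hS : Std Q d)
    (he : TypeE Q e) (r : ℕ) [Fact r.Prime] (hr2 : r ≠ 2) (hrp : r ≠ p) (i : ℕ)
    (hi : i = orderOf ((Fintype.card F : ℕ) : ZMod r)) (hd : 3 ≤ d)
    (j : ℕ) (hj1 : 1 ≤ j) (hj : i * j + e ≤ d) :
    ∃ x : GL ι F, x ∈ Cfsg.Geo.omegaGL Q ∧ x ^ r = 1 ∧ x ≠ 1 ∧
      ∀ m, FixTS Q m x → ∃ a b, a + b * i = m ∧ b ≤ j ∧ a + i * j + e ≤ d := by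
  classical
  obtain ⟨QF, hQF, hQFnd⟩ := hS.exists_form
  subst hQF
  have hcard := hS.card
  have hr : r.Prime := Fact.out
  have hrF : (r : F) ≠ 0 := Cfsg.Agent.Lib.Helper48.Ti.natCast_ne_zero_of_ne_char hrp
  have hrodd : Odd r := hr.odd_of_ne_two hr2
  have hi0 : 0 < i := by
    rw [hi]
    exact Cfsg.Agent.Lib.Helper48.Ti.orderOf_card_pos hrp
  have hdeg : AllIrrDeg (cyclotomic r F) i := by
    rw [hi]
    exact allIrrDeg_cyclotomic hrp
  obtain ⟨k, hk⟩ : ∃ k, k = i * j := ⟨_, rfl⟩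
  rw [← hk] at hj
  have hk1 : 0 < k := by
    rw [hk]
    exact Nat.mul_pos hi0 hj1
  have hNdtop : Nd (QuadraticMap.polarBilin QF) ⊤ :=
    fun u _ hu => hQFnd.1 u (fun v => hu v Submodule.mem_top)
  have hdimV : finrank F (ι → F) = 2 * d := by
    rw [Module.finrank_fintype_fun_eq_card, hcard]
  have htop : finrank F (⊤ : Submodule F (ι → F)) = 2 * d := by
    rw [finrank_top, hdimV]
  have hplus_iff := derodd_plusOn_iff QF
  have he01 : (e = 0 ∧ PlusOn QF ⊤) ∨ (e = 1 ∧ ¬ PlusOn QF ⊤) := by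
    rcases he with ⟨h1, h2⟩ | ⟨h1, h2⟩
    · exact Or.inl ⟨h1, hplus_iff.2 h2⟩
    · exact Or.inr ⟨h1, fun h => h2 (hplus_iff.1 h)⟩
  -- Step 1: a totally singular subspace of dimension `k`
  obtain ⟨U, -, hUts, hUd⟩ := exists_ts_of_nd QF (Z := ⊤) hNdtop
    (by rw [htop]; exact ⟨d, by ring⟩) k (by
      rw [htop]
      rcases he01 with ⟨h1, h2⟩ | ⟨h1, h2⟩
      · right
        exact ⟨h2, by omega⟩
      · left
        omega)
  -- Step 2: the splitting `V = C ⟂ R`
  obtain ⟨C, R, hCR, horth, hUR, hRd, hCnd, hRnd⟩ := derodd_hull QF hNdtop hUts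
  rw [hUd] at hRd
  have hCd : finrank F C = 2 * d - 2 * k := by
    have := Submodule.finrank_add_eq_of_isCompl hCR
    omega
  -- Step 3: hyperbolic coordinates on `R`
  have hRform : Nd (QuadraticMap.polarBilin (QF.comp R.subtype)) ⊤ := by
    intro u _ hu
    have h0 : (u : ι → F) = 0 := hRnd u u.2 (fun v hv => by
      have := hu ⟨v, hv⟩ Submodule.mem_top
      rwa [derodd_polar_comp] at this)
    exact Subtype.ext h0
  have hRplus : PlusOn (QF.comp R.subtype) ⊤ := by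
    refine ⟨U.comap R.subtype, le_top, ?_, ?_⟩
    · intro u hu
      exact hUts _ hu
    · rw [LinearEquiv.finrank_eq (Submodule.comapSubtypeEquivOfLe hUR), hUd, finrank_top, hRd]
  obtain ⟨Θ₁, hΘ₁⟩ := hhyp k ↥R (QF.comp R.subtype) hRform hRd hRplus
  -- Step 4: the model and its isometry
  obtain ⟨L, L', hLL', hLpres, hLr, hLfix⟩ := derodd_levi p r hrp i hi j k hk
  have hL'L : L' * L = 1 := mul_eq_one_comm.1 hLL'
  let g₁ : (Fin k ⊕ Fin k → F) ≃ₗ[F] (Fin k ⊕ Fin k → F) :=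
    LinearEquiv.ofLinearMap (Matrix.toLin' L) (Matrix.toLin' L')
      (by rw [← Matrix.toLin'_mul, hLL', Matrix.toLin'_one])
      (by rw [← Matrix.toLin'_mul, hL'L, Matrix.toLin'_one])
  let g : ((Fin k ⊕ Fin k → F) × ↥C) ≃ₗ[F] ((Fin k ⊕ Fin k → F) × ↥C) :=
    LinearEquiv.prodCongr g₁ (LinearEquiv.refl F ↥C)
  let Θ : ((Fin k ⊕ Fin k → F) × ↥C) ≃ₗ[F] (ι → F) :=
    (LinearEquiv.prodCongr Θ₁ (LinearEquiv.refl F ↥C)).trans
      (Submodule.prodEquivOfIsCompl R C hCR.symm)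
  have hΘapp : ∀ w, Θ w = (Θ₁ w.1 : ι → F) + (w.2 : ι → F) := fun w => by
    simp [Θ]
  have hgapp : ∀ w, g w = (L.mulVec w.1, w.2) := fun w => by
    simp [g, g₁]
  let QM : ((Fin k ⊕ Fin k → F) × ↥C) → F :=
    fun w => Cfsg.quadFormPlus k F w.1 + QF (w.2 : ι → F)
  have hΘQ : ∀ w, QF (Θ w) = QM w := by
    intro w
    rw [hΘapp]
    have h1 : QF ((Θ₁ w.1 : ι → F) + (w.2 : ι → F)) = QF (Θ₁ w.1 : ι → F) + QF (w.2 : ι → F) +
        QuadraticMap.polar QF (Θ₁ w.1 : ι → F) (w.2 : ι → F) := by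
      unfold QuadraticMap.polar
      ring
    have h2 : QuadraticMap.polar QF (Θ₁ w.1 : ι → F) (w.2 : ι → F) = 0 := by
      rw [QuadraticMap.polar_comm]
      exact horth _ w.2.2 _ (Θ₁ w.1).2
    have h3 : QF (Θ₁ w.1 : ι → F) = Cfsg.quadFormPlus k F w.1 := hΘ₁ w.1
    rw [h1, h2, h3, add_zero]
  have hgQ : ∀ w, QM (g w) = QM w := by
    intro w
    rw [hgapp]
    show Cfsg.quadFormPlus k F (L.mulVec w.1) + QF (w.2 : ι → F) = _
    rw [hLpres]
  obtain ⟨x, hxiso, hxΘ⟩ := exists_GL_of_model (⇑QF) QM Θ hΘQ g hgQ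
  -- Step 5: order, non-triviality, `Ω`
  have hiter : ∀ n : ℕ, ∀ w, ((Matrix.toLin' (x : Matrix ι ι F)) ^ n) (Θ w) =
      Θ (((Matrix.toLin' L) ^ n) w.1, w.2) := by
    intro n
    induction n with
    | zero =>
      intro w
      simp
    | succ n ih =>
      intro w
      rw [pow_succ', Module.End.mul_apply, ih, hxΘ, hgapp, pow_succ', Module.End.mul_apply,
        Matrix.toLin'_apply]
  have hxr : x ^ r = 1 := by
    apply Units.ext
    rw [Units.val_pow_eq_pow_val, Units.val_one]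
    apply Matrix.toLin'.injective
    rw [Matrix.toLin'_pow, Matrix.toLin'_one]
    apply LinearMap.ext
    intro v
    obtain ⟨w, rfl⟩ := Θ.surjective v
    rw [hiter, ← Matrix.toLin'_pow, hLr, Matrix.toLin'_one]
    rfl
  have hx1 : x ≠ 1 := by
    intro h
    have h0 : ∀ v : Fin k ⊕ Fin k → F, v = 0 := by
      intro v
      apply hLfix
      have h1 := hxΘ (v, 0)
      rw [h, Units.val_one, Matrix.toLin'_one, LinearMap.id_apply, hgapp] at h1
      have h2 := Θ.injective h1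
      exact (congrArg Prod.fst h2).symm
    have h1 := congrFun (h0 (Pi.single (Sum.inl ⟨0, hk1⟩) 1)) (Sum.inl ⟨0, hk1⟩)
    simp at h1
  refine ⟨x, mem_omegaGL_of_odd (⇑QF) d hd hS x hxiso r hrodd hxr, hxr, hx1, ?_⟩
  -- Step 6: the invariant totally singular subspaces
  rintro m ⟨W, hWd, hWts, hWinv⟩
  have hW'd : finrank F (W.comap (Θ : ((Fin k ⊕ Fin k → F) × ↥C) →ₗ[F] (ι → F))) = m := by
    rw [← hWd]
    exact LinearEquiv.finrank_eq (Θ.ofSubmodule' W)
  obtain ⟨W₂, b, hW₂ts, hdims, hbk⟩ := derodd_model_bound k i r L hLr hLfix hrF hdeg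
    (QF.comp C.subtype) (W.comap (Θ : ((Fin k ⊕ Fin k → F) × ↥C) →ₗ[F] (ι → F)))
    (fun w hw => by
      have hw' : Θ w ∈ W := hw
      show Θ (L.mulVec w.1, w.2) ∈ W
      rw [← hgapp, ← hxΘ]
      exact hWinv ⟨Θ w, hw', rfl⟩)
    (fun w hw => by
      have hw' : Θ w ∈ W := hw
      have := hWts _ hw'
      rw [hΘQ] at this
      exact this)
  rw [hW'd] at hdims
  have hmapd : finrank F (W₂.map C.subtype) = finrank F W₂ := Submodule.finrank_map_subtype_eq C W₂
  have hmaple : W₂.map C.subtype ≤ C := by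
    rintro _ ⟨c, -, rfl⟩
    exact c.2
  have hmapts : ∀ u ∈ W₂.map C.subtype, QF u = 0 := by
    rintro _ ⟨c, hc, rfl⟩
    exact hW₂ts c hc
  have hbj : b ≤ j := by
    rw [hk, mul_comm i j] at hbk
    exact Nat.le_of_mul_le_mul_right hbk hi0
  refine ⟨finrank F W₂, b, hdims.symm, hbj, ?_⟩
  rw [← hk]
  rcases he01 with ⟨h1, -⟩ | ⟨h1, h2⟩
  · have h := Cfsg.Agent.Lib.Helper79.TsSwap.ti_bound_refl
      (B := QuadraticMap.polarBilin QF)
      (fun u v h => by
        show QuadraticMap.polar _ v u = 0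
        rw [QuadraticMap.polar_comm]
        exact h)
      hCnd hmaple (witt_ti_of_ts QF hmapts)
    omega
  · have hnp : ¬ PlusOn QF C := fun hC =>
      h2 ((plusOn_of_lagrangian QF hNdtop hCR horth hUR hUts (by omega)).2 hC)
    have h := ts_bound_of_not_plus QF hCnd (by rw [hCd]; exact ⟨d - k, by omega⟩) hmaple hmapts hnp
    omega

end core

end Cfsg.Agent.Lib.Helper59.Tq
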