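import Mathlib
import Cfsg.Prelude.Def_ClassicalGeometry
import Cfsg.Prelude.Def_GeometricClasses
import Cfsg.Agent.Lib.Helper99.SympForm
import Cfsg.Agent.Lib.Helper59.TqDefs
import Cfsg.Agent.Lib.Helper43.TqTRANS
import Cfsg.Agent.Lib.Helper30.TqDERODDd

/-! # TQ-DERODD (helper30, for helper59's Tq hive S5973 + S5987): `der_odd`

The element with `j` hyperbolic blocks: `V = C ⟂ R`, `R` hyperbolic of dimension `2 i j` carrying a
Levi element `diag(A, …, A; A^{-T}, …, A^{-T})` of order `r` without fixed vectors, identity on `C`.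
An invariant totally singular subspace is `(W ∩ R) ⊕ (W ∩ C)`, with `dim (W ∩ R) = b i ≤ i j` and
`dim (W ∩ C) ≤ d - i j - e` (`C` has the type of `V` by TQ-TYPEODD). -/

set_option autoImplicit false

namespace Cfsg.Agent.Lib.Helper59.Tq

open Module
open Cfsg.Agent.Lib.Helper99

section generic

variable {ι : Type} [Fintype ι] [DecidableEq ι] {F : Type*} [Field F] [Fintype F]

set_option linter.unusedVariables false in
/-- TQ-DERODD (`⟹`, `i` odd): the element with `j` hyperbolic blocks -/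
theorem der_odd {p : ℕ} [Fact p.Prime] [CharP F p] (Q : (ι → F) → F) (d e : ℕ) (hS : Std Q d)
    (he : TypeE Q e) (r : ℕ) [Fact r.Prime] (hr2 : r ≠ 2) (hrp : r ≠ p) (i : ℕ)
    (hi : i = orderOf ((Fintype.card F : ℕ) : ZMod r)) (hio : Odd i) (hd : 3 ≤ d)
    (j : ℕ) (hj1 : 1 ≤ j) (hj : i * j + e ≤ d) :
    ∃ x : GL ι F, x ∈ Cfsg.Geo.omegaGL Q ∧ x ^ r = 1 ∧ x ≠ 1 ∧
      ∀ m, FixTS Q m x → ∃ a b, a + b * i = m ∧ b ≤ j ∧ a + i * j + e ≤ d := by
  refine derodd_core ?_ Q d e hS he r hr2 hrp i hi hd j hj1 hj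
  intro k V' _ _ _ Q' hQ' hdim hplus
  have hnd : Nd (QuadraticMap.polarBilin (Cfsg.Agent.Lib.Helper8.plusForm k F)) ⊤ :=
    fun u _ hu => (Cfsg.Agent.Lib.Helper8.plusForm_nondegenerate k F).1 u
      (fun v => hu v Submodule.mem_top)
  have hdim0 : finrank F (Fin k ⊕ Fin k → F) = 2 * k := by
    rw [Module.finrank_fintype_fun_eq_card, Fintype.card_sum, Fintype.card_fin]
    ring
  have hplus0 : PlusOn (Cfsg.Agent.Lib.Helper8.plusForm k F) ⊤ := by
    obtain ⟨U, hU, hUd⟩ := derodd_plus_lagrangian (F := F) k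
    refine ⟨U, le_top, ?_, ?_⟩
    · intro u hu
      rw [← Cfsg.Agent.Lib.Helper8.plusForm_coe]
      exact hU u hu
    · rw [hUd, finrank_top, hdim0]
  obtain ⟨Θ, hΘ⟩ := exists_isometry_of_type (Cfsg.Agent.Lib.Helper8.plusForm k F) Q' hnd hQ'
    (by rw [hdim0, hdim]) (by rw [hdim0]; exact ⟨k, by ring⟩)
    ⟨fun _ => hplus, fun _ => hplus0⟩
  refine ⟨Θ, fun v => ?_⟩
  rw [hΘ v, Cfsg.Agent.Lib.Helper8.plusForm_coe]

end generic

end Cfsg.Agent.Lib.Helper59.Tq
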