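import Mathlib
import Cfsg.Agent.Lib.Helper99.SympForm
import Cfsg.Agent.Lib.Helper59.TqDefs

/-! # TQ-DERODD (helper30, for helper59's Tq hive S5973 + S5987), part a:
splitting off a hyperbolic hull of a totally singular subspace. -/

set_option autoImplicit false

namespace Cfsg.Agent.Lib.Helper59.Tq

open Module
open Cfsg.Agent.Lib.Helper99

section derodda

variable {F : Type*} [Field F] {V : Type*} [AddCommGroup V] [Module F V] [FiniteDimensional F V]

/-- a totally singular subspace `U` of a nondegenerate quadratic space lies in a nondegenerate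
subspace `R` of twice its dimension, and `V = C ⟂ R` -/
theorem derodd_hull (Q : QuadraticForm F V) (hV : Nd (QuadraticMap.polarBilin Q) ⊤)
    {U : Submodule F V} (hU : ∀ u ∈ U, Q u = 0) :
    ∃ C R : Submodule F V, IsCompl C R ∧
      (∀ c ∈ C, ∀ x ∈ R, QuadraticMap.polar Q c x = 0) ∧ U ≤ R ∧
      finrank F R = 2 * finrank F U ∧
      Nd (QuadraticMap.polarBilin Q) C ∧ Nd (QuadraticMap.polarBilin Q) R := by
  classical
  set B : LinearMap.BilinForm F V := QuadraticMap.polarBilin Q with hB
  have hBapp : ∀ x y, B x y = QuadraticMap.polar Q x y := fun x y => rfl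
  have hsymm : ∀ x y, B x y = B y x := fun x y => by
    rw [hBapp, hBapp, QuadraticMap.polar_comm]
  have hrefl : B.IsRefl := fun x y h => by rw [hsymm]; exact h
  have hsep : ∀ v : V, (∀ w : V, B v w = 0) → v = 0 := fun v hv =>
    hV v Submodule.mem_top (fun w _ => hv w)
  have hnd : B.Nondegenerate :=
    ⟨fun v hv => hsep v hv, fun v hv => hsep v (fun w => by rw [hsymm]; exact hv w)⟩
  have hUU : ∀ x ∈ U, ∀ y ∈ U, B x y = 0 := by
    intro x hx y hy
    rw [hBapp]
    unfold QuadraticMap.polar
    rw [hU _ (U.add_mem hx hy), hU x hx, hU y hy]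
    simp
  have hUo : U ≤ B.orthogonal U := by
    intro x hx
    rw [LinearMap.BilinForm.mem_orthogonal_iff]
    intro y hy
    exact hUU y hy x hx
  obtain ⟨T, hT⟩ := Submodule.exists_isCompl (B.orthogonal U)
  have hUodim := LinearMap.BilinForm.finrank_orthogonal hnd U
  have hUle : finrank F U ≤ finrank F V := Submodule.finrank_le U
  have hTdim : finrank F T = finrank F U := by
    have := Submodule.finrank_add_eq_of_isCompl hT
    omega
  have hUT : U ⊓ T = ⊥ := by
    rw [eq_bot_iff]
    calc U ⊓ T ≤ B.orthogonal U ⊓ T := inf_le_inf hUo le_rfl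
      _ = ⊥ := hT.inf_eq_bot
  have hRdim : finrank F ↥(U ⊔ T) = 2 * finrank F U := by
    have := Submodule.finrank_sup_add_finrank_inf_eq U T
    rw [hUT, finrank_bot, add_zero] at this
    omega
  -- `R = U ⊔ T` is nondegenerate
  have hRnd : Nd B (U ⊔ T) := by
    intro x hx hxR
    obtain ⟨u, hu, t, ht, rfl⟩ := Submodule.mem_sup.mp hx
    have ht0 : t = 0 := by
      have htU : t ∈ B.orthogonal U := by
        rw [LinearMap.BilinForm.mem_orthogonal_iff]
        intro u' hu'
        have h1 := hxR u' (Submodule.mem_sup_left hu')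
        rw [map_add, LinearMap.add_apply, hUU u hu u' hu', zero_add] at h1
        show B u' t = 0
        rw [hsymm]
        exact h1
      have : t ∈ B.orthogonal U ⊓ T := ⟨htU, ht⟩
      rw [hT.inf_eq_bot] at this
      exact (Submodule.mem_bot F).1 this
    subst ht0
    rw [add_zero] at hxR ⊢
    apply hsep
    intro w
    have hw : w ∈ B.orthogonal U ⊔ T := by
      rw [hT.sup_eq_top]
      exact Submodule.mem_top
    obtain ⟨a, ha, b, hb, rfl⟩ := Submodule.mem_sup.mp hw
    rw [map_add, hxR b (Submodule.mem_sup_right hb), add_zero]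
    exact (LinearMap.BilinForm.mem_orthogonal_iff.1 ha) u hu
  have hdisj : Disjoint (U ⊔ T) (B.orthogonal (U ⊔ T)) := by
    rw [Submodule.disjoint_def]
    intro x hx hxo
    apply hRnd x hx
    intro y hy
    rw [hsymm]
    exact (LinearMap.BilinForm.mem_orthogonal_iff.1 hxo) y hy
  have hcompl : IsCompl (U ⊔ T) (B.orthogonal (U ⊔ T)) :=
    (LinearMap.BilinForm.isCompl_orthogonal_iff_disjoint hrefl).2 hdisj
  have horth : ∀ c ∈ B.orthogonal (U ⊔ T), ∀ x ∈ U ⊔ T, QuadraticMap.polar Q c x = 0 := by
    intro c hc x hx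
    rw [← hBapp, hsymm]
    exact (LinearMap.BilinForm.mem_orthogonal_iff.1 hc) x hx
  refine ⟨B.orthogonal (U ⊔ T), U ⊔ T, hcompl.symm, horth, le_sup_left, hRdim, ?_, hRnd⟩
  intro c hc hcC
  apply hsep
  intro w
  have hw : w ∈ (U ⊔ T) ⊔ B.orthogonal (U ⊔ T) := by
    rw [hcompl.sup_eq_top]
    exact Submodule.mem_top
  obtain ⟨a, ha, b, hb, rfl⟩ := Submodule.mem_sup.mp hw
  rw [map_add, hcC b hb, add_zero]
  exact horth c hc a ha

end derodda

end Cfsg.Agent.Lib.Helper59.Tq
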