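import Mathlib.GroupTheory.Sylow
import Mathlib.GroupTheory.NoncommCoprod
import Mathlib.GroupTheory.Index
import Mathlib.Logic.Relation
import Mathlib.GroupTheory.SpecificGroups.KleinFour
import Mathlib.Tactic

set_option autoImplicit false

namespace Cfsg.Agent.Lib.Helper30

variable {X : Type*} [Group X]

/-- elementary abelian 2-subgroup, elementwise form -/
def EA2 (A : Subgroup X) : Prop :=
  (∀ a ∈ A, ∀ b ∈ A, a * b = b * a) ∧ ∀ a ∈ A, a ^ 2 = 1

theorem EA2.mono {A B : Subgroup X} (h : EA2 B) (hle : A ≤ B) : EA2 A :=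
  ⟨fun a ha b hb => h.1 a (hle ha) b (hle hb), fun a ha => h.2 a (hle ha)⟩

theorem EA2.inv_eq {A : Subgroup X} (h : EA2 A) {a : X} (ha : a ∈ A) : a⁻¹ = a := by
  have := h.2 a ha
  rw [pow_two] at this
  exact inv_eq_of_mul_eq_one_left this

/-- The basic halving bound. -/
theorem card_le_sq_centralizer [Finite X] (F : Subgroup X) (hF : EA2 F)
    (a : X) (ha : a ^ 2 = 1) (hn : ∀ x ∈ F, a * x * a⁻¹ ∈ F) :
    Nat.card ↥F ≤ Nat.card ↥(F ⊓ Subgroup.centralizer {a}) ^ 2 := by
  have ha' : a⁻¹ = a := by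
    rw [pow_two] at ha
    exact inv_eq_of_mul_eq_one_left ha
  let φ : ↥F →* ↥F := MonoidHom.mk' (fun f => ⟨(f : X) * (a * f * a⁻¹), F.mul_mem f.2 (hn f f.2)⟩) (by
    intro x y
    apply Subtype.ext
    simp only [Subgroup.coe_mul]
    have h1 : a * ((x : X) * y) * a⁻¹ = (a * x * a⁻¹) * (a * y * a⁻¹) := by group
    rw [h1]
    have hc := hF.1 (y : X) y.2 (a * x * a⁻¹) (hn x x.2)
    calc (x : X) * y * (a * x * a⁻¹ * (a * y * a⁻¹))
        = x * (y * (a * x * a⁻¹)) * (a * y * a⁻¹) := by group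
      _ = x * ((a * x * a⁻¹) * y) * (a * y * a⁻¹) := by rw [hc]
      _ = x * (a * x * a⁻¹) * (y * (a * y * a⁻¹)) := by group)
  have hφ : ∀ f : ↥F, ((φ f : ↥F) : X) = (f : X) * (a * f * a⁻¹) := fun f => rfl
  have hker : φ.ker = (F ⊓ Subgroup.centralizer {a}).subgroupOf F := by
    ext f
    rw [MonoidHom.mem_ker, Subgroup.mem_subgroupOf, Subgroup.mem_inf,
      Subgroup.mem_centralizer_singleton_iff]
    constructor
    · intro h
      refine ⟨f.2, ?_⟩
      have h1 : (f : X) * (a * f * a⁻¹) = 1 := by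
        have := congrArg Subtype.val h
        rw [hφ] at this
        exact this
      have h2 : a * f * a⁻¹ = (f : X)⁻¹ := (inv_eq_of_mul_eq_one_right h1).symm
      rw [hF.inv_eq f.2] at h2
      calc (f : X) * a = (a * f * a⁻¹) * a := by rw [h2]
        _ = a * f := by group
    · rintro ⟨-, h⟩
      apply Subtype.ext
      rw [hφ]
      have : a * (f : X) * a⁻¹ = f := by
        rw [← h]; group
      rw [this, ← pow_two]
      exact hF.2 f f.2
  have hrange : φ.range ≤ (F ⊓ Subgroup.centralizer {a}).subgroupOf F := by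
    rintro _ ⟨f, rfl⟩
    rw [Subgroup.mem_subgroupOf, Subgroup.mem_inf, Subgroup.mem_centralizer_singleton_iff]
    refine ⟨(φ f).2, ?_⟩
    rw [hφ]
    have hc := hF.1 (f : X) f.2 (a * f * a⁻¹) (hn f f.2)
    have h3 : a * ((f : X) * (a * f * a⁻¹)) = (a * f * a⁻¹) * f * a := by
      rw [ha']
      have : a * a = 1 := by rw [← pow_two]; exact ha
      calc a * ((f : X) * (a * f * a)) = a * f * a * f * a := by group
        _ = a * f * a * f * a := rfl
    rw [h3, ← hc]
  have hcardk : Nat.card ↥((F ⊓ Subgroup.centralizer {a}).subgroupOf F) =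
      Nat.card ↥(F ⊓ Subgroup.centralizer {a}) :=
    Nat.card_congr (Subgroup.subgroupOfEquivOfLe inf_le_left).toEquiv
  have h1 : Nat.card ↥φ.ker * φ.ker.index = Nat.card ↥F := Subgroup.card_mul_index _
  rw [Subgroup.index_ker, hker, hcardk] at h1
  have h2 : Nat.card ↥φ.range ≤ Nat.card ↥(F ⊓ Subgroup.centralizer {a}) := by
    rw [← hcardk]
    exact Subgroup.card_le_of_le hrange
  calc Nat.card ↥F = Nat.card ↥(F ⊓ Subgroup.centralizer {a}) * Nat.card ↥φ.range := h1.symm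
    _ ≤ Nat.card ↥(F ⊓ Subgroup.centralizer {a}) * Nat.card ↥(F ⊓ Subgroup.centralizer {a}) :=
        Nat.mul_le_mul_left _ h2
    _ = _ := (pow_two _).symm



theorem mem_sup_zpowers_iff {B : Subgroup X} {c : X} (hc2 : c ^ 2 = 1)
    (hcB : ∀ b ∈ B, c * b = b * c) (x : X) :
    x ∈ B ⊔ Subgroup.zpowers c ↔ x ∈ B ∨ x * c ∈ B := by
  have hcinv : c⁻¹ = c := by
    rw [pow_two] at hc2
    exact inv_eq_of_mul_eq_one_left hc2
  have hcc : c * c = 1 := by rw [← pow_two]; exact hc2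
  have comm : ∀ (m : ↥B) (n : ↥(Subgroup.zpowers c)), Commute (B.subtype m) ((Subgroup.zpowers c).subtype n) := by
    rintro ⟨m, hm⟩ ⟨n, hn⟩
    obtain ⟨k, rfl⟩ := Subgroup.mem_zpowers_iff.mp hn
    have h1 : Commute c m := hcB m hm
    exact (h1.zpow_left k).symm
  have hr := MonoidHom.noncommCoprod_range B.subtype (Subgroup.zpowers c).subtype comm
  rw [Subgroup.range_subtype, Subgroup.range_subtype] at hr
  rw [← hr]
  constructor
  · rintro ⟨⟨⟨b, hb⟩, ⟨z, hz⟩⟩, rfl⟩
    rw [MonoidHom.noncommCoprod_apply]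
    simp only [Subgroup.subtype_apply]
    obtain ⟨k, rfl⟩ := Subgroup.mem_zpowers_iff.mp hz
    rcases Int.even_or_odd k with ⟨j, rfl⟩ | ⟨j, rfl⟩
    · left
      have : c ^ (j + j) = 1 := by
        rw [← two_mul, zpow_mul, zpow_ofNat, hc2, one_zpow]
      rw [this, mul_one]; exact hb
    · right
      have : c ^ (2 * j + 1) = c := by
        rw [zpow_add, zpow_mul, zpow_ofNat, hc2, one_zpow, one_mul, zpow_one]
      rw [this, mul_assoc, hcc, mul_one]; exact hb
  · rintro (h | h)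
    · exact ⟨(⟨x, h⟩, 1), by simp⟩
    · refine ⟨(⟨x * c, h⟩, ⟨c, Subgroup.mem_zpowers c⟩), ?_⟩
      rw [MonoidHom.noncommCoprod_apply]
      simp only [Subgroup.subtype_apply]
      rw [mul_assoc, hcc, mul_one]

theorem EA2.sup_zpowers {B : Subgroup X} (hB : EA2 B) {c : X} (hc2 : c ^ 2 = 1)
    (hcB : ∀ b ∈ B, c * b = b * c) : EA2 (B ⊔ Subgroup.zpowers c) := by
  have hcc : c * c = 1 := by rw [← pow_two]; exact hc2
  -- every element is b or b * c
  have key : ∀ x ∈ B ⊔ Subgroup.zpowers c, ∃ b ∈ B, x = b ∨ x = b * c := by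
    intro x hx
    rcases (mem_sup_zpowers_iff hc2 hcB x).mp hx with h | h
    · exact ⟨x, h, Or.inl rfl⟩
    · refine ⟨x * c, h, Or.inr ?_⟩
      rw [mul_assoc, hcc, mul_one]
  constructor
  · intro x hx y hy
    obtain ⟨b, hb, hxb⟩ := key x hx
    obtain ⟨b', hb', hyb⟩ := key y hy
    have h1 := hB.1 b hb b' hb'
    have h2 := hcB b hb
    have h3 := hcB b' hb'
    rcases hxb with hx' | hx' <;> rcases hyb with hy' | hy' <;> rw [hx', hy']
    · exact h1
    · calc b * (b' * c) = (b * b') * c := by group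
        _ = (b' * b) * c := by rw [h1]
        _ = b' * (b * c) := by group
        _ = b' * (c * b) := by rw [h2]
        _ = b' * c * b := by group
    · calc b * c * b' = b * (c * b') := by group
        _ = b * (b' * c) := by rw [h3]
        _ = (b * b') * c := by group
        _ = (b' * b) * c := by rw [h1]
        _ = b' * (b * c) := by group
    · calc b * c * (b' * c) = b * (c * b') * c := by group
        _ = b * (b' * c) * c := by rw [h3]
        _ = (b * b') * c * c := by group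
        _ = (b' * b) * c * c := by rw [h1]
        _ = b' * (b * c) * c := by group
        _ = b' * (c * b) * c := by rw [h2]
        _ = b' * c * (b * c) := by group
  · intro x hx
    obtain ⟨b, hb, hxb⟩ := key x hx
    have h2 := hcB b hb
    have hb2 : b * b = 1 := by rw [← pow_two]; exact hB.2 b hb
    rcases hxb with hx' | hx' <;> rw [hx']
    · exact hB.2 b hb
    · rw [pow_two]
      calc b * c * (b * c) = b * (c * b) * c := by group
        _ = b * (b * c) * c := by rw [h2]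
        _ = (b * b) * (c * c) := by group
        _ = 1 := by rw [hb2, hcc, mul_one]

theorem card_sup_zpowers [Finite X] {B : Subgroup X} {c : X} (hc2 : c ^ 2 = 1)
    (hcB : ∀ b ∈ B, c * b = b * c) (hc : c ∉ B) :
    Nat.card ↥(B ⊔ Subgroup.zpowers c) = 2 * Nat.card ↥B := by
  have comm : ∀ (m : ↥B) (n : ↥(Subgroup.zpowers c)), Commute (B.subtype m) ((Subgroup.zpowers c).subtype n) := by
    rintro ⟨m, hm⟩ ⟨n, hn⟩
    obtain ⟨k, rfl⟩ := Subgroup.mem_zpowers_iff.mp hn
    have h1 : Commute c m := hcB m hm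
    exact (h1.zpow_left k).symm
  have hr := MonoidHom.noncommCoprod_range B.subtype (Subgroup.zpowers c).subtype comm
  rw [Subgroup.range_subtype, Subgroup.range_subtype] at hr
  have hc1 : c ≠ 1 := fun h => hc (h ▸ B.one_mem)
  have hord : orderOf c = 2 := orderOf_eq_prime hc2 hc1
  have hdisj : Disjoint B (Subgroup.zpowers c) := by
    rw [Subgroup.disjoint_def]
    intro x hxB hxz
    obtain ⟨k, rfl⟩ := Subgroup.mem_zpowers_iff.mp hxz
    rcases Int.even_or_odd k with ⟨j, rfl⟩ | ⟨j, rfl⟩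
    · rw [← two_mul, zpow_mul, zpow_ofNat, hc2, one_zpow]
    · exfalso
      have : c ^ (2 * j + 1) = c := by
        rw [zpow_add, zpow_mul, zpow_ofNat, hc2, one_zpow, one_mul, zpow_one]
      rw [this] at hxB
      exact hc hxB
  have hinj : Function.Injective (MonoidHom.noncommCoprod B.subtype (Subgroup.zpowers c).subtype comm) := by
    rw [MonoidHom.noncommCoprod_injective]
    refine ⟨B.subtype_injective, (Subgroup.zpowers c).subtype_injective, ?_⟩
    rw [Subgroup.range_subtype, Subgroup.range_subtype]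
    exact hdisj
  have e := MonoidHom.ofInjective hinj
  rw [← hr, ← Nat.card_congr e.toEquiv, Nat.card_prod, Nat.card_zpowers, hord, mul_comm]



/-- intermediate subgroups of 2-power order -/
theorem exists_between_card_two_pow [Finite X] {D A : Subgroup X} (hDA : D ≤ A) {n j m : ℕ}
    (hA : Nat.card ↥A = 2 ^ n) (hD : Nat.card ↥D = 2 ^ j) (hjm : j ≤ m) (hmn : m ≤ n) :
    ∃ A₀ : Subgroup X, D ≤ A₀ ∧ A₀ ≤ A ∧ Nat.card ↥A₀ = 2 ^ m := by
  have : Fact (Nat.Prime 2) := ⟨Nat.prime_two⟩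
  have hdvd : 2 ^ m ∣ Nat.card ↥A := by
    rw [hA]; exact pow_dvd_pow 2 hmn
  have hD' : Nat.card ↥(D.subgroupOf A) = 2 ^ j := by
    rw [← hD]
    exact Nat.card_congr (Subgroup.subgroupOfEquivOfLe hDA).toEquiv
  obtain ⟨K, hK, hDK⟩ := Sylow.exists_subgroup_card_pow_prime_le 2 hdvd (D.subgroupOf A) hD' hjm
  refine ⟨K.map A.subtype, ?_, Subgroup.map_subtype_le K, ?_⟩
  · intro d hd
    exact ⟨⟨d, hDA hd⟩, hDK (by rw [Subgroup.mem_subgroupOf]; exact hd), rfl⟩
  · rw [← hK]
    exact Nat.card_congr (K.equivMapOfInjective A.subtype A.subtype_injective).symm.toEquiv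



/-- one step of the centralizer chain -/
theorem card_cent_step [Finite X] {E : Subgroup X} [E.Normal] (hE : EA2 E)
    {D : Subgroup X} {a : X} (ha2 : a ^ 2 = 1) (haD : ∀ d ∈ D, a * d = d * a) :
    Nat.card ↥(E ⊓ Subgroup.centralizer (D : Set X)) ≤
      Nat.card ↥(E ⊓ Subgroup.centralizer ((D ⊔ Subgroup.zpowers a : Subgroup X) : Set X)) ^ 2 := by
  have hF : EA2 (E ⊓ Subgroup.centralizer (D : Set X)) := hE.mono inf_le_left
  have hn : ∀ x ∈ E ⊓ Subgroup.centralizer (D : Set X),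
      a * x * a⁻¹ ∈ E ⊓ Subgroup.centralizer (D : Set X) := by
    intro x hx
    rw [Subgroup.mem_inf] at hx ⊢
    refine ⟨Subgroup.Normal.conj_mem inferInstance x hx.1 a, ?_⟩
    rw [Subgroup.mem_centralizer_iff]
    intro d hd
    have h1 : d * x = x * d := (Subgroup.mem_centralizer_iff.mp hx.2) d hd
    have h2 := haD d hd
    have h3 : a⁻¹ * d = d * a⁻¹ := by
      calc a⁻¹ * d = a⁻¹ * (d * a) * a⁻¹ := by group
        _ = a⁻¹ * (a * d) * a⁻¹ := by rw [h2]
        _ = d * a⁻¹ := by group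
    calc d * (a * x * a⁻¹) = (d * a) * x * a⁻¹ := by group
      _ = (a * d) * x * a⁻¹ := by rw [h2]
      _ = a * (d * x) * a⁻¹ := by group
      _ = a * (x * d) * a⁻¹ := by rw [h1]
      _ = a * x * (d * a⁻¹) := by group
      _ = a * x * (a⁻¹ * d) := by rw [h3]
      _ = a * x * a⁻¹ * d := by group
  have h1 := card_le_sq_centralizer (E ⊓ Subgroup.centralizer (D : Set X)) hF a ha2 hn
  have hle : E ⊓ Subgroup.centralizer (D : Set X) ⊓ Subgroup.centralizer {a} ≤
      E ⊓ Subgroup.centralizer ((D ⊔ Subgroup.zpowers a : Subgroup X) : Set X) := by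
    intro x hx
    rw [Subgroup.mem_inf, Subgroup.mem_inf] at hx
    obtain ⟨⟨hxE, hxD⟩, hxa⟩ := hx
    rw [Subgroup.mem_inf]
    refine ⟨hxE, ?_⟩
    have hsup : D ⊔ Subgroup.zpowers a ≤ Subgroup.centralizer {x} := by
      apply sup_le
      · intro d hd
        rw [Subgroup.mem_centralizer_singleton_iff]
        exact ((Subgroup.mem_centralizer_iff.mp hxD) d hd)
      · rw [Subgroup.zpowers_le, Subgroup.mem_centralizer_singleton_iff]
        exact (Subgroup.mem_centralizer_singleton_iff.mp hxa).symm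
    rw [Subgroup.mem_centralizer_iff]
    intro y hy
    have := hsup hy
    rw [Subgroup.mem_centralizer_singleton_iff] at this
    exact this
  calc Nat.card ↥(E ⊓ Subgroup.centralizer (D : Set X))
      ≤ Nat.card ↥(E ⊓ Subgroup.centralizer (D : Set X) ⊓ Subgroup.centralizer {a}) ^ 2 := h1
    _ ≤ _ := Nat.pow_le_pow_left (Subgroup.card_le_of_le hle) 2

/-- the chain bound -/
theorem card_cent_chain [Finite X] {E : Subgroup X} [E.Normal] (hE : EA2 E)
    {A : Subgroup X} (hA : EA2 A) :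
    ∀ (k : ℕ) (D : Subgroup X), D ≤ A → k * Nat.card ↥D = Nat.card ↥A →
      Nat.card ↥(E ⊓ Subgroup.centralizer (D : Set X)) ≤
        Nat.card ↥(E ⊓ Subgroup.centralizer (A : Set X)) ^ k := by
  intro k
  induction k using Nat.strong_induction_on with
  | _ k ih =>
    intro D hDA hk
    have hApos : 0 < Nat.card ↥A := Nat.card_pos
    have hkpos : 0 < k := by
      rcases Nat.eq_zero_or_pos k with h | h
      · rw [h, zero_mul] at hk; omega
      · exact h
    by_cases hAD : A ≤ D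
    · have : D = A := le_antisymm hDA hAD
      subst this
      have hfpos : 0 < Nat.card ↥(E ⊓ Subgroup.centralizer (D : Set X)) := Nat.card_pos
      calc Nat.card ↥(E ⊓ Subgroup.centralizer (D : Set X))
          = Nat.card ↥(E ⊓ Subgroup.centralizer (D : Set X)) ^ 1 := (pow_one _).symm
        _ ≤ _ := Nat.pow_le_pow_right hfpos hkpos
    · obtain ⟨a, haA, haD⟩ := SetLike.not_le_iff_exists.mp hAD
      have ha2 : a ^ 2 = 1 := hA.2 a haA
      have hcomm : ∀ d ∈ D, a * d = d * a := fun d hd => hA.1 a haA d (hDA hd)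
      have hcard := card_sup_zpowers ha2 hcomm haD
      have hle : D ⊔ Subgroup.zpowers a ≤ A := sup_le hDA (by rw [Subgroup.zpowers_le]; exact haA)
      obtain ⟨k', hk'⟩ := Subgroup.card_dvd_of_le hle
      -- card A = card D'' * k'
      have hk2 : k = 2 * k' := by
        have hDpos : 0 < Nat.card ↥D := Nat.card_pos
        have : k * Nat.card ↥D = (2 * k') * Nat.card ↥D := by
          rw [hk, hk', hcard]; ring
        exact Nat.eq_of_mul_eq_mul_right hDpos this
      have hk'lt : k' < k := by omega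
      have ih' := ih k' hk'lt (D ⊔ Subgroup.zpowers a) hle (by rw [hk', mul_comm])
      have hstep := card_cent_step (E := E) hE (D := D) ha2 hcomm
      calc Nat.card ↥(E ⊓ Subgroup.centralizer (D : Set X))
          ≤ Nat.card ↥(E ⊓ Subgroup.centralizer ((D ⊔ Subgroup.zpowers a : Subgroup X) : Set X)) ^ 2 := hstep
        _ ≤ (Nat.card ↥(E ⊓ Subgroup.centralizer (A : Set X)) ^ k') ^ 2 := Nat.pow_le_pow_left ih' 2
        _ = _ := by rw [← pow_mul, hk2, mul_comm]

/-- (H): if `C_E(A) ≤ A` then `|E| ≤ |A ⊓ E| ^ |A : A ⊓ E|`. -/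
theorem card_le_pow_of_centralizer_le [Finite X] {E : Subgroup X} [E.Normal] (hE : EA2 E)
    {A : Subgroup X} (hA : EA2 A) (hc : E ⊓ Subgroup.centralizer (A : Set X) ≤ A)
    {k : ℕ} (hk : k * Nat.card ↥(A ⊓ E) = Nat.card ↥A) :
    Nat.card ↥E ≤ Nat.card ↥(A ⊓ E) ^ k := by
  have h1 := card_cent_chain hE hA k (A ⊓ E) inf_le_left hk
  have h2 : E ⊓ Subgroup.centralizer ((A ⊓ E : Subgroup X) : Set X) = E := by
    apply le_antisymm inf_le_left
    intro x hx
    rw [Subgroup.mem_inf]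
    refine ⟨hx, ?_⟩
    rw [Subgroup.mem_centralizer_iff]
    intro d hd
    exact hE.1 d (Subgroup.mem_inf.mp hd).2 x hx
  rw [h2] at h1
  have h3 : E ⊓ Subgroup.centralizer (A : Set X) ≤ A ⊓ E := le_inf hc inf_le_left
  calc Nat.card ↥E ≤ Nat.card ↥(E ⊓ Subgroup.centralizer (A : Set X)) ^ k := h1
    _ ≤ _ := Nat.pow_le_pow_left (Subgroup.card_le_of_le h3) k



/-- adjacency on elementary abelian 2-subgroups of order `2 ^ n`: elementwise commuting -/
def Adj2 (n : ℕ) (C D : Subgroup X) : Prop :=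
  (EA2 C ∧ Nat.card ↥C = 2 ^ n) ∧ (EA2 D ∧ Nat.card ↥D = 2 ^ n) ∧
    ∀ c ∈ C, ∀ d ∈ D, c * d = d * c

theorem Adj2.symm {n : ℕ} {C D : Subgroup X} (h : Adj2 n C D) : Adj2 n D C :=
  ⟨h.2.1, h.1, fun d hd c hc => (h.2.2 c hc d hd).symm⟩

theorem reflTransGen_reverse {α : Type*} {r : α → α → Prop} (hs : ∀ a b, r a b → r b a)
    {a b : α} (h : Relation.ReflTransGen r a b) : Relation.ReflTransGen r b a := by
  induction h with
  | refl => exact Relation.ReflTransGen.refl
  | tail _ hbc ih => exact Relation.ReflTransGen.head (hs _ _ hbc) ih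

theorem adj2_step [Finite X] {E : Subgroup X} (hE : EA2 E) {n : ℕ} {A : Subgroup X}
    (hA : EA2 A) (hAc : Nat.card ↥A = 2 ^ n) (hAE : ¬ A ≤ E)
    {c : X} (hcE : c ∈ E) (hcA : ∀ a ∈ A, c * a = a * c) (hcn : c ∉ A) :
    ∃ A' : Subgroup X, Adj2 n A A' ∧ Nat.card ↥(A ⊓ E) < Nat.card ↥(A' ⊓ E) := by
  have hc2 : c ^ 2 = 1 := hE.2 c hcE
  obtain ⟨j, hjn, hj⟩ := (Nat.dvd_prime_pow Nat.prime_two).mp
    (hAc ▸ Subgroup.card_dvd_of_le (inf_le_left : A ⊓ E ≤ A))
  have hjne : j ≠ n := by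
    intro h
    apply hAE
    have : A ⊓ E = A := by
      apply Subgroup.eq_of_le_of_card_ge inf_le_left
      rw [hj, hAc, h]
    rw [← this]; exact inf_le_right
  have hjn' : j ≤ n - 1 := by omega
  obtain ⟨A₀, hDA₀, hA₀A, hA₀c⟩ :=
    exists_between_card_two_pow (inf_le_left : A ⊓ E ≤ A) hAc hj hjn' (Nat.sub_le n 1)
  have hcA₀ : ∀ b ∈ A₀, c * b = b * c := fun b hb => hcA b (hA₀A hb)
  have hcnA₀ : c ∉ A₀ := fun h => hcn (hA₀A h)
  have hEA' : EA2 (A₀ ⊔ Subgroup.zpowers c) := (hA.mono hA₀A).sup_zpowers hc2 hcA₀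
  have hcard' : Nat.card ↥(A₀ ⊔ Subgroup.zpowers c) = 2 ^ n := by
    rw [card_sup_zpowers hc2 hcA₀ hcnA₀, hA₀c, ← pow_succ']
    congr 1; omega
  refine ⟨A₀ ⊔ Subgroup.zpowers c, ⟨⟨hA, hAc⟩, ⟨hEA', hcard'⟩, ?_⟩, ?_⟩
  · intro a ha b hb
    have hsup : A₀ ⊔ Subgroup.zpowers c ≤ Subgroup.centralizer {a} := by
      apply sup_le
      · intro d hd
        rw [Subgroup.mem_centralizer_singleton_iff]
        exact hA.1 d (hA₀A hd) a ha
      · rw [Subgroup.zpowers_le, Subgroup.mem_centralizer_singleton_iff]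
        exact hcA a ha
    have := hsup hb
    rw [Subgroup.mem_centralizer_singleton_iff] at this
    exact this.symm
  · have hcD : ∀ b ∈ A ⊓ E, c * b = b * c := fun b hb => hcA b (Subgroup.mem_inf.mp hb).1
    have hcnD : c ∉ A ⊓ E := fun h => hcn (Subgroup.mem_inf.mp h).1
    have h1 := card_sup_zpowers hc2 hcD hcnD
    have hle : (A ⊓ E) ⊔ Subgroup.zpowers c ≤ (A₀ ⊔ Subgroup.zpowers c) ⊓ E := by
      apply sup_le
      · exact le_inf (hDA₀.trans le_sup_left) inf_le_right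
      · rw [Subgroup.zpowers_le, Subgroup.mem_inf]
        exact ⟨Subgroup.mem_sup_right (Subgroup.mem_zpowers c), hcE⟩
    have h2 := Subgroup.card_le_of_le hle
    have hpos : 0 < Nat.card ↥(A ⊓ E) := Nat.card_pos
    omega

theorem adj2_reach_inside [Finite X] {E : Subgroup X} (hE : EA2 E) {n : ℕ}
    (hc : ∀ A : Subgroup X, EA2 A → Nat.card ↥A = 2 ^ n →
      ∃ c ∈ E, (∀ a ∈ A, c * a = a * c) ∧ c ∉ A) :
    ∀ (m : ℕ) (A : Subgroup X), EA2 A → Nat.card ↥A = 2 ^ n →
      Nat.card ↥E - Nat.card ↥(A ⊓ E) = m →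
      ∃ A' : Subgroup X, EA2 A' ∧ Nat.card ↥A' = 2 ^ n ∧ A' ≤ E ∧
        Relation.ReflTransGen (Adj2 n) A A' := by
  intro m
  induction m using Nat.strong_induction_on with
  | _ m ih =>
    intro A hA hAc hm
    by_cases hAE : A ≤ E
    · exact ⟨A, hA, hAc, hAE, Relation.ReflTransGen.refl⟩
    · obtain ⟨c, hcE, hcA, hcn⟩ := hc A hA hAc
      obtain ⟨A', hadj, hlt⟩ := adj2_step hE hA hAc hAE hcE hcA hcn
      have hle : Nat.card ↥(A' ⊓ E) ≤ Nat.card ↥E := Subgroup.card_le_of_le inf_le_right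
      obtain ⟨A'', hA'', hA''c, hA''E, hchain⟩ :=
        ih (Nat.card ↥E - Nat.card ↥(A' ⊓ E)) (by omega) A' hadj.2.1.1 hadj.2.1.2 rfl
      exact ⟨A'', hA'', hA''c, hA''E, Relation.ReflTransGen.head hadj hchain⟩

theorem adj2_connected [Finite X] {E : Subgroup X} (hE : EA2 E) {n : ℕ}
    (hc : ∀ A : Subgroup X, EA2 A → Nat.card ↥A = 2 ^ n →
      ∃ c ∈ E, (∀ a ∈ A, c * a = a * c) ∧ c ∉ A)
    (A B : Subgroup X) (hA : EA2 A) (hAc : Nat.card ↥A = 2 ^ n)
    (hB : EA2 B) (hBc : Nat.card ↥B = 2 ^ n) :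
    Relation.ReflTransGen (Adj2 n) A B := by
  obtain ⟨A', hA', hA'c, hA'E, hchainA⟩ := adj2_reach_inside hE hc _ A hA hAc rfl
  obtain ⟨B', hB', hB'c, hB'E, hchainB⟩ := adj2_reach_inside hE hc _ B hB hBc rfl
  have hchainB' : Relation.ReflTransGen (Adj2 n) B' B :=
    reflTransGen_reverse (fun _ _ h => h.symm) hchainB
  have hmid : Adj2 n A' B' :=
    ⟨⟨hA', hA'c⟩, ⟨hB', hB'c⟩, fun a ha b hb => hE.1 a (hA'E ha) b (hB'E hb)⟩
  exact hchainA.trans (Relation.ReflTransGen.head hmid hchainB')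

/-- existence of a centralizing element outside `A`, from the counting bound -/
theorem exists_cent_not_mem [Finite X] {E : Subgroup X} [E.Normal] (hE : EA2 E)
    {A : Subgroup X} (hA : EA2 A)
    (hbound : ∀ k : ℕ, k * Nat.card ↥(A ⊓ E) = Nat.card ↥A →
      Nat.card ↥(A ⊓ E) ^ k < Nat.card ↥E) :
    ∃ c ∈ E, (∀ a ∈ A, c * a = a * c) ∧ c ∉ A := by
  by_contra hcon
  push Not at hcon
  have hc : E ⊓ Subgroup.centralizer (A : Set X) ≤ A := by
    intro x hx
    rw [Subgroup.mem_inf] at hx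
    apply hcon x hx.1
    intro a ha
    exact ((Subgroup.mem_centralizer_iff.mp hx.2) a ha).symm
  obtain ⟨k, hk⟩ := Subgroup.card_dvd_of_le (inf_le_left : A ⊓ E ≤ A)
  have hk' : k * Nat.card ↥(A ⊓ E) = Nat.card ↥A := by rw [hk, mul_comm]
  have h1 := card_le_pow_of_centralizer_le hE hA hc hk'
  have h2 := hbound k hk'
  omega


theorem bound_eight {k d e : ℕ} (h : k * d = 8) (he : 32 ≤ e) : d ^ k < e := by
  have hk : k ≤ 8 := Nat.le_of_dvd (by norm_num) ⟨d, h.symm⟩
  have hd : d ≤ 8 := Nat.le_of_dvd (by norm_num) ⟨k, by rw [← h, mul_comm]⟩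
  interval_cases k <;> interval_cases d <;> omega

theorem bound_four {k d e : ℕ} (h : k * d = 4) (he : 8 ≤ e) : d ^ k < e := by
  have hk : k ≤ 4 := Nat.le_of_dvd (by norm_num) ⟨d, h.symm⟩
  have hd : d ≤ 4 := Nat.le_of_dvd (by norm_num) ⟨k, by rw [← h, mul_comm]⟩
  interval_cases k <;> interval_cases d <;> omega

/-- Connectivity of the commuting graph on elementary abelian subgroups of order 8, given a normal
elementary abelian 2-subgroup of order at least 32. -/
theorem adj2_connected_eight [Finite X] {E : Subgroup X} [E.Normal] (hE : EA2 E)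
    (hE32 : 32 ≤ Nat.card ↥E)
    (A B : Subgroup X) (hA : EA2 A) (hAc : Nat.card ↥A = 2 ^ 3)
    (hB : EA2 B) (hBc : Nat.card ↥B = 2 ^ 3) :
    Relation.ReflTransGen (Adj2 3) A B :=
  adj2_connected hE (fun A' hA' hA'c => exists_cent_not_mem hE hA'
    (fun k hk => bound_eight (by rw [hk, hA'c]; norm_num) hE32)) A B hA hAc hB hBc

/-- Connectivity of the commuting graph on four-subgroups, given a normal
elementary abelian 2-subgroup of order at least 8. -/
theorem adj2_connected_four [Finite X] {E : Subgroup X} [E.Normal] (hE : EA2 E)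
    (hE8 : 8 ≤ Nat.card ↥E)
    (A B : Subgroup X) (hA : EA2 A) (hAc : Nat.card ↥A = 2 ^ 2)
    (hB : EA2 B) (hBc : Nat.card ↥B = 2 ^ 2) :
    Relation.ReflTransGen (Adj2 2) A B :=
  adj2_connected hE (fun A' hA' hA'c => exists_cent_not_mem hE hA'
    (fun k hk => bound_four (by rw [hk, hA'c]; norm_num) hE8)) A B hA hAc hB hBc

/-- An elementary abelian subgroup of order 4 lies in one of order 8, given a normal
elementary abelian 2-subgroup of order at least 32 (8 suffices for the count). -/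
theorem exists_eight_of_four [Finite X] {E : Subgroup X} [E.Normal] (hE : EA2 E)
    (hE8 : 8 ≤ Nat.card ↥E) (V : Subgroup X) (hV : EA2 V) (hVc : Nat.card ↥V = 4) :
    ∃ A : Subgroup X, V ≤ A ∧ EA2 A ∧ Nat.card ↥A = 8 := by
  obtain ⟨c, hcE, hcV, hcn⟩ := exists_cent_not_mem hE hV
    (fun k hk => bound_four (by rw [hk, hVc]) hE8)
  have hc2 : c ^ 2 = 1 := hE.2 c hcE
  refine ⟨V ⊔ Subgroup.zpowers c, le_sup_left, hV.sup_zpowers hc2 hcV, ?_⟩
  rw [card_sup_zpowers hc2 hcV hcn, hVc]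

theorem isKleinFour_iff (U : Subgroup X) : IsKleinFour ↥U ↔ EA2 U ∧ Nat.card ↥U = 2 ^ 2 := by
  constructor
  · intro h
    refine ⟨⟨?_, ?_⟩, by rw [h.card_four]; norm_num⟩
    · intro a ha b hb
      have := mul_comm_of_exponent_two h.exponent_two (⟨a, ha⟩ : ↥U) ⟨b, hb⟩
      exact congrArg Subtype.val this
    · intro a ha
      have : (⟨a, ha⟩ : ↥U) ^ 2 = 1 := by
        rw [← h.exponent_two]; exact Monoid.pow_exponent_eq_one _
      exact congrArg Subtype.val this
  · rintro ⟨hU, hc⟩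
    refine ⟨by rw [hc]; norm_num, ?_⟩
    have hdvd : Monoid.exponent ↥U ∣ 2 := by
      apply Monoid.exponent_dvd_of_forall_pow_eq_one
      intro g
      apply Subtype.ext
      simpa using hU.2 g g.2
    rcases (Nat.dvd_prime Nat.prime_two).mp hdvd with h1 | h2
    · exfalso
      rw [Monoid.exp_eq_one_iff] at h1
      have := Nat.card_eq_one_iff_unique.mpr ⟨h1, ⟨1⟩⟩
      rw [hc] at this
      norm_num at this
    · exact h2

end Cfsg.Agent.Lib.Helper30
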