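import Mathlib
import Cfsg.Agent.Lib.Helper22.LocalCore
import Cfsg.Agent.Lib.Helper30.BenderPair

set_option autoImplicit false

/-!
Components moved or centralized by an involution `t` are centralized by odd-order
subgroups `D ≤ C(t)` normalized by `C(t)`; existence of an "unbalancing" component.
-/

namespace Cfsg.Agent.Lib.Helper30

open Subgroup Cfsg
open scoped commutatorElement
open Cfsg.Agent.Lib.Helper22 Cfsg.Agent.Lib.Helper21

section ub

variable {X : Type*} [Group X]

/-- If all commutators `[d, e]` centralize the perfect group `L`, then `D` centralizes `L`. -/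
theorem ub_centralizes_of_comm_central {L D : Subgroup X} (hperf : ⁅L, L⁆ = L)
    (h : ∀ e ∈ L, ∀ d ∈ D, ⁅d, e⁆ ∈ centralizer (L : Set X)) : D ≤ centralizer (L : Set X) := by
  have h1 : ⁅D, L⁆ ≤ centralizer (L : Set X) := by
    rw [Subgroup.commutator_le]
    intro d hd e he
    exact h e he d hd
  have h2 : ⁅⁅D, L⁆, L⁆ = ⊥ := by
    rw [Subgroup.commutator_eq_bot_iff_le_centralizer]
    exact h1
  have h3 := commutator_eq_bot_of_perfect hperf h2
  rwa [Subgroup.commutator_eq_bot_iff_le_centralizer] at h3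

/-- In a perfect group with all `m`-th powers central (`m` odd), the order is odd. -/
theorem ub_card_coprime_of_pow_central {Q : Type*} [Group Q] [Finite Q]
    (hperf : commutator Q = ⊤) {m : ℕ} (hm : m.Coprime 2)
    (h : ∀ a : Q, a ^ m ∈ Subgroup.center Q) : (Nat.card Q).Coprime 2 := by
  apply Cfsg.Agent.Lib.Helper54.card_coprime_of_index_center_coprime 2 hperf
  rw [Nat.coprime_comm, Nat.Prime.coprime_iff_not_dvd Nat.prime_two]
  intro hdvd
  rw [Subgroup.index_eq_card] at hdvd
  have : Fact (Nat.Prime 2) := ⟨Nat.prime_two⟩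
  obtain ⟨x, hx⟩ := exists_prime_orderOf_dvd_card' 2 hdvd
  obtain ⟨a, rfl⟩ := QuotientGroup.mk_surjective x
  have h1 : ((a : Q ⧸ Subgroup.center Q)) ^ m = 1 := by
    rw [← QuotientGroup.mk_pow, QuotientGroup.eq_one_iff]
    exact h a
  have h2 : 2 ∣ m := by
    rw [← hx]
    exact orderOf_dvd_of_pow_eq_one h1
  have h3 : Nat.gcd m 2 = 2 := Nat.gcd_eq_right h2
  rw [Nat.Coprime, h3] at hm
  omega

/-- A component moved by the involution `t` is centralized by every odd-order subgroup `D`
normalizing `L` and `L^t` and normalized by `C(t)`. -/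
theorem ub_centralizes_of_moved [Finite X] (hO : pPrimeCore 2 X = ⊥) {L : Subgroup X}
    (hL : IsComponent L) {t : X} (ht : t ^ 2 = 1)
    (hmove : L.map (MulAut.conj t).toMonoidHom ≠ L)
    {D : Subgroup X} (hodd : (Nat.card D).Coprime 2)
    (hDL : D ≤ normalizer (L : Set X))
    (hDLt : D ≤ normalizer ((L.map (MulAut.conj t).toMonoidHom : Subgroup X) : Set X))
    (hDn : centralizer {t} ≤ normalizer (D : Set X)) : D ≤ centralizer (L : Set X) := by
  set Lt : Subgroup X := L.map (MulAut.conj t).toMonoidHom with hLt_def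
  have hLt : IsComponent Lt := isComponent_map_equiv (MulAut.conj t) hL
  have hperf : ⁅L, L⁆ = L := component_perfect hL
  have hcomm0 : ⁅L, Lt⁆ = ⊥ := components_commute hL hLt (Ne.symm hmove)
  have hcomm : ∀ a ∈ L, ∀ b ∈ Lt, a * b = b * a := by
    intro a ha b hb
    have h1 : L ≤ centralizer (Lt : Set X) :=
      Subgroup.commutator_eq_bot_iff_le_centralizer.mp hcomm0
    exact ((Subgroup.mem_centralizer_iff.mp (h1 ha)) b hb).symm
  have hconj : ∀ e ∈ L, t * e * t⁻¹ ∈ Lt := fun e he => ⟨e, he, rfl⟩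
  have htinv : t⁻¹ = t := by
    have : t * t = 1 := by rw [← pow_two]; exact ht
    exact inv_eq_of_mul_eq_one_left this
  -- diagonal elements centralize t
  have hdiag : ∀ e ∈ L, e * (t * e * t⁻¹) ∈ centralizer ({t} : Set X) := by
    intro e he
    rw [Subgroup.mem_centralizer_singleton_iff]
    have h1 := hcomm e he _ (hconj e he)
    have htt : t * t = 1 := by rw [← pow_two]; exact ht
    calc e * (t * e * t⁻¹) * t = (t * e * t⁻¹) * e * t := by rw [h1]
      _ = t * (e * (t * e * t⁻¹)) := by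
        rw [htinv]
        have e1 : t * e * t * e * t = t * e * (t * e * t) := by group
        have e2 : t * (e * (t * e * t)) = t * e * (t * e * t) := by group
        rw [e1, e2]
  -- commutator decomposition
  have hdec : ∀ e ∈ L, ∀ d ∈ D, (e * d * e⁻¹ * d⁻¹) * ((t * e * t⁻¹) * d * (t * e * t⁻¹)⁻¹ * d⁻¹) ∈ D := by
    intro e he d hd
    set e' := t * e * t⁻¹ with he'
    have he'L : e' ∈ Lt := hconj e he
    have hδ := hDn (hdiag e he)
    have h1 : (e * e') * d * (e * e')⁻¹ ∈ D := (Subgroup.mem_normalizer_iff.mp hδ d).mp hd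
    have h2 : (e * e') * d * (e * e')⁻¹ * d⁻¹ ∈ D := D.mul_mem h1 (D.inv_mem hd)
    -- c' = e' d e'⁻¹ d⁻¹ ∈ Lt
    have hc' : e' * d * e'⁻¹ * d⁻¹ ∈ Lt := by
      have h3 : d * e'⁻¹ * d⁻¹ ∈ Lt :=
        (Subgroup.mem_normalizer_iff.mp (hDLt hd) e'⁻¹).mp (Lt.inv_mem he'L)
      have e3 : e' * d * e'⁻¹ * d⁻¹ = e' * (d * e'⁻¹ * d⁻¹) := by group
      rw [e3]
      exact Lt.mul_mem he'L h3
    have hcc := hcomm e he _ hc'
    have e4 : (e * e') * d * (e * e')⁻¹ * d⁻¹ =
        (e * (e' * d * e'⁻¹ * d⁻¹)) * (d * e⁻¹ * d⁻¹) := by group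
    have e5 : (e * d * e⁻¹ * d⁻¹) * (e' * d * e'⁻¹ * d⁻¹) =
        ((e' * d * e'⁻¹ * d⁻¹) * e) * (d * e⁻¹ * d⁻¹) := by
      have hc : e * d * e⁻¹ * d⁻¹ ∈ L := by
        have h3 : d * e⁻¹ * d⁻¹ ∈ L :=
          (Subgroup.mem_normalizer_iff.mp (hDL hd) e⁻¹).mp (L.inv_mem he)
        have e3 : e * d * e⁻¹ * d⁻¹ = e * (d * e⁻¹ * d⁻¹) := by group
        rw [e3]
        exact L.mul_mem he h3
      rw [hcomm _ hc _ hc']
      group
    rw [e5, ← hcc, ← e4]
    exact h2
  -- the subgroup H = (D ⊓ (L ⊔ Lt)) ... we argue directly via the projection subgroup R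
  let R : Subgroup X :=
    { carrier := {a | a ∈ L ∧ ∃ b ∈ Lt, a * b ∈ D}
      one_mem' := ⟨L.one_mem, 1, Lt.one_mem, by simp⟩
      mul_mem' := by
        rintro a a' ⟨ha, b, hb, hab⟩ ⟨ha', b', hb', hab'⟩
        refine ⟨L.mul_mem ha ha', b * b', Lt.mul_mem hb hb', ?_⟩
        have h1 := hcomm a' ha' b hb
        have e1 : a * a' * (b * b') = (a * b) * (a' * b') := by
          calc a * a' * (b * b') = a * (a' * b) * b' := by group
            _ = a * (b * a') * b' := by rw [h1]
            _ = (a * b) * (a' * b') := by group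
        rw [e1]
        exact D.mul_mem hab hab'
      inv_mem' := by
        rintro a ⟨ha, b, hb, hab⟩
        refine ⟨L.inv_mem ha, b⁻¹, Lt.inv_mem hb, ?_⟩
        have h1 := hcomm a ha b hb
        have e1 : a⁻¹ * b⁻¹ = (a * b)⁻¹ := by
          rw [h1, mul_inv_rev]
        rw [e1]
        exact D.inv_mem hab }
  have hRL : R ≤ L := fun a ha => ha.1
  have hRn : L ≤ normalizer (R : Set X) := by
    apply Cfsg.Agent.Lib.Helper46.le_normalizer_of_conj_mem
    rintro g hg a ⟨ha, b, hb, hab⟩
    set g' := t * g * t⁻¹ with hg'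
    have hg'L : g' ∈ Lt := hconj g hg
    refine ⟨L.mul_mem (L.mul_mem hg ha) (L.inv_mem hg), g' * b * g'⁻¹,
      Lt.mul_mem (Lt.mul_mem hg'L hb) (Lt.inv_mem hg'L), ?_⟩
    have hδ := hDn (hdiag g hg)
    have h1 : (g * g') * (a * b) * (g * g')⁻¹ ∈ D :=
      (Subgroup.mem_normalizer_iff.mp hδ (a * b)).mp hab
    have c1 := hcomm a ha g' hg'L
    have c2 := hcomm g hg b hb
    have c3 := hcomm g hg g' hg'L
    have c4 := hcomm g⁻¹ (L.inv_mem hg) (g' * b * g'⁻¹)
      (Lt.mul_mem (Lt.mul_mem hg'L hb) (Lt.inv_mem hg'L))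
    have e1 : (g * g') * (a * b) * (g * g')⁻¹ = g * (g' * a) * b * g'⁻¹ * g⁻¹ := by group
    have e2 : g * a * g⁻¹ * (g' * b * g'⁻¹) = g * a * ((g' * b * g'⁻¹) * g⁻¹) := by
      rw [← c4]; group
    rw [e2]
    rw [e1, ← c1] at h1
    have e3 : g * a * ((g' * b * g'⁻¹) * g⁻¹) = g * (a * g') * b * g'⁻¹ * g⁻¹ := by group
    rw [e3]
    exact h1
  have hRnorm : (R.subgroupOf L).Normal :=
    (Subgroup.normal_subgroupOf_iff_le_normalizer hRL).mpr hRn
  have hcR : ∀ e ∈ L, ∀ d ∈ D, e * d * e⁻¹ * d⁻¹ ∈ R := by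
    intro e he d hd
    refine ⟨?_, (t * e * t⁻¹) * d * (t * e * t⁻¹)⁻¹ * d⁻¹, ?_, hdec e he d hd⟩
    · have h3 : d * e⁻¹ * d⁻¹ ∈ L :=
        (Subgroup.mem_normalizer_iff.mp (hDL hd) e⁻¹).mp (L.inv_mem he)
      have e3 : e * d * e⁻¹ * d⁻¹ = e * (d * e⁻¹ * d⁻¹) := by group
      rw [e3]
      exact L.mul_mem he h3
    · have he'L : t * e * t⁻¹ ∈ Lt := hconj e he
      have h3 : d * (t * e * t⁻¹)⁻¹ * d⁻¹ ∈ Lt :=
        (Subgroup.mem_normalizer_iff.mp (hDLt hd) _).mp (Lt.inv_mem he'L)
      have e3 : (t * e * t⁻¹) * d * (t * e * t⁻¹)⁻¹ * d⁻¹ =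
          (t * e * t⁻¹) * (d * (t * e * t⁻¹)⁻¹ * d⁻¹) := by group
      rw [e3]
      exact Lt.mul_mem he'L h3
  rcases quasisimple_subnormal hL.2 hRnorm.isSubnormal with hR | hR
  · -- R = L : all m-th powers central, so |L| odd
    exfalso
    have hpow : ∀ a : ↥L, a ^ (Nat.card D) ∈ Subgroup.center ↥L := by
      intro a
      have haR : (a : X) ∈ R := by
        have : a ∈ R.subgroupOf L := by rw [hR]; exact Subgroup.mem_top a
        exact Subgroup.mem_subgroupOf.mp this
      obtain ⟨-, b, hb, hab⟩ := haR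
      have h1 : ((a : X) * b) ^ (Nat.card D) = 1 := by
        have h0 : (⟨(a : X) * b, hab⟩ : ↥D) ^ (Nat.card D) = 1 := pow_card_eq_one'
        have := congrArg Subtype.val h0
        rw [Subgroup.coe_pow] at this
        exact this
      have hc : Commute (a : X) b := hcomm _ a.2 b hb
      rw [hc.mul_pow] at h1
      have h2 : (a : X) ^ (Nat.card D) = (b ^ (Nat.card D))⁻¹ := eq_inv_of_mul_eq_one_left h1
      have h3 : (a : X) ^ (Nat.card D) ∈ Lt := by
        rw [h2]; exact Lt.inv_mem (Lt.pow_mem hb _)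
      rw [Subgroup.mem_center_iff]
      intro y
      apply Subtype.ext
      have := hcomm _ y.2 _ h3
      simpa using this
    have hperf' : commutator ↥L = ⊤ := hL.2.1.commutator_eq_top
    have := ub_card_coprime_of_pow_central hperf' hodd hpow
    exact Cfsg.Agent.Lib.Helper54.component_not_coprime' 2 hO hL this
  · -- R central
    apply ub_centralizes_of_comm_central hperf
    intro e he d hd
    have h1 : e * d * e⁻¹ * d⁻¹ ∈ R := hcR e he d hd
    have h2 : (⟨e * d * e⁻¹ * d⁻¹, hRL h1⟩ : ↥L) ∈ Subgroup.center ↥L :=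
      hR (Subgroup.mem_subgroupOf.mpr h1)
    have h3 : e * d * e⁻¹ * d⁻¹ ∈ centralizer (L : Set X) := by
      rw [Subgroup.mem_centralizer_iff]
      intro y hy
      have := (Subgroup.mem_center_iff.mp h2) ⟨y, hy⟩
      exact congrArg Subtype.val this
    have e1 : ⁅d, e⁆ = (e * d * e⁻¹ * d⁻¹)⁻¹ := by
      rw [commutatorElement_def]; group
    rw [e1]
    exact inv_mem h3

/-- `F(X) = O_2(X)` when `O(X) = 1`. -/
theorem ub_fitting_eq_pCore [Finite X] (hO : pPrimeCore 2 X = ⊥) :
    fittingSubgroup X = pCore 2 X := by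
  have h2 : Fact (Nat.Prime 2) := ⟨Nat.prime_two⟩
  rw [fittingSubgroup_eq_iSup_pCore]
  apply le_antisymm
  · apply iSup_le
    intro q
    by_cases hq : (q : ℕ) = 2
    · rw [hq]
    · have : Fact (q : ℕ).Prime := ⟨q.2⟩
      have := pCore_le_pPrimeCore (G := X) (p := 2) (q := (q : ℕ)) hq
      rw [hO] at this
      exact this.trans bot_le
  · exact le_iSup (fun q : Nat.Primes => pCore (q : ℕ) X) ⟨2, Nat.prime_two⟩

/-- Existence of an unbalancing component. -/
theorem ub_exists_component [Finite X] (hO : pPrimeCore 2 X = ⊥) (t : X) (ht : t ^ 2 = 1)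
    (D : Subgroup X) (hodd : (Nat.card D).Coprime 2)
    (hDt : D ≤ centralizer ({t} : Set X))
    (hDn : centralizer ({t} : Set X) ≤ normalizer (D : Set X))
    (Y : Subgroup X) (hYD : Y ≤ D) (hY1 : Y ≠ ⊥) :
    ∃ L : Subgroup X, IsComponent L ∧ t ∈ normalizer (L : Set X) ∧ Y ≤ normalizer (L : Set X) ∧
      t ∉ centralizer (L : Set X) ∧ ¬ Y ≤ centralizer (L : Set X) := by
  have h2 : Fact (Nat.Prime 2) := ⟨Nat.prime_two⟩
  -- the local-prime structure
  have hP : IsPGroup 2 (zpowers t) := by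
    intro x
    refine ⟨1, ?_⟩
    obtain ⟨x, hx⟩ := x
    obtain ⟨k, rfl⟩ := Subgroup.mem_zpowers_iff.mp hx
    apply Subtype.ext
    simp only [pow_one, Subgroup.coe_pow, Subgroup.coe_one]
    rw [← zpow_natCast, ← zpow_mul, mul_comm, zpow_mul, zpow_natCast, ht, one_zpow]
  have hzc : centralizer ({t} : Set X) ≤ normalizer ((zpowers t : Subgroup X) : Set X) := by
    intro g hg
    have hgt : g * t = t * g := Subgroup.mem_centralizer_singleton_iff.mp hg
    have : g ∈ centralizer ((zpowers t : Subgroup X) : Set X) := by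
      rw [Subgroup.mem_centralizer_iff]
      intro z hz
      obtain ⟨k, rfl⟩ := Subgroup.mem_zpowers_iff.mp hz
      have hc : Commute g t := hgt
      exact ((hc.zpow_right k).eq).symm
    exact Subgroup.centralizer_le_normalizer _ this
  have hnz : normalizer ((zpowers t : Subgroup X) : Set X) ≤ centralizer ({t} : Set X) := by
    intro g hg
    rw [Subgroup.mem_centralizer_singleton_iff]
    have h1 : g * t * g⁻¹ ∈ zpowers t :=
      (Subgroup.mem_normalizer_iff.mp hg t).mp (Subgroup.mem_zpowers t)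
    obtain ⟨k, hk⟩ := Subgroup.mem_zpowers_iff.mp h1
    -- t^k is 1 or t
    rcases Int.emod_two_eq_zero_or_one k with hk2 | hk2
    · have : t ^ k = 1 := by
        have : k = 2 * (k / 2) := by omega
        rw [this, zpow_mul, zpow_ofNat, ht, one_zpow]
      rw [this] at hk
      have : t = 1 := by
        have h3 : g * t * g⁻¹ = 1 := hk.symm
        have : t = g⁻¹ * (g * t * g⁻¹) * g := by group
        rw [this, h3]; group
      rw [this]; simp
    · have : t ^ k = t := by
        have : k = 2 * (k / 2) + 1 := by omega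
        rw [this, zpow_add, zpow_mul, zpow_ofNat, ht, one_zpow, one_mul, zpow_one]
      rw [this] at hk
      have : g * t = (g * t * g⁻¹) * g := by group
      rw [this, ← hk]
  have hLP : Cfsg.Agent.Lib.Helper22.LocalCore.LocalPrime 2 (zpowers t) D :=
    { isP := hP
      le := hDt.trans hzc
      norm := hnz.trans hDn
      cop := hodd }
  have hDcomp : ∀ L : Subgroup X, IsComponent L → D ≤ normalizer (L : Set X) :=
    fun L hL => hLP.le_normalizer_component hO hL
  have hDO2 : D ≤ centralizer (pCore 2 X : Set X) := hLP.le_centralizer_pCore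
  -- some component is not centralized by Y
  have hex : ∃ L : Subgroup X, IsComponent L ∧ ¬ Y ≤ centralizer (L : Set X) := by
    by_contra hcon
    push Not at hcon
    apply hY1
    have hlay : layer X ≤ centralizer (Y : Set X) := by
      unfold layer
      apply sSup_le
      intro L hL
      exact Subgroup.le_centralizer_iff.mp (hcon L hL)
    have hfit : fittingSubgroup X ≤ centralizer (Y : Set X) := by
      rw [ub_fitting_eq_pCore hO]
      exact Subgroup.le_centralizer_iff.mp (hYD.trans hDO2)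
    have hgen : generalizedFittingSubgroup X ≤ centralizer (Y : Set X) := by
      unfold generalizedFittingSubgroup
      exact sup_le hlay hfit
    have hYc : Y ≤ centralizer (generalizedFittingSubgroup X : Set X) :=
      Subgroup.le_centralizer_iff.mp hgen
    have hYF : Y ≤ generalizedFittingSubgroup X :=
      hYc.trans (centralizer_generalizedFitting_le X)
    -- Z = F* ∩ C(F*) is abelian normal
    set Z : Subgroup X := generalizedFittingSubgroup X ⊓
      centralizer (generalizedFittingSubgroup X : Set X) with hZ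
    have hFn : (generalizedFittingSubgroup X).Normal := generalizedFittingSubgroup_normal X
    have hCn : (centralizer (generalizedFittingSubgroup X : Set X)).Normal := inferInstance
    have hZn : Z.Normal := Subgroup.normal_inf_normal _ _ 
    have hZc : IsMulCommutative ↥Z := by
      refine ⟨⟨fun a b => ?_⟩⟩
      apply Subtype.ext
      have := (Subgroup.mem_centralizer_iff.mp b.2.2) a a.2.1
      simpa using this
    have hZnil : Group.IsNilpotent ↥Z := isNilpotent_of_isMulCommutative ↥Z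
    have hZF : Z ≤ fittingSubgroup X := le_fittingSubgroup hZn hZnil
    have hYZ : Y ≤ pCore 2 X := by
      rw [← ub_fitting_eq_pCore hO]
      exact (le_inf hYF hYc).trans hZF
    have := Cfsg.Agent.Lib.Helper22.LocalCore.inf_eq_bot_of_isPGroup_of_coprime
      (pCore_isPGroup' 2 X) (Nat.Coprime.coprime_dvd_left (Subgroup.card_dvd_of_le hYD) hodd)
    rw [eq_bot_iff, ← this]
    exact le_inf hYZ le_rfl
  obtain ⟨L, hL, hYL⟩ := hex
  refine ⟨L, hL, ?_, hYD.trans (hDcomp L hL), ?_, hYL⟩
  · -- t normalizes L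
    by_contra htn
    apply hYL
    have hmove : L.map (MulAut.conj t).toMonoidHom ≠ L := by
      intro h
      apply htn
      rw [Cfsg.Agent.Lib.Helper54.mem_normalizer_iff_map_conj_eq]
      exact h
    have hLt : IsComponent (L.map (MulAut.conj t).toMonoidHom) :=
      isComponent_map_equiv (MulAut.conj t) hL
    exact hYD.trans (ub_centralizes_of_moved hO hL ht hmove hodd (hDcomp L hL) (hDcomp _ hLt) hDn)
  · -- t does not centralize L
    intro htc
    apply hYL
    have hLc : L ≤ centralizer ({t} : Set X) := by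
      intro e he
      rw [Subgroup.mem_centralizer_singleton_iff]
      exact ((Subgroup.mem_centralizer_iff.mp htc) e he)
    rcases bp_component_le_or_commutes hL (hLc.trans hDn) with h | h
    · exfalso
      have : (Nat.card L).Coprime 2 :=
        Nat.Coprime.coprime_dvd_left (Subgroup.card_dvd_of_le h) hodd
      exact Cfsg.Agent.Lib.Helper54.component_not_coprime' 2 hO hL this
    · have : L ≤ centralizer (D : Set X) := Subgroup.commutator_eq_bot_iff_le_centralizer.mp h
      exact hYD.trans (Subgroup.le_centralizer_iff.mp this)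

/-- The image in `G` of a characteristic subgroup of `K` is normalized by `N_G(K)`. -/
theorem ub_normalizer_le_of_char {G : Type*} [Group G] (K : Subgroup G) (C : Subgroup ↥K)
    [hC : C.Characteristic] :
    Subgroup.normalizer (K : Set G) ≤ Subgroup.normalizer ((C.map K.subtype : Subgroup G) : Set G) := by
  apply Cfsg.Agent.Lib.Helper46.le_normalizer_of_conj_mem
  rintro g hg _ ⟨x, hx, rfl⟩
  have h1 : C.map (Subgroup.normalizerMonoidHom K ⟨g, hg⟩).toMonoidHom = C :=
    Subgroup.characteristic_iff_map_eq.mp hC _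
  have h2 : (Subgroup.normalizerMonoidHom K ⟨g, hg⟩) x ∈ C := by
    rw [← h1]
    exact Subgroup.mem_map_of_mem _ hx
  exact ⟨_, h2, rfl⟩

/-- If all squares of `X` lie in the normal subgroup `H` and `H` has no nontrivial normal
subgroup of odd order, then neither has `X`. -/
theorem ub_oddCore_eq_bot_of_squares [Finite X] (H : Subgroup X) [hH : H.Normal]
    (hsq : ∀ x : X, x ^ 2 ∈ H)
    (hOH : ∀ N : Subgroup X, N.Normal → N ≤ H → (Nat.card N).Coprime 2 → N = ⊥) :
    pPrimeCore 2 X = ⊥ := by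
  have hNn : (pPrimeCore 2 X).Normal := pPrimeCore_normal' 2 X
  have hNc : (Nat.card (pPrimeCore 2 X)).Coprime 2 := pPrimeCore_card_coprime 2
  have h1 : pPrimeCore 2 X ⊓ H = ⊥ := by
    apply hOH _ (Subgroup.normal_inf_normal _ _) inf_le_right
    exact Nat.Coprime.coprime_dvd_left (Subgroup.card_dvd_of_le inf_le_left) hNc
  rw [eq_bot_iff]
  intro n hn
  rw [Subgroup.mem_bot]
  have h2 : n ^ 2 = 1 := by
    have : n ^ 2 ∈ pPrimeCore 2 X ⊓ H := ⟨pow_mem hn 2, hsq n⟩
    rw [h1] at this
    exact this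
  have h3 : orderOf n ∣ 2 := orderOf_dvd_of_pow_eq_one h2
  have h4 : orderOf n ∣ Nat.card (pPrimeCore 2 X) := by
    have : orderOf (⟨n, hn⟩ : ↥(pPrimeCore 2 X)) ∣ Nat.card (pPrimeCore 2 X) := orderOf_dvd_natCard _
    rwa [Subgroup.orderOf_mk] at this
  have h5 : orderOf n ∣ Nat.gcd (Nat.card (pPrimeCore 2 X)) 2 := Nat.dvd_gcd h4 h3
  rw [Nat.Coprime.gcd_eq_one hNc, Nat.dvd_one] at h5
  exact orderOf_eq_one_iff.mp h5

/-- If all squares lie in `H`, every perfect subgroup lies in `H`. -/
theorem ub_perfect_le_of_squares (H : Subgroup X) (hsq : ∀ x : X, x ^ 2 ∈ H)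
    {L : Subgroup X} (hperf : ⁅L, L⁆ = L) : L ≤ H := by
  rw [← hperf, Subgroup.commutator_le]
  intro a _ b _
  have e : ⁅a, b⁆ = a ^ 2 * (a⁻¹ * b) ^ 2 * (b⁻¹) ^ 2 := by
    rw [commutatorElement_def]; simp only [pow_two]; group
  rw [e]
  exact H.mul_mem (H.mul_mem (hsq a) (hsq _)) (hsq _)

end ub

end Cfsg.Agent.Lib.Helper30
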