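import Mathlib
import Cfsg.Agent.Lib.Helper30.ThompsonWielandt
import Cfsg.Agent.Lib.Helper30.CoreIndex

set_option autoImplicit false

/-!
Wielandt's bound towards the Sims conjecture, for a pair of conjugate core-free maximal
subgroups.
-/

namespace Cfsg.Agent.Lib.Helper30

open Subgroup
open Cfsg.Agent.Lib.Helper62

universe u

variable {G : Type u} [Group G] [Finite G]

omit [Finite G] in
theorem twCore_subgroupOf (M Y : Subgroup G) :
    (twCore M Y).subgroupOf M = (Y.subgroupOf M).normalCore := by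
  unfold twCore Subgroup.subgroupOf
  exact Subgroup.comap_map_eq_self_of_injective M.subtype_injective _

/-- The second core has index dividing `d! ((d-1)!)^d`. -/
theorem tw_index_dvd (M M' : Subgroup G) (d : ℕ) (hd : (M ⊓ M').relIndex M = d)
    (hd' : (M ⊓ M').relIndex M' = d) :
    (((twCore M (M ⊓ M') ⊓ twCore M' (M ⊓ M')).subgroupOf M).normalCore).index ∣
      d.factorial * ((d - 1).factorial) ^ d := by
  set K := twCore M (M ⊓ M') with hKdef
  set K' := twCore M' (M ⊓ M') with hK'def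
  have hKM : K ≤ M := twCore_le_left _ _
  have hK'M' : K' ≤ M' := twCore_le_left _ _
  have hKD : K ≤ M ⊓ M' := twCore_le_right _ _
  have hK'D : K' ≤ M ⊓ M' := twCore_le_right _ _
  have hKn : M ≤ normalizer (K : Set G) := twCore_norm _ _
  have hK'n : M' ≤ normalizer (K' : Set G) := twCore_norm _ _
  set H₁ : Subgroup ↥M := (M ⊓ M').subgroupOf M with hH₁
  set K₁ : Subgroup ↥M := H₁.normalCore with hK₁
  have hK₁ : K.subgroupOf M = K₁ := twCore_subgroupOf M (M ⊓ M')
  have hK₁map : K₁.map M.subtype = K := rfl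
  set T₁ : Subgroup ↥M := (K ⊓ K').subgroupOf M with hT₁
  have hK₁n : K₁.Normal := Subgroup.normalCore_normal _
  have hT₁K₁ : T₁ ≤ K₁ := by
    rw [← hK₁]
    intro x hx
    exact mem_subgroupOf.mpr (mem_subgroupOf.mp hx).1
  have hnT : K ≤ normalizer ((K ⊓ K' : Subgroup G) : Set G) :=
    le_normalizer_inf le_normalizer ((hKD.trans inf_le_right).trans hK'n)
  have hnD : M ⊓ M' ≤ normalizer ((K ⊓ K' : Subgroup G) : Set G) :=
    le_normalizer_inf (inf_le_left.trans hKn) (inf_le_right.trans hK'n)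
  have h1 : K₁ ≤ normalizer (T₁ : Set ↥M) := by
    apply bp_le_normalizer_subgroupOf
    rw [hK₁map]; exact hnT
  have h2 : H₁ ≤ normalizer (T₁ : Set ↥M) := by
    apply bp_le_normalizer_subgroupOf
    rw [hH₁, Subgroup.map_subgroupOf_eq_of_le inf_le_left]; exact hnD
  have hH₁idx : H₁.index = d := hd
  have c3 := relIndex_normalCore_dvd_pow K₁ T₁ H₁ h1 h2
  rw [hH₁idx] at c3
  -- `|K : K ⊓ K'|` divides `(d-1)!`
  have hrel : T₁.relIndex K₁ = K'.relIndex K := by
    rw [← hK₁, hT₁, relIndex_subgroupOf hKM, inf_relIndex_left]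
  have c2 : K'.relIndex K ∣ (d - 1).factorial := by
    have hZ : K.subgroupOf M' ≤ (M ⊓ M').subgroupOf M' := by
      intro x hx
      exact mem_subgroupOf.mpr (hKD (mem_subgroupOf.mp hx))
    have := relIndex_normalCore_dvd_factorial ((M ⊓ M').subgroupOf M') (K.subgroupOf M') hZ
    rw [← twCore_subgroupOf M' (M ⊓ M'), relIndex_subgroupOf (hKD.trans inf_le_right)] at this
    have hidx : ((M ⊓ M').subgroupOf M').index = d := hd'
    rwa [hidx] at this
  have c1 : K₁.index ∣ d.factorial := by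
    have := index_normalCore_dvd_factorial H₁
    rwa [hH₁idx] at this
  have hle : T₁.normalCore ≤ K₁ := (Subgroup.normalCore_le _).trans hT₁K₁
  rw [← relIndex_mul_index hle, mul_comm]
  apply mul_dvd_mul c1
  rw [hrel] at c3
  exact c3.trans (pow_dvd_pow_of_dvd c2 d)

omit [Finite G] in
theorem card_eq_relIndex_mul_card {H K : Subgroup G} (h : H ≤ K) :
    Nat.card K = H.relIndex K * Nat.card H := by
  have h1 := Subgroup.card_mul_index (H.subgroupOf K)
  have h2 : Nat.card (H.subgroupOf K) = Nat.card H :=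
    Nat.card_congr (Subgroup.subgroupOfEquivOfLe h).toEquiv
  rw [h2] at h1
  rw [← h1, mul_comm]
  rfl

/-- Wielandt's bound: a normal `p`-subgroup of `M₁` inside `M₂` of index dividing
`d! ((d-1)!)^d`. -/
theorem wielandt_bound (M₁ M₂ : Subgroup G) (hmax : IsCoatom M₁) (g : G)
    (hconj : M₂ = M₁.map (MulAut.conj g).toMonoidHom) (hne : M₁ ≠ M₂)
    (hcore : M₁.normalCore = ⊥) (d : ℕ) (hd : (M₁ ⊓ M₂).relIndex M₁ = d) :
    ∃ p : ℕ, p.Prime ∧ ∃ P : Subgroup ↥M₁, P.Normal ∧ IsPGroup p P ∧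
      (∀ x : P, ((x : ↥M₁) : G) ∈ M₂) ∧
      P.index ∣ d.factorial * ((d - 1).factorial) ^ d := by
  have hcard : Nat.card M₂ = Nat.card M₁ := by
    rw [hconj]
    exact (Nat.card_congr (M₁.equivMapOfInjective _ (MulAut.conj g).injective).toEquiv).symm
  have hd' : (M₁ ⊓ M₂).relIndex M₂ = d := by
    have e1 := card_eq_relIndex_mul_card (inf_le_left : M₁ ⊓ M₂ ≤ M₁)
    have e2 := card_eq_relIndex_mul_card (inf_le_right : M₁ ⊓ M₂ ≤ M₂)
    rw [hcard, e1, hd] at e2
    have hpos : 0 < Nat.card ↥(M₁ ⊓ M₂) := Nat.card_pos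
    exact (Nat.eq_of_mul_eq_mul_right hpos e2).symm
  set K := twCore M₁ (M₁ ⊓ M₂) with hKdef
  set K' := twCore M₂ (M₁ ⊓ M₂) with hK'def
  set A := twCore M₁ (K ⊓ K') with hAdef
  set A' := twCore M₂ (K ⊓ K') with hA'def
  have hidx := tw_index_dvd M₁ M₂ d hd hd'
  have hidx' : (((K ⊓ K').subgroupOf M₂).normalCore).index ∣
      d.factorial * ((d - 1).factorial) ^ d := by
    have := tw_index_dvd M₂ M₁ d (by rw [inf_comm]; exact hd') (by rw [inf_comm]; exact hd)
    rw [inf_comm M₂ M₁, inf_comm (twCore M₂ (M₁ ⊓ M₂))] at this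
    exact this
  have hmem : ∀ x : (((K ⊓ K').subgroupOf M₁).normalCore : Subgroup ↥M₁),
      ((x : ↥M₁) : G) ∈ M₂ := by
    intro x
    have h1 := Subgroup.normalCore_le _ x.2
    have h2 : ((x : ↥M₁) : G) ∈ K ⊓ K' := mem_subgroupOf.mp h1
    exact twCore_le_left _ _ h2.2
  by_cases hA : A = ⊥
  · refine ⟨2, Nat.prime_two, ((K ⊓ K').subgroupOf M₁).normalCore,
      Subgroup.normalCore_normal _, ?_, hmem, hidx⟩
    have hbot : ((K ⊓ K').subgroupOf M₁).normalCore = ⊥ := by
      have : (((K ⊓ K').subgroupOf M₁).normalCore).map M₁.subtype = ⊥ := hA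
      rwa [Subgroup.map_eq_bot_iff_of_injective _ M₁.subtype_injective] at this
    rw [hbot]
    exact IsPGroup.of_bot
  by_cases hA' : A' = ⊥
  · refine ⟨2, Nat.prime_two, ⊥, inferInstance, IsPGroup.of_bot, ?_, ?_⟩
    · intro x
      have : ((x : ↥M₁) : G) = 1 := by
        have := x.2
        rw [Subgroup.mem_bot] at this
        rw [this]; rfl
      rw [this]; exact M₂.one_mem
    · have hbot : ((K ⊓ K').subgroupOf M₂).normalCore = ⊥ := by
        have : (((K ⊓ K').subgroupOf M₂).normalCore).map M₂.subtype = ⊥ := hA'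
        rwa [Subgroup.map_eq_bot_iff_of_injective _ M₂.subtype_injective] at this
      rw [hbot, Subgroup.index_bot, hcard] at hidx'
      rw [Subgroup.index_bot]
      exact hidx'
  · obtain ⟨p, hp, hpg, -⟩ := thompson_wielandt M₁ M₂ hmax g hconj hne hcore K K' A A'
      rfl rfl rfl rfl hA hA'
    refine ⟨p, hp, ((K ⊓ K').subgroupOf M₁).normalCore, Subgroup.normalCore_normal _, ?_,
      hmem, hidx⟩
    have hAp : IsPGroup p A := hpg.to_le le_sup_left
    exact IsPGroup.of_injective hAp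
      ((((K ⊓ K').subgroupOf M₁).normalCore).equivMapOfInjective M₁.subtype
        M₁.subtype_injective).toMonoidHom
      ((((K ⊓ K').subgroupOf M₁).normalCore).equivMapOfInjective M₁.subtype
        M₁.subtype_injective).injective

/-- Either `|M₁|` divides `d! ((d-1)!)^d`, or the second core of `M₁` is a nontrivial `p`-group
and `F*(M₁) = O_p(M₁)`. -/
theorem wielandt_alternative (M₁ M₂ : Subgroup G) (hmax : IsCoatom M₁) (g : G)
    (hconj : M₂ = M₁.map (MulAut.conj g).toMonoidHom) (hne : M₁ ≠ M₂)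
    (hcore : M₁.normalCore = ⊥) (d : ℕ) (hd : (M₁ ⊓ M₂).relIndex M₁ = d) :
    Nat.card ↥M₁ ∣ d.factorial * ((d - 1).factorial) ^ d ∨
      (twCore M₁ (twCore M₁ (M₁ ⊓ M₂) ⊓ twCore M₂ (M₁ ⊓ M₂)) ≠ ⊥ ∧
        ∃ p : ℕ, p.Prime ∧
          IsPGroup p ↥(twCore M₁ (twCore M₁ (M₁ ⊓ M₂) ⊓ twCore M₂ (M₁ ⊓ M₂))) ∧
          Cfsg.generalizedFittingSubgroup ↥M₁ = Cfsg.pCore p ↥M₁) := by
  have hcard : Nat.card M₂ = Nat.card M₁ := by
    rw [hconj]
    exact (Nat.card_congr (M₁.equivMapOfInjective _ (MulAut.conj g).injective).toEquiv).symm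
  have hd' : (M₁ ⊓ M₂).relIndex M₂ = d := by
    have e1 := card_eq_relIndex_mul_card (inf_le_left : M₁ ⊓ M₂ ≤ M₁)
    have e2 := card_eq_relIndex_mul_card (inf_le_right : M₁ ⊓ M₂ ≤ M₂)
    rw [hcard, e1, hd] at e2
    have hpos : 0 < Nat.card ↥(M₁ ⊓ M₂) := Nat.card_pos
    exact (Nat.eq_of_mul_eq_mul_right hpos e2).symm
  set K := twCore M₁ (M₁ ⊓ M₂) with hKdef
  set K' := twCore M₂ (M₁ ⊓ M₂) with hK'def
  set A := twCore M₁ (K ⊓ K') with hAdef
  set A' := twCore M₂ (K ⊓ K') with hA'def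
  have hidx := tw_index_dvd M₁ M₂ d hd hd'
  have hidx' : (((K ⊓ K').subgroupOf M₂).normalCore).index ∣
      d.factorial * ((d - 1).factorial) ^ d := by
    have := tw_index_dvd M₂ M₁ d (by rw [inf_comm]; exact hd') (by rw [inf_comm]; exact hd)
    rw [inf_comm M₂ M₁, inf_comm (twCore M₂ (M₁ ⊓ M₂))] at this
    exact this
  by_cases hA : A = ⊥
  · left
    have hbot : ((K ⊓ K').subgroupOf M₁).normalCore = ⊥ := by
      have : (((K ⊓ K').subgroupOf M₁).normalCore).map M₁.subtype = ⊥ := hA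
      rwa [Subgroup.map_eq_bot_iff_of_injective _ M₁.subtype_injective] at this
    rw [hbot, Subgroup.index_bot] at hidx
    exact hidx
  by_cases hA' : A' = ⊥
  · left
    have hbot : ((K ⊓ K').subgroupOf M₂).normalCore = ⊥ := by
      have : (((K ⊓ K').subgroupOf M₂).normalCore).map M₂.subtype = ⊥ := hA'
      rwa [Subgroup.map_eq_bot_iff_of_injective _ M₂.subtype_injective] at this
    rw [hbot, Subgroup.index_bot, hcard] at hidx'
    exact hidx'
  · right
    obtain ⟨p, hp, hpg, hF, -⟩ := thompson_wielandt M₁ M₂ hmax g hconj hne hcore K K' A A'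
      rfl rfl rfl rfl hA hA'
    exact ⟨hA, p, hp, hpg.to_le le_sup_left, hF⟩

omit [Finite G] in
/-- A subgroup normalized by two distinct conjugate core-free maximal subgroups is trivial. -/
theorem tw_eq_bot_of_normalized (M₁ M₂ : Subgroup G) (hmax : IsCoatom M₁) (g : G)
    (hconj : M₂ = M₁.map (MulAut.conj g).toMonoidHom) (hne : M₁ ≠ M₂)
    (hcore : M₁.normalCore = ⊥) {X : Subgroup G} (h1 : M₁ ≤ normalizer (X : Set G))
    (h2 : M₂ ≤ normalizer (X : Set G)) (h3 : X ≤ M₁) : X = ⊥ := by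
  have hmax2 : IsCoatom M₂ := by
    rw [hconj]
    exact ((MulEquiv.mapSubgroup (MulAut.conj g)).isCoatom_iff M₁).mpr hmax
  have hsup : M₁ ⊔ M₂ = ⊤ := by
    apply hmax.2
    apply lt_of_le_of_ne le_sup_left
    intro h
    have h21 : M₂ ≤ M₁ := by
      have : M₂ ≤ M₁ ⊔ M₂ := le_sup_right
      rwa [← h] at this
    rcases eq_or_lt_of_le h21 with e | e
    · exact hne e.symm
    · exact hmax.1 (hmax2.2 _ e)
  have h4 : M₁ ⊔ M₂ ≤ normalizer (X : Set G) := sup_le h1 h2
  rw [hsup] at h4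
  have hXn : X.Normal := Subgroup.normalizer_eq_top_iff.mp (eq_top_iff.mpr h4)
  have : X ≤ M₁.normalCore := Subgroup.normal_le_normalCore.mpr h3
  rw [hcore] at this
  exact eq_bot_iff.mpr this

/-- In a `p`-group `S`, a subgroup `R` whose normalizer meets `S` inside `R` is all of `S`. -/
theorem tw_le_of_normalizer_inf_le {r : ℕ} [Fact r.Prime] {R S : Subgroup G} (hRS : R ≤ S)
    (hS : IsPGroup r S) (hN : S ⊓ normalizer (R : Set G) ≤ R) : S ≤ R := by
  have hnil : Group.IsNilpotent ↥S := hS.isNilpotent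
  have htop : R.subgroupOf S = ⊤ := by
    by_contra hne
    have hlt : R.subgroupOf S < ⊤ := lt_top_iff_ne_top.mpr hne
    have hnc := Group.normalizerCondition_of_isNilpotent (G := ↥S) _ hlt
    obtain ⟨s, hsN, hsQ⟩ := SetLike.exists_of_lt hnc
    have hsn : (s : G) ∈ normalizer (R : Set G) := by
      rw [mem_normalizer_iff]
      intro x
      have key := mem_normalizer_iff.mp hsN
      constructor
      · intro hx
        have hxS : x ∈ S := hRS hx
        have := (key ⟨x, hxS⟩).mp (mem_subgroupOf.mpr hx)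
        exact mem_subgroupOf.mp this
      · intro hx
        have hxS' : (s : G) * x * (s : G)⁻¹ ∈ S := hRS hx
        have hxS : x ∈ S := by
          have h2 := S.mul_mem (S.mul_mem (S.inv_mem s.2) hxS') s.2
          have e : (s : G)⁻¹ * ((s : G) * x * (s : G)⁻¹) * (s : G) = x := by group
          rwa [e] at h2
        have := (key ⟨x, hxS⟩).mpr (mem_subgroupOf.mpr hx)
        exact mem_subgroupOf.mp this
    exact hsQ (mem_subgroupOf.mpr (hN ⟨s.2, hsn⟩))
  exact subgroupOf_eq_top.mp htop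

/-- If every normal `r`-subgroup of `D = M₁ ∩ M₂` lies in the first core `K`, then
`O_r(D) = 1`. -/
theorem tw_pCore_inf_eq_bot (M₁ M₂ : Subgroup G) (hmax : IsCoatom M₁) (g : G)
    (hconj : M₂ = M₁.map (MulAut.conj g).toMonoidHom) (hne : M₁ ≠ M₂)
    (hcore : M₁.normalCore = ⊥) (r : ℕ) [hr : Fact r.Prime]
    (hK : ∀ R : Subgroup G, R ≤ M₁ ⊓ M₂ → IsPGroup r R →
      M₁ ⊓ M₂ ≤ normalizer (R : Set G) → R ≤ twCore M₁ (M₁ ⊓ M₂)) :
    Cfsg.pCore r ↥(M₁ ⊓ M₂) = ⊥ := by
  set D := M₁ ⊓ M₂ with hD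
  set K := twCore M₁ D with hKdef
  set R := bpO D r with hRdef
  set Q := bpO M₁ r with hQdef
  set Q' := bpO M₂ r with hQ'def
  have hKM : K ≤ M₁ := twCore_le_left _ _
  have hKD : K ≤ D := twCore_le_right _ _
  have hKn : M₁ ≤ normalizer (K : Set G) := twCore_norm _ _
  have hRD : R ≤ D := bpO_le D r
  have hRp : IsPGroup r R := bpO_isPGroup D r
  have hRn : D ≤ normalizer (R : Set G) := le_normalizer_bpO D r
  have hRK : R ≤ K := hK R hRD hRp hRn
  have hSnK : SnIn K M₁ := snIn_of_le_normalizer hKM hKn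
  have hRQ : R ≤ Q := by
    have s1 : SnIn R K := snIn_of_le_normalizer hRK (hKD.trans hRn)
    exact le_bpO_of_subnormal (hRK.trans hKM) hRp (s1.trans hSnK).2
  have hQn : M₁ ≤ normalizer (Q : Set G) := le_normalizer_bpO M₁ r
  have hQ'n : M₂ ≤ normalizer (Q' : Set G) := le_normalizer_bpO M₂ r
  have hnormal_le : ∀ X : Subgroup G, X ≤ D → IsPGroup r X → D ≤ normalizer (X : Set G) →
      X ≤ R := by
    intro X hXD hXp hXn
    exact le_bpO_of_subnormal hXD hXp (snIn_of_le_normalizer hXD hXn).2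
  have hReq : R = Q ⊓ K := by
    apply le_antisymm (le_inf hRQ hRK)
    apply hnormal_le _ (inf_le_right.trans hKD) ((bpO_isPGroup M₁ r).to_le inf_le_left)
    exact le_normalizer_inf (inf_le_left.trans hQn) (inf_le_left.trans hKn)
  have hRnM : M₁ ≤ normalizer (R : Set G) := by
    rw [hReq]; exact le_normalizer_inf hQn hKn
  have hbot : R = ⊥ := by
    by_contra hR
    have hNR : normalizer (R : Set G) ≤ M₁ :=
      tw_normalizer_le hmax hcore R hR (hRD.trans inf_le_left) hRnM
    set S := R ⊔ Q' with hSdef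
    have hSp : IsPGroup r S :=
      IsPGroup.to_sup_of_normal_right' hRp (bpO_isPGroup M₂ r)
        ((hRD.trans inf_le_right).trans hQ'n)
    have hSM₂ : S ≤ M₂ := sup_le (hRD.trans inf_le_right) (bpO_le M₂ r)
    have hDS : D ≤ normalizer (S : Set G) := le_normalizer_sup hRn (inf_le_right.trans hQ'n)
    have hSM : S ⊓ M₁ ≤ R := by
      apply hnormal_le _ _ (hSp.to_le inf_le_left)
      · exact le_normalizer_inf hDS (inf_le_left.trans le_normalizer)
      · exact le_inf inf_le_right (inf_le_left.trans hSM₂)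
    have hSR : S ≤ R := by
      apply tw_le_of_normalizer_inf_le le_sup_left hSp
      exact (inf_le_inf_left S hNR).trans hSM
    have hQ'Q : Q' ≤ Q := (le_sup_right.trans hSR).trans hRQ
    have hcardQ : Nat.card Q' = Nat.card Q := by
      have htr : Q.map (MulAut.conj g).toMonoidHom = Q' :=
        Cfsg.Agent.Lib.Helper87.pCore_map_subtype_equiv (MulAut.conj g) M₁ M₂ hconj.symm
      rw [← htr]
      exact (Nat.card_congr (Q.equivMapOfInjective _ (MulAut.conj g).injective).toEquiv).symm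
    have heq : Q' = Q := Subgroup.eq_of_le_of_card_ge hQ'Q (le_of_eq hcardQ.symm)
    have hQbot : Q = ⊥ := by
      apply tw_eq_bot_of_normalized M₁ M₂ hmax g hconj hne hcore hQn _ (bpO_le M₁ r)
      rw [← heq]; exact hQ'n
    apply hR
    rw [eq_bot_iff, ← hQbot]
    exact hRQ
  have : (Cfsg.pCore r ↥D).map D.subtype = ⊥ := hbot
  rwa [Subgroup.map_eq_bot_iff_of_injective _ D.subtype_injective] at this

/-- The group-theoretic data attached to a suborbit of a finite primitive permutation group. -/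
theorem tw_of_primitive {G : Type*} {Ω : Type*} [Group G] [Finite G] [MulAction G Ω]
    [FaithfulSMul G Ω] (hprim : MulAction.IsPreprimitive G Ω) (a b : Ω) (d : ℕ)
    (hd : Nat.card (MulAction.orbit (MulAction.stabilizer G a) b) = d) (h2 : 2 ≤ d) :
    ∃ g : G, IsCoatom (MulAction.stabilizer G a) ∧
      MulAction.stabilizer G b = (MulAction.stabilizer G a).map (MulAut.conj g).toMonoidHom ∧
      MulAction.stabilizer G a ≠ MulAction.stabilizer G b ∧
      (MulAction.stabilizer G a).normalCore = ⊥ ∧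
      (MulAction.stabilizer G a ⊓ MulAction.stabilizer G b).relIndex
        (MulAction.stabilizer G a) = d := by
  have hpt : MulAction.IsPretransitive G Ω := hprim.toIsPretransitive
  obtain ⟨g, hg⟩ := MulAction.exists_smul_eq G a b
  have hrel : (MulAction.stabilizer G a ⊓ MulAction.stabilizer G b).relIndex
      (MulAction.stabilizer G a) = d := by
    have e : (MulAction.stabilizer G a ⊓ MulAction.stabilizer G b).subgroupOf
        (MulAction.stabilizer G a) = MulAction.stabilizer (MulAction.stabilizer G a) b := by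
      ext x
      rw [Subgroup.mem_subgroupOf, Subgroup.mem_inf, MulAction.mem_stabilizer_iff]
      constructor
      · intro h; exact h.2
      · intro h; exact ⟨x.2, h⟩
    unfold Subgroup.relIndex
    rw [e, MulAction.index_stabilizer, ← hd, Nat.card_coe_set_eq]
  have hab : a ≠ b := by
    intro h
    have h1 : (MulAction.stabilizer G a ⊓ MulAction.stabilizer G b).relIndex
        (MulAction.stabilizer G a) = 1 := by
      rw [← h, inf_idem]; exact Subgroup.relIndex_self _
    omega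
  have hnt : Nontrivial Ω := ⟨⟨a, b, hab⟩⟩
  refine ⟨g, (MulAction.isCoatom_stabilizer_iff_preprimitive G a).mpr hprim, ?_, ?_, ?_, hrel⟩
  · rw [← hg]; exact MulAction.stabilizer_smul_eq_stabilizer_map_conj g a
  · intro h
    have h1 : (MulAction.stabilizer G a ⊓ MulAction.stabilizer G b).relIndex
        (MulAction.stabilizer G a) = 1 := by
      rw [← h, inf_idem]; exact Subgroup.relIndex_self _
    omega
  · rw [eq_bot_iff]
    intro x hx
    rw [Subgroup.mem_bot]
    apply FaithfulSMul.eq_of_smul_eq_smul (α := Ω)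
    intro c
    obtain ⟨k, hk⟩ := MulAction.exists_smul_eq G a c
    have h1 : k⁻¹ * x * k⁻¹⁻¹ ∈ MulAction.stabilizer G a := hx k⁻¹
    rw [MulAction.mem_stabilizer_iff] at h1
    rw [one_smul, ← hk]
    have e : x * k = k * (k⁻¹ * x * k⁻¹⁻¹) := by group
    rw [smul_smul, e, ← smul_smul, h1]

end Cfsg.Agent.Lib.Helper30
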