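import Mathlib
import Cfsg.Prelude.Def_TwoFusion

set_option autoImplicit false

/-!
Glauberman's `Z*`-theorem: elementary facts on isolated involutions and dihedral computations.
-/

namespace Cfsg.Agent.Lib.Helper30

open Cfsg
open scoped Pointwise

section basic

variable {G : Type*} [Group G]

theorem invol_mul_self {u : G} (hu : orderOf u = 2) : u * u = 1 := by
  have := pow_orderOf_eq_one u
  rwa [hu, sq] at this

theorem invol_inv {u : G} (hu : u * u = 1) : u⁻¹ = u := inv_eq_of_mul_eq_one_right hu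

theorem orderOf_eq_two_of {u : G} (h1 : u * u = 1) (h2 : u ≠ 1) : orderOf u = 2 := by
  have : Fact (Nat.Prime 2) := ⟨Nat.prime_two⟩
  exact orderOf_eq_prime (by rw [sq]; exact h1) h2

theorem invol_ne_one {u : G} (hu : orderOf u = 2) : u ≠ 1 := by
  intro h
  rw [h, orderOf_one] at hu
  omega

theorem orderOf_conj_eq (g u : G) : orderOf (g * u * g⁻¹) = orderOf u := by
  have : g * u * g⁻¹ = MulAut.conj g u := by simp
  rw [this, MulEquiv.orderOf_eq]

/-- Dihedral relation: `u` inverts `u * y`. -/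
theorem dih_conj {u y : G} (hu : u * u = 1) (hy : y * y = 1) :
    u * (u * y) * u⁻¹ = (u * y)⁻¹ := by
  rw [invol_inv hu, mul_inv_rev, invol_inv hu, invol_inv hy, ← mul_assoc, hu, one_mul]

theorem inv_conj_zpow {u w : G} (hw : u * w * u⁻¹ = w⁻¹) (i : ℤ) :
    u * w ^ i * u⁻¹ = w ^ (-i) := by
  rw [← conj_zpow, hw, inv_zpow']

theorem inv_zpow_mul {u w : G} (hw : u * w * u⁻¹ = w⁻¹) (i : ℤ) :
    w ^ i * u = u * w ^ (-i) := by
  have h := inv_conj_zpow hw (-i)
  rw [neg_neg] at h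
  rw [← h, mul_assoc, inv_mul_cancel, mul_one]

theorem inv_zpow_conj_left {u w : G} (hw : u * w * u⁻¹ = w⁻¹) (i : ℤ) :
    w ^ i * u * (w ^ i)⁻¹ = u * w ^ (-2 * i) := by
  rw [inv_zpow_mul hw, mul_assoc, ← zpow_neg, ← zpow_add]
  congr 2
  ring

theorem inv_zpow_conj_right {u w : G} (hw : u * w * u⁻¹ = w⁻¹) (i : ℤ) :
    w ^ i * (u * w) * (w ^ i)⁻¹ = u * w ^ (1 - 2 * i) := by
  have e1 : w ^ i * (u * w) * (w ^ i)⁻¹ = (w ^ i * u * (w ^ i)⁻¹) * (w ^ i * w * (w ^ i)⁻¹) := by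
    group
  have e2 : w ^ i * w * (w ^ i)⁻¹ = w := by
    have hc : Commute (w ^ i) w := (Commute.refl w).zpow_left i
    rw [hc.eq, mul_assoc, mul_inv_cancel, mul_one]
  rw [e1, e2, inv_zpow_conj_left hw, mul_assoc]
  congr 1
  have : w ^ (-2 * i) * w = w ^ (-2 * i + 1) := by
    rw [zpow_add, zpow_one]
  rw [this]
  congr 1
  ring

theorem dih_conj_zpow {u y : G} (hu : u * u = 1) (hy : y * y = 1) (i : ℤ) :
    u * (u * y) ^ i * u⁻¹ = (u * y) ^ (-i) :=
  inv_conj_zpow (dih_conj hu hy) i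

theorem dih_zpow_conj_left {u y : G} (hu : u * u = 1) (hy : y * y = 1) (i : ℤ) :
    (u * y) ^ i * u * ((u * y) ^ i)⁻¹ = u * (u * y) ^ (-2 * i) :=
  inv_zpow_conj_left (dih_conj hu hy) i

theorem dih_zpow_conj_right {u y : G} (hu : u * u = 1) (hy : y * y = 1) (i : ℤ) :
    (u * y) ^ i * y * ((u * y) ^ i)⁻¹ = u * (u * y) ^ (1 - 2 * i) := by
  have h := inv_zpow_conj_right (dih_conj hu hy) i
  have hy' : u * (u * y) = y := by rw [← mul_assoc, hu, one_mul]
  rw [hy'] at h
  exact h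

/-- If `u * y` has odd order, `y` is conjugate to `u`. -/
theorem dih_conj_of_odd {u y : G} (hu : u * u = 1) (hy : y * y = 1) (r : ℕ)
    (ho : orderOf (u * y) = 2 * r + 1) : ∃ d : G, d * u * d⁻¹ = y := by
  refine ⟨(u * y) ^ (r : ℤ), ?_⟩
  rw [dih_zpow_conj_left hu hy]
  have h1 : (u * y) ^ ((2 * r + 1 : ℕ) : ℤ) = 1 := by
    rw [zpow_natCast, ← ho]
    exact pow_orderOf_eq_one _
  have h2 : (u * y) ^ (-2 * (r : ℤ)) = u * y := by
    have : (-2 * (r : ℤ)) = 1 - ((2 * r + 1 : ℕ) : ℤ) := by push_cast; ring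
    rw [this, zpow_sub, h1, inv_one, mul_one, zpow_one]
  rw [h2, ← mul_assoc, hu, one_mul]

/-- If `u * y` has even order `2 * m`, then `z = (u * y) ^ m` is an involution commuting
with `u`. -/
theorem dih_even_central {u y : G} (hu : u * u = 1) (hy : y * y = 1) (m : ℕ) (hm : 0 < m)
    (ho : orderOf (u * y) = 2 * m) :
    orderOf ((u * y) ^ m) = 2 ∧ u * (u * y) ^ m = (u * y) ^ m * u := by
  have h2m : (u * y) ^ (2 * m) = 1 := by
    rw [← ho]; exact pow_orderOf_eq_one _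
  refine ⟨?_, ?_⟩
  · rw [orderOf_pow_of_dvd (by omega) (by rw [ho]; exact dvd_mul_left _ _), ho]
    exact Nat.mul_div_cancel _ hm
  · have h := dih_conj_zpow hu hy ((m : ℕ) : ℤ)
    have h3 : (u * y) ^ (-((m : ℕ) : ℤ)) = (u * y) ^ m := by
      have e : (-((m : ℕ) : ℤ)) = ((m : ℕ) : ℤ) - ((2 * m : ℕ) : ℤ) := by
        push_cast; ring
      rw [e, zpow_sub, zpow_natCast, zpow_natCast, h2m, inv_one, mul_one]
    rw [h3, zpow_natCast] at h
    calc u * (u * y) ^ m = (u * (u * y) ^ m * u⁻¹) * u := by group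
      _ = (u * y) ^ m * u := by rw [h]

/-- With `m = 2 * r + 1`: `u * (u * y) ^ m` is conjugate to `y` under a power of `u * y`. -/
theorem dih_even_odd {u y : G} (hu : u * u = 1) (hy : y * y = 1) (r : ℕ) :
    (u * y) ^ (-(r : ℤ)) * y * ((u * y) ^ (-(r : ℤ)))⁻¹ = u * (u * y) ^ (2 * r + 1) := by
  rw [dih_zpow_conj_right hu hy]
  congr 1
  have e : (1 - 2 * (-(r : ℤ))) = ((2 * r + 1 : ℕ) : ℤ) := by push_cast; ring
  rw [e, zpow_natCast]

end basic

section isolated

variable {G : Type*} [Group G]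

theorem isolated_conj {x : G} (hx : IsIsolatedInvolution x) (g : G) :
    IsIsolatedInvolution (g * x * g⁻¹) := by
  refine ⟨by rw [orderOf_conj_eq]; exact hx.1, ?_⟩
  intro h hc
  have e1 : h * (g * x * g⁻¹) * h⁻¹ = g * ((g⁻¹ * h * g) * x * (g⁻¹ * h * g)⁻¹) * g⁻¹ := by group
  have hc' : Commute x ((g⁻¹ * h * g) * x * (g⁻¹ * h * g)⁻¹) := by
    have h1 : (g * x * g⁻¹) * (h * (g * x * g⁻¹) * h⁻¹) =
        (h * (g * x * g⁻¹) * h⁻¹) * (g * x * g⁻¹) := hc
    have h2 := congrArg (fun t => g⁻¹ * t * g) h1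
    show x * ((g⁻¹ * h * g) * x * (g⁻¹ * h * g)⁻¹) = ((g⁻¹ * h * g) * x * (g⁻¹ * h * g)⁻¹) * x
    have e2 : g⁻¹ * ((g * x * g⁻¹) * (h * (g * x * g⁻¹) * h⁻¹)) * g =
        x * ((g⁻¹ * h * g) * x * (g⁻¹ * h * g)⁻¹) := by group
    have e3 : g⁻¹ * ((h * (g * x * g⁻¹) * h⁻¹) * (g * x * g⁻¹)) * g =
        ((g⁻¹ * h * g) * x * (g⁻¹ * h * g)⁻¹) * x := by group
    rw [← e2, ← e3]
    exact h2
  rw [e1, hx.2 _ hc']

theorem isolated_subgroup {x : G} (hx : IsIsolatedInvolution x) (H : Subgroup G)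
    (hxH : x ∈ H) : IsIsolatedInvolution (⟨x, hxH⟩ : H) := by
  refine ⟨by rw [Subgroup.orderOf_mk]; exact hx.1, ?_⟩
  intro h hc
  apply Subtype.ext
  have h1 := congrArg Subtype.val hc.eq
  simp only [Subgroup.coe_mul, Subgroup.coe_inv] at h1 ⊢
  exact hx.2 (h : G) h1

/-- An isolated involution is the only one of its conjugates `x'` with `x * x'` of `2`-power
order. -/
theorem isolated_eq_of_two_pow {x : G} (hx : IsIsolatedInvolution x) (g : G) (j : ℕ)
    (ho : orderOf (x * (g * x * g⁻¹)) = 2 ^ j) : g * x * g⁻¹ = x := by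
  have hx2 : x * x = 1 := invol_mul_self hx.1
  set x' : G := g * x * g⁻¹ with hx'
  have hx'2 : x' * x' = 1 := by
    rw [hx']
    have : g * x * g⁻¹ * (g * x * g⁻¹) = g * (x * x) * g⁻¹ := by group
    rw [this, hx2]; group
  set w : G := x * x' with hw
  rcases j with _ | k
  · have h1 : w = 1 := orderOf_eq_one_iff.mp (by rw [ho, pow_zero])
    have : x' = x⁻¹ := by
      rw [hw] at h1
      exact eq_inv_of_mul_eq_one_right h1
    rw [this, invol_inv hx2]
  · exfalso
    rcases k with _ | l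
    · -- `w` has order two: `x` and `x'` commute
      have hw2 : w * w = 1 := by
        have := pow_orderOf_eq_one w
        rwa [ho, zero_add, pow_one, sq] at this
      have hcomm : x * x' = x' * x := by
        have h1 : w = w⁻¹ := (invol_inv hw2).symm
        rw [hw, mul_inv_rev, invol_inv hx2, invol_inv hx'2] at h1
        exact h1
      have h2 : x' = x := hx.2 g hcomm
      have h3 : w = 1 := by rw [hw, h2, hx2]
      rw [h3, orderOf_one] at ho
      norm_num at ho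
    · -- order at least four
      set c : G := w ^ (2 ^ (l + 1)) with hc
      have hcc : c * c = 1 := by
        rw [hc, ← pow_add, ← two_mul, ← pow_succ', ← ho]
        exact pow_orderOf_eq_one w
      have hcx : x * c * x⁻¹ = c⁻¹ := by
        have h := dih_conj_zpow hx2 hx'2 ((2 ^ (l + 1) : ℕ) : ℤ)
        rw [zpow_natCast, zpow_neg, zpow_natCast] at h
        exact h
      have hconj : w ^ (2 ^ l) * x * (w ^ (2 ^ l))⁻¹ = x * c⁻¹ := by
        have h := dih_zpow_conj_left hx2 hx'2 ((2 ^ l : ℕ) : ℤ)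
        rw [zpow_natCast] at h
        rw [h]
        congr 1
        have e : (-2 * ((2 ^ l : ℕ) : ℤ)) = -((2 ^ (l + 1) : ℕ) : ℤ) := by
          push_cast; ring
        rw [e, zpow_neg, zpow_natCast]
      have hcommc : Commute x (w ^ (2 ^ l) * x * (w ^ (2 ^ l))⁻¹) := by
        rw [hconj]
        show x * (x * c⁻¹) = x * c⁻¹ * x
        have hxc : x * c = c * x := by
          calc x * c = (x * c * x⁻¹) * x := by group
            _ = c⁻¹ * x := by rw [hcx]
            _ = c * x := by rw [invol_inv hcc]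
        rw [invol_inv hcc]
        calc x * (x * c) = x * (c * x) := by rw [hxc]
          _ = x * c * x := by rw [mul_assoc]
      have h2 := hx.2 _ hcommc
      rw [hconj] at h2
      have h3 : c = 1 := by
        have : c⁻¹ = 1 := by
          have := congrArg (fun t => x⁻¹ * t) h2
          simpa using this
        exact inv_eq_one.mp this
      have h4 : orderOf w ∣ 2 ^ (l + 1) := orderOf_dvd_of_pow_eq_one h3
      rw [ho] at h4
      have := Nat.le_of_dvd (by positivity) h4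
      have h5 : 2 ^ (l + 1) < 2 ^ (l + 1 + 1) := Nat.pow_lt_pow_right (by norm_num) (by omega)
      omega

/-- Two conjugates of an isolated involution lying in a common `2`-subgroup coincide. -/
theorem isolated_eq_of_mem_two_group {x : G} (hx : IsIsolatedInvolution x)
    (T : Subgroup G) (hT : IsPGroup 2 T) (hxT : x ∈ T) (g : G) (hg : g * x * g⁻¹ ∈ T) :
    g * x * g⁻¹ = x := by
  have hw : x * (g * x * g⁻¹) ∈ T := T.mul_mem hxT hg
  obtain ⟨k, hk⟩ := hT ⟨_, hw⟩
  have h1 : (x * (g * x * g⁻¹)) ^ (2 ^ k) = 1 := by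
    have := congrArg Subtype.val hk
    simpa using this
  have h2 : orderOf (x * (g * x * g⁻¹)) ∣ 2 ^ k := orderOf_dvd_of_pow_eq_one h1
  obtain ⟨j, _, hj⟩ := (Nat.dvd_prime_pow Nat.prime_two).mp h2
  exact isolated_eq_of_two_pow hx g j hj

/-- Control of fusion in the centralizer of an isolated involution. -/
theorem isolated_fusion_control [Finite G] {x : G} (hx : IsIsolatedInvolution x)
    (y y' h : G) (hy : x * y = y * x) (hy' : x * y' = y' * x) (hh : h * y * h⁻¹ = y') :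
    ∃ c : G, c * x * c⁻¹ = x ∧ c * y * c⁻¹ = y' := by
  have : Fact (Nat.Prime 2) := ⟨Nat.prime_two⟩
  set H : Subgroup G := Subgroup.centralizer ({y'} : Set G) with hH
  have hxH : x ∈ H := Subgroup.mem_centralizer_singleton_iff.mpr hy'
  have hx'H : h * x * h⁻¹ ∈ H := by
    rw [hH, Subgroup.mem_centralizer_singleton_iff, ← hh]
    have e1 : h * x * h⁻¹ * (h * y * h⁻¹) = h * (x * y) * h⁻¹ := by group
    rw [e1, hy]; group
  set xH : H := ⟨x, hxH⟩ with hxHdef
  set x'H : H := ⟨h * x * h⁻¹, hx'H⟩ with hx'Hdef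
  have hP1 : IsPGroup 2 (Subgroup.zpowers xH) := by
    apply IsPGroup.of_card (n := 1)
    rw [Nat.card_zpowers, hxHdef, Subgroup.orderOf_mk, hx.1, pow_one]
  have hP2 : IsPGroup 2 (Subgroup.zpowers x'H) := by
    apply IsPGroup.of_card (n := 1)
    rw [Nat.card_zpowers, hx'Hdef, Subgroup.orderOf_mk, orderOf_conj_eq, hx.1, pow_one]
  obtain ⟨T, hT⟩ := hP1.exists_le_sylow
  obtain ⟨T', hT'⟩ := hP2.exists_le_sylow
  obtain ⟨c₀, hc₀⟩ := MulAction.exists_smul_eq H T' T
  have h1 : c₀ * x'H * c₀⁻¹ ∈ (T : Subgroup H) := by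
    rw [← hc₀, Sylow.coe_subgroup_smul]
    have := Subgroup.smul_mem_pointwise_smul x'H (MulAut.conj c₀) (T' : Subgroup H)
      (hT' (Subgroup.mem_zpowers _))
    simpa [MulAut.smul_def] using this
  have h2 : xH ∈ (T : Subgroup H) := hT (Subgroup.mem_zpowers _)
  set TG : Subgroup G := (T : Subgroup H).map H.subtype with hTGdef
  have hTG : IsPGroup 2 TG := T.isPGroup'.map H.subtype
  have hxTG : x ∈ TG := ⟨xH, h2, rfl⟩
  have hgTG : ((c₀ : G) * h) * x * ((c₀ : G) * h)⁻¹ ∈ TG := by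
    refine ⟨c₀ * x'H * c₀⁻¹, h1, ?_⟩
    simp only [hx'Hdef, Subgroup.subtype_apply, Subgroup.coe_mul, Subgroup.coe_inv]
    group
  have h3 := isolated_eq_of_mem_two_group hx TG hTG hxTG _ hgTG
  refine ⟨(c₀ : G) * h, h3, ?_⟩
  have hc₀y : (c₀ : G) * y' = y' * (c₀ : G) := Subgroup.mem_centralizer_singleton_iff.mp c₀.2
  calc (c₀ : G) * h * y * ((c₀ : G) * h)⁻¹ = (c₀ : G) * (h * y * h⁻¹) * (c₀ : G)⁻¹ := by group
    _ = (c₀ : G) * y' * (c₀ : G)⁻¹ := by rw [hh]
    _ = y' := by rw [hc₀y]; group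

end isolated

end Cfsg.Agent.Lib.Helper30
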