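import Mathlib
import Cfsg.Agent.Lib.Helper30.ZStarBasic
import Cfsg.Agent.S0942
import Cfsg.Agent.S0943
import Cfsg.Agent.Lib.Helper77.StrongOrth
import Cfsg.Agent.Lib.Helper74.Osima5
import Cfsg.Agent.Lib.Helper80.IrrApi
import Cfsg.Agent.Lib.Helper81.OneIrr

set_option autoImplicit false

/-!
Glauberman's `Z*`-theorem: the character-theoretic step.
-/

namespace Cfsg.Agent.Lib.Helper30

open Cfsg
open Cfsg.Agent.Lib.Helper77 Cfsg.Agent.Lib.Helper81
open scoped ComplexConjugate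

universe u

theorem zstar_char {G : Type u} [Group G] [Finite G] {x : G} (hx : IsIsolatedInvolution x)
    (y : G) (hy : orderOf y = 2) (hyx : y ≠ x) (hc : x * y = y * x)
    (hG1 : ∀ g : G, ∃ z v : G, orderOf z = 2 ∧ (∃ c : G, c * (x * y) * c⁻¹ = z) ∧
      v ∈ centralizerPPrimeCore 2 z ∧ g * x * g⁻¹ * y = z * v)
    (hG2 : ∀ g : G, ∃ z v : G, orderOf z = 2 ∧ (∃ c : G, c * (x * (x * y)) * c⁻¹ = z) ∧
      v ∈ centralizerPPrimeCore 2 z ∧ g * x * g⁻¹ * (x * y) = z * v) :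
    ∃ χ : IrrCharacter G, (χ : G → ℂ) ≠ (fun _ => 1) ∧ (χ : G → ℂ) x = (χ : G → ℂ) 1 := by
  classical
  have : Fintype G := Fintype.ofFinite G
  have : Fintype (IrrCharacter G) := Fintype.ofFinite _
  have : Fact (Nat.Prime 2) := ⟨Nat.prime_two⟩
  obtain ⟨M, hM⟩ := Cfsg.Agent.Lib.Helper74.exists_isPModular Nat.prime_two
  have hMp : M.IsPrime := isPrime_of_isPModular hM
  have hx2 : x * x = 1 := invol_mul_self hx.1
  have hy2 : y * y = 1 := invol_mul_self hy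
  -- the product relation
  have key : ∀ χ : IrrCharacter G, χ ∈ principalBlock M G → ∀ y₀ : G,
      (∀ g : G, ∃ z v : G, orderOf z = 2 ∧ (∃ c : G, c * (x * y₀) * c⁻¹ = z) ∧
        v ∈ centralizerPPrimeCore 2 z ∧ g * x * g⁻¹ * y₀ = z * v) →
      (χ : G → ℂ) x * (χ : G → ℂ) y₀ = (χ : G → ℂ) 1 * (χ : G → ℂ) (x * y₀) := by
    intro χ hχ y₀ hG
    apply Cfsg.Agent.S0943.result χ x y₀
    intro x' y' hxx' hyy'
    obtain ⟨a, ha⟩ := isConj_iff.mp hxx'
    obtain ⟨b, hb⟩ := isConj_iff.mp hyy'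
    obtain ⟨z, v, hoz, ⟨c, hcz⟩, hv, hzv⟩ := hG (b⁻¹ * a)
    have e1 : x' * y' = b * ((b⁻¹ * a) * x * (b⁻¹ * a)⁻¹ * y₀) * b⁻¹ := by
      rw [← ha, ← hb]; group
    rw [e1, Cfsg.Agent.Lib.Helper80.irr_class, hzv,
      Cfsg.Agent.S0942.result 2 M hM z ⟨1, by rw [hoz]; norm_num⟩ v hv χ hχ, ← hcz,
      Cfsg.Agent.Lib.Helper80.irr_class]
  have hxxy : x * (x * y) = y := by rw [← mul_assoc, hx2, one_mul]
  -- orthogonality relations
  have hreal : ∀ χ : IrrCharacter G, conj ((χ : G → ℂ) y) = (χ : G → ℂ) y := by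
    intro χ
    rw [← Cfsg.Agent.Lib.Helper80.irr_conj_inv, invol_inv hy2]
  have hxpart : IsPPart 2 x x :=
    ⟨1, mul_one x, Commute.one_right x, ⟨1, by rw [hx.1]; norm_num⟩, by rw [orderOf_one]; norm_num⟩
  have hypart : IsPPart 2 y y :=
    ⟨1, mul_one y, Commute.one_right y, ⟨1, by rw [hy]; norm_num⟩, by rw [orderOf_one]; norm_num⟩
  have h1part : IsPPart 2 (1 : G) 1 :=
    ⟨1, mul_one 1, Commute.one_right 1, ⟨0, by simp⟩, by rw [orderOf_one]; norm_num⟩
  have hnxy : ¬ IsConj x y := by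
    intro h
    obtain ⟨c, hc'⟩ := isConj_iff.mp h
    apply hyx
    rw [← hc']
    apply hx.2 c
    rw [hc']
    exact hc
  have hn1y : ¬ IsConj (1 : G) y := by
    intro h
    obtain ⟨c, hc'⟩ := isConj_iff.mp h
    have : y = 1 := by rw [← hc']; group
    exact invol_ne_one hy this
  have ho1 := Cfsg.Agent.Lib.Helper77.IdemTrace.strong_block_orthogonality_finset hM (oneIrr G)
    hxpart hypart hnxy
  have ho2 := Cfsg.Agent.Lib.Helper77.IdemTrace.strong_block_orthogonality_finset hM (oneIrr G)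
    h1part hypart hn1y
  by_contra hcon
  push Not at hcon
  have hsum : ∑ χ ∈ Finset.univ.filter (fun χ : IrrCharacter G =>
      χ ∈ blockOf M ((oneIrr G : IrrCharacter G) : G → ℂ)),
      ((χ : G → ℂ) 1 + (χ : G → ℂ) x) * (χ : G → ℂ) y = 0 := by
    have e : ∀ χ : IrrCharacter G, ((χ : G → ℂ) 1 + (χ : G → ℂ) x) * (χ : G → ℂ) y =
        (χ : G → ℂ) 1 * conj ((χ : G → ℂ) y) + (χ : G → ℂ) x * conj ((χ : G → ℂ) y) := by
      intro χ
      rw [hreal χ]; ring
    rw [Finset.sum_congr rfl (fun χ _ => e χ), Finset.sum_add_distrib, ho1, ho2, add_zero]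
  have hone : oneIrr G ∈ Finset.univ.filter (fun χ : IrrCharacter G =>
      χ ∈ blockOf M ((oneIrr G : IrrCharacter G) : G → ℂ)) := by
    rw [Finset.mem_filter]
    exact ⟨Finset.mem_univ _, oneIrr_mem_principalBlock hMp⟩
  rw [Finset.sum_eq_single_of_mem (oneIrr G) hone] at hsum
  · simp only [oneIrr_apply] at hsum
    norm_num at hsum
  · intro χ hχ hne
    have hχB : χ ∈ principalBlock M G := (Finset.mem_filter.mp hχ).2
    have hne' : (χ : G → ℂ) ≠ (fun _ => 1) := by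
      intro h
      apply hne
      exact Subtype.ext h
    have hxne : (χ : G → ℂ) x ≠ (χ : G → ℂ) 1 := hcon χ hne'
    have k1 := key χ hχB y hG1
    have k2 := key χ hχB (x * y) hG2
    rw [hxxy] at k2
    have h3 : ((χ : G → ℂ) x - (χ : G → ℂ) 1) *
        (((χ : G → ℂ) 1 + (χ : G → ℂ) x) * (χ : G → ℂ) y) = 0 := by
      linear_combination (χ : G → ℂ) x * k1 + (χ : G → ℂ) 1 * k2
    rcases mul_eq_zero.mp h3 with h4 | h4
    · exact absurd (sub_eq_zero.mp h4) hxne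
    · exact h4

end Cfsg.Agent.Lib.Helper30
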