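import Mathlib
import Cfsg.Prelude.Def_Local
import Cfsg.Agent.Lib.Helper30.ZStarBasic
import Cfsg.Agent.Lib.Helper30.PPrimeCore

set_option autoImplicit false

/-!
Glauberman's `Z*`-theorem: the group-theoretic key lemma.  For an isolated involution `x`, an
involution `y ≠ x` commuting with `x`, and any conjugate `u` of `x`, the product `u * y` is `z * v`
with `z` an involution conjugate to `x * y` and `v ∈ O(C_G(z))`.
-/

namespace Cfsg.Agent.Lib.Helper30

open Cfsg

variable {G : Type*} [Group G] [Finite G]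

theorem zstar_G {x : G} (hx : IsIsolatedInvolution x)
    (hIH : ∀ H : Subgroup G, H ≠ ⊤ → ∀ u : H, IsIsolatedInvolution u →
      ∀ c : H, u * c * u⁻¹ * c⁻¹ ∈ pPrimeCore 2 H)
    (hR1 : ∀ z : G, orderOf z = 2 → z ∉ Subgroup.center G)
    (y : G) (hy : orderOf y = 2) (hyx : y ≠ x) (hc : x * y = y * x) (g : G) :
    ∃ z v : G, orderOf z = 2 ∧ (∃ c : G, c * (x * y) * c⁻¹ = z) ∧
      v ∈ centralizerPPrimeCore 2 z ∧ g * x * g⁻¹ * y = z * v := by
  set u : G := g * x * g⁻¹ with hu
  have hui : IsIsolatedInvolution u := isolated_conj hx g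
  have hu2 : u * u = 1 := invol_mul_self hui.1
  have hy2 : y * y = 1 := invol_mul_self hy
  have hx2 : x * x = 1 := invol_mul_self hx.1
  set w : G := u * y with hw
  have hkpos : 0 < orderOf w := orderOf_pos w
  rcases Nat.even_or_odd' (orderOf w) with ⟨m, hk | hk⟩
  swap
  · -- odd order: `y` is conjugate to `x`, impossible
    exfalso
    obtain ⟨d, hd⟩ := dih_conj_of_odd hu2 hy2 m hk
    have e1 : y = (d * g) * x * (d * g)⁻¹ := by
      rw [← hd, hu]; group
    have hcomm : Commute x ((d * g) * x * (d * g)⁻¹) := by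
      rw [← e1]; exact hc
    have := hx.2 (d * g) hcomm
    exact hyx (e1.trans this)
  · have hm : 0 < m := by omega
    obtain ⟨hoz, hzu⟩ := dih_even_central hu2 hy2 m hm hk
    set z : G := w ^ m with hz
    have hzw : z * w = w * z := by
      have : Commute (w ^ m) w := (Commute.refl w).pow_left m
      exact this.eq
    have hyw : y = u * w := by rw [hw, ← mul_assoc, hu2, one_mul]
    set C : Subgroup G := Subgroup.centralizer ({z} : Set G) with hC
    have hCne : C ≠ ⊤ := by
      intro htop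
      apply hR1 z hoz
      rw [Subgroup.mem_center_iff]
      intro a
      have ha : a ∈ C := by rw [htop]; exact Subgroup.mem_top a
      exact Subgroup.mem_centralizer_singleton_iff.mp ha
    have huC : u ∈ C := Subgroup.mem_centralizer_singleton_iff.mpr hzu
    have hwC : w ∈ C := Subgroup.mem_centralizer_singleton_iff.mpr hzw.symm
    have hyC : y ∈ C := by rw [hyw]; exact C.mul_mem huC hwC
    have hIHC := hIH C hCne ⟨u, huC⟩ (isolated_subgroup hui C huC) ⟨y, hyC⟩
    have hwwC : w * w ∈ C := C.mul_mem hwC hwC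
    have hmem : (⟨w * w, hwwC⟩ : C) ∈ pPrimeCore 2 C := by
      have e1 : (⟨u, huC⟩ : C) * ⟨y, hyC⟩ * (⟨u, huC⟩ : C)⁻¹ * (⟨y, hyC⟩ : C)⁻¹ =
          ⟨w * w, hwwC⟩ := by
        apply Subtype.ext
        simp only [Subgroup.coe_mul, Subgroup.coe_inv]
        rw [invol_inv hu2, invol_inv hy2, hw]
        group
      rw [← e1]; exact hIHC
    -- `m` is odd
    have hcop : (Nat.card (pPrimeCore 2 C)).Coprime 2 := pPrimeCore_card_coprime 2
    have howw : orderOf (w * w) = m := by
      have : w * w = w ^ 2 := (sq w).symm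
      rw [this, orderOf_pow_of_dvd (by norm_num) (by rw [hk]; exact dvd_mul_right _ _), hk]
      exact Nat.mul_div_cancel_left _ (by norm_num)
    have hmodd : Odd m := by
      have h1 : orderOf (⟨⟨w * w, hwwC⟩, hmem⟩ : pPrimeCore 2 C) ∣ Nat.card (pPrimeCore 2 C) :=
        orderOf_dvd_natCard _
      rw [Subgroup.orderOf_mk, Subgroup.orderOf_mk, howw] at h1
      have h2 : Nat.Coprime m 2 := Nat.Coprime.coprime_dvd_left h1 hcop
      exact Nat.coprime_two_right.mp h2
    obtain ⟨r, hr⟩ := hmodd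
    -- the odd part
    set v : G := (w * w) ^ (r + 1) with hv
    have hvmem : v ∈ centralizerPPrimeCore 2 z := by
      unfold centralizerPPrimeCore
      refine ⟨⟨v, ?_⟩, ?_, rfl⟩
      · exact C.pow_mem hwwC _
      · have : (⟨v, C.pow_mem hwwC _⟩ : C) = (⟨w * w, hwwC⟩ : C) ^ (r + 1) := by
          apply Subtype.ext
          simp [hv]
        rw [SetLike.mem_coe, this]
        exact Subgroup.pow_mem _ hmem _
    have hzv : w = z * v := by
      have h2m : w ^ (2 * m) = 1 := by rw [← hk]; exact pow_orderOf_eq_one w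
      have e1 : v = w ^ (m + 1) := by
        have e0 : 2 * (r + 1) = 2 * r + 1 + 1 := by ring
        rw [hv, ← sq, ← pow_mul, hr, e0]
      rw [e1, hz, ← pow_add]
      have e2 : m + (m + 1) = 2 * m + 1 := by ring
      rw [e2, pow_succ, h2m, one_mul]
    refine ⟨z, v, hoz, ?_, hvmem, hzv⟩
    -- `z` is conjugate to `x * y`
    have hconj := dih_even_odd hu2 hy2 r
    rw [← hw, ← hr] at hconj
    obtain ⟨d, hd⟩ : ∃ d : G, d = w ^ (-(r : ℤ)) := ⟨_, rfl⟩
    rw [← hd] at hconj
    obtain ⟨y', hy'⟩ : ∃ y' : G, y' = u * z := ⟨_, rfl⟩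
    rw [← hy'] at hconj
    have hy'u : u * y' = y' * u := by
      rw [hy', ← mul_assoc, hu2, one_mul, hzu, mul_assoc, hu2, mul_one]
    obtain ⟨y'', hy''⟩ : ∃ y'' : G, y'' = g⁻¹ * y' * g := ⟨_, rfl⟩
    have hxg : x = g⁻¹ * u * g := by rw [hu]; group
    have hcomm'' : x * y'' = y'' * x := by
      rw [hxg, hy'']
      have e1 : g⁻¹ * u * g * (g⁻¹ * y' * g) = g⁻¹ * (u * y') * g := by group
      have e2 : g⁻¹ * y' * g * (g⁻¹ * u * g) = g⁻¹ * (y' * u) * g := by group
      rw [e1, e2, hy'u]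
    have hh : (g⁻¹ * d) * y * (g⁻¹ * d)⁻¹ = y'' := by
      rw [hy'', ← hconj]; group
    obtain ⟨c, hcx, hcy⟩ := isolated_fusion_control hx y y'' (g⁻¹ * d) hc hcomm'' hh
    refine ⟨g * c, ?_⟩
    have e3 : z = u * y' := by rw [hy', ← mul_assoc, hu2, one_mul]
    calc g * c * (x * y) * (g * c)⁻¹ = g * ((c * x * c⁻¹) * (c * y * c⁻¹)) * g⁻¹ := by group
      _ = g * (x * y'') * g⁻¹ := by rw [hcx, hcy]
      _ = u * y' := by rw [hu, hy'']; group
      _ = z := e3.symm

end Cfsg.Agent.Lib.Helper30
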