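import Mathlib
import Cfsg.Agent.Lib.Helper30.ZStarBasic
import Cfsg.Agent.Lib.Helper30.PPrimeCore
import Cfsg.Agent.Lib.Helper78.PNilpotent
import Cfsg.Agent.Lib.Helper84.PCore

set_option autoImplicit false

/-!
Glauberman's `Z*`-theorem: reductions (quotient by a normal subgroup of odd order, central
involutions).
-/

namespace Cfsg.Agent.Lib.Helper30

open Cfsg

universe u

section quotient

variable {G : Type*} [Group G] [Finite G]

/-- The image of an isolated involution modulo a normal subgroup of odd order is an isolated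
involution. -/
theorem isolated_quotient_odd {x : G} (hx : IsIsolatedInvolution x) (K : Subgroup G) [K.Normal]
    (hK : Odd (Nat.card K)) : IsIsolatedInvolution ((QuotientGroup.mk' K) x) := by
  have hx2 : x * x = 1 := invol_mul_self hx.1
  have hx1 : x ≠ 1 := invol_ne_one hx.1
  set π := QuotientGroup.mk' K with hπ
  have hπ2 : π x * π x = 1 := by rw [← map_mul, hx2, map_one]
  have hπ1 : π x ≠ 1 := by
    intro h
    have hxK : x ∈ K := by
      rw [← QuotientGroup.ker_mk' K]; exact h
    have h1 : orderOf (⟨x, hxK⟩ : K) ∣ Nat.card K := orderOf_dvd_natCard _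
    rw [Subgroup.orderOf_mk, hx.1] at h1
    exact (Nat.not_even_iff_odd.mpr hK) (even_iff_two_dvd.mpr h1)
  refine ⟨orderOf_eq_two_of hπ2 hπ1, ?_⟩
  intro gbar hcomm
  obtain ⟨g, rfl⟩ := QuotientGroup.mk'_surjective K gbar
  set x' : G := g * x * g⁻¹ with hx'
  have hx'2 : x' * x' = 1 := invol_mul_self (by rw [hx', orderOf_conj_eq]; exact hx.1)
  have hπx' : π g * π x * (π g)⁻¹ = π x' := by
    rw [hx', map_mul, map_mul, map_inv]
  rw [hπx'] at hcomm ⊢
  set w : G := x * x' with hw
  have hwbar2 : π w * π w = 1 := by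
    rw [hw, map_mul]
    have hc : π x * π x' = π x' * π x := hcomm.eq
    calc π x * π x' * (π x * π x') = π x * (π x' * π x) * π x' := by group
      _ = π x * (π x * π x') * π x' := by rw [hc]
      _ = (π x * π x) * (π x' * π x') := by group
      _ = 1 := by rw [hπ2, ← map_mul, hx'2, map_one, mul_one]
  -- the order of `w` is odd
  have hodd : Odd (orderOf w) := by
    by_contra hne
    rw [Nat.not_odd_iff_even] at hne
    obtain ⟨m, hm⟩ := hne
    have hk : orderOf w = 2 * m := by rw [hm]; ring
    have hmpos : 0 < m := by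
      have := orderOf_pos w
      omega
    obtain ⟨hoz, hzx⟩ := dih_even_central hx2 hx'2 m hmpos hk
    -- `w * w ∈ K` has odd order `m`
    have hwwK : w * w ∈ K := by
      rw [← QuotientGroup.ker_mk' K]
      show π (w * w) = 1
      rw [map_mul]; exact hwbar2
    have howw : orderOf (w * w) = m := by
      have : w * w = w ^ 2 := (sq w).symm
      rw [this, orderOf_pow_of_dvd (by norm_num) (by rw [hk]; exact dvd_mul_right _ _), hk]
      exact Nat.mul_div_cancel_left _ (by norm_num)
    have hmodd : Odd m := by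
      have h1 : orderOf (⟨w * w, hwwK⟩ : K) ∣ Nat.card K := orderOf_dvd_natCard _
      rw [Subgroup.orderOf_mk, howw] at h1
      exact Odd.of_dvd_nat hK h1
    obtain ⟨r, hr⟩ := hmodd
    have hconj := dih_even_odd hx2 hx'2 r
    rw [← hw, ← hr] at hconj
    -- `x * w ^ m` is a conjugate of `x` commuting with `x`
    have e1 : x * w ^ m = (w ^ (-(r : ℤ)) * g) * x * (w ^ (-(r : ℤ)) * g)⁻¹ := by
      rw [← hconj, hx']; group
    have hcomm2 : Commute x ((w ^ (-(r : ℤ)) * g) * x * (w ^ (-(r : ℤ)) * g)⁻¹) := by
      rw [← e1]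
      show x * (x * w ^ m) = x * w ^ m * x
      have hzx' : x * w ^ m = w ^ m * x := hzx
      rw [mul_assoc x (w ^ m) x, ← hzx']
    have h2 := hx.2 _ hcomm2
    rw [← e1] at h2
    have h3 : w ^ m = 1 := by
      have := congrArg (fun t => x⁻¹ * t) h2
      simpa using this
    have hoz' : orderOf (w ^ m) = 2 := hoz
    rw [h3, orderOf_one] at hoz'
    omega
  obtain ⟨r, hr⟩ := hodd
  have hwbar : π w = 1 := by
    have h1 : π w ^ (2 * r + 1) = 1 := by
      rw [← map_pow, ← hr, pow_orderOf_eq_one, map_one]
    have h2 : π w ^ (2 * r + 1) = π w := by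
      rw [pow_succ, pow_mul, sq, hwbar2, one_pow, one_mul]
    rw [← h2, h1]
  rw [hw, map_mul] at hwbar
  have : π x' = (π x)⁻¹ := eq_inv_of_mul_eq_one_right hwbar
  rw [this, invol_inv hπ2]

end quotient

section central

variable {G : Type u} [Group G] [Finite G]

theorem mem_zpowers_invol {z t : G} (hz : z * z = 1) (ht : t ∈ Subgroup.zpowers z) :
    t = 1 ∨ t = z := by
  obtain ⟨j, rfl⟩ := Subgroup.mem_zpowers_iff.mp ht
  have h2 : z ^ (2 : ℤ) = 1 := by
    have : z ^ (2 : ℤ) = z ^ (2 : ℕ) := by norm_cast
    rw [this, sq, hz]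
  have e : z ^ j = z ^ (j % 2) := by
    conv_lhs => rw [← Int.mul_ediv_add_emod j 2, zpow_add, zpow_mul, h2, one_zpow, one_mul]
  rw [e]
  have hcases : j % 2 = 0 ∨ j % 2 = 1 := by omega
  rcases hcases with h | h <;> rw [h]
  · left; simp
  · right; simp

/-- A normal subgroup of order twice an odd number containing a central involution has order two
when the ambient group has trivial odd core. -/
theorem card_eq_two_of_central_invol (hO : pPrimeCore 2 G = ⊥) (z : G) (hz : orderOf z = 2)
    (hzc : z ∈ Subgroup.center G) (N : Subgroup G) [hN : N.Normal] (hzN : z ∈ N) (m : ℕ)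
    (hm : Odd m) (hcard : Nat.card N = 2 * m) : Nat.card N = 2 := by
  have : Fact (Nat.Prime 2) := ⟨Nat.prime_two⟩
  set zN : N := ⟨z, hzN⟩ with hzNdef
  have hozN : orderOf zN = 2 := by rw [hzNdef, Subgroup.orderOf_mk, hz]
  have hzNc : ∀ c : N, c * zN = zN * c := by
    intro c
    apply Subtype.ext
    simp only [Subgroup.coe_mul, hzNdef]
    exact Subgroup.mem_center_iff.mp hzc c
  have hPz : IsPGroup 2 (Subgroup.zpowers zN) := by
    apply IsPGroup.of_card (n := 1)
    rw [Nat.card_zpowers, hozN, pow_one]
  obtain ⟨P, hP⟩ := hPz.exists_le_sylow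
  have hfac : (Nat.card N).factorization 2 = 1 := by
    have hm0 : m ≠ 0 := by
      intro h0; rw [h0] at hm; exact absurd hm (by decide)
    have hnd : ¬ 2 ∣ m := by
      intro hd
      exact (Nat.not_even_iff_odd.mpr hm) (even_iff_two_dvd.mpr hd)
    rw [hcard, Nat.factorization_mul (by norm_num) hm0, Finsupp.add_apply,
      Nat.Prime.factorization_self Nat.prime_two, Nat.factorization_eq_zero_of_not_dvd hnd]
  have hcardP : Nat.card (P : Subgroup N) = 2 := by
    have := P.card_eq_multiplicity
    rw [hfac, pow_one] at this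
    exact this
  have hPeq : Subgroup.zpowers zN = (P : Subgroup N) := by
    apply Subgroup.eq_of_le_of_card_ge hP
    rw [hcardP, Nat.card_zpowers, hozN]
  have hNC : Subgroup.normalizer ((P : Subgroup N) : Set N) ≤
      Subgroup.centralizer ((P : Subgroup N) : Set N) := by
    intro c _
    rw [Subgroup.mem_centralizer_iff]
    intro p hp
    have hp' : p ∈ Subgroup.zpowers zN := by rw [hPeq]; exact hp
    obtain ⟨j, rfl⟩ := Subgroup.mem_zpowers_iff.mp hp'
    have h0 : Commute c zN := hzNc c
    exact (h0.zpow_right j).eq.symm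
  obtain ⟨K, hKn, hKc, hKcop, -, hKmem, -⟩ :=
    Cfsg.Agent.Lib.Helper78.exists_normal_pComplement_of_normalizer_le_centralizer P hNC
  have hK'n : (K.map N.subtype).Normal := by
    constructor
    rintro _ ⟨k, hk, rfl⟩ g
    refine ⟨⟨g * (k : G) * g⁻¹, hN.conj_mem k k.2 g⟩, ?_, rfl⟩
    rw [SetLike.mem_coe, hKmem, Subgroup.orderOf_mk, orderOf_conj_eq, Subgroup.orderOf_coe]
    exact (hKmem k).mp hk
  have hcardK' : Nat.card (K.map N.subtype) = Nat.card K :=
    Nat.card_congr (K.equivMapOfInjective N.subtype N.subtype_injective).symm.toEquiv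
  have hK'le : K.map N.subtype ≤ pPrimeCore 2 G := by
    apply le_pPrimeCore 2
    rw [hcardK']; exact hKcop
  rw [hO, le_bot_iff, Subgroup.map_eq_bot_iff_of_injective _ N.subtype_injective] at hK'le
  have h1 := hKc.card_mul_card
  rw [hK'le, Subgroup.card_bot, one_mul, hcardP] at h1
  exact h1.symm

/-- Reduction: in a minimal situation with trivial odd core, a central involution forces an
isolated involution to be central. -/
theorem zstar_central_involution
    (hIH : ∀ (H : Type u) [Group H] [Finite H], Nat.card H < Nat.card G →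
      ∀ u : H, IsIsolatedInvolution u → ∀ c : H, u * c * u⁻¹ * c⁻¹ ∈ pPrimeCore 2 H)
    (hO : pPrimeCore 2 G = ⊥) {x : G} (hx : IsIsolatedInvolution x) (z : G)
    (hz : orderOf z = 2) (hzc : z ∈ Subgroup.center G) : ∀ g : G, g * x * g⁻¹ = x := by
  have hzcomm : ∀ a : G, a * z = z * a := fun a => Subgroup.mem_center_iff.mp hzc a
  by_cases hzx : z = x
  · intro g
    rw [← hzx, hzcomm g, mul_assoc, mul_inv_cancel, mul_one]
  have hx2 : x * x = 1 := invol_mul_self hx.1
  have hz2 : z * z = 1 := invol_mul_self hz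
  have hz1 : z ≠ 1 := invol_ne_one hz
  set Z : Subgroup G := Subgroup.zpowers z with hZ
  have hZn : Z.Normal := by
    constructor
    intro t ht g
    have htc : t ∈ Subgroup.center G := by
      obtain ⟨j, rfl⟩ := Subgroup.mem_zpowers_iff.mp ht
      exact Subgroup.zpow_mem _ hzc j
    rw [Subgroup.mem_center_iff.mp htc g, mul_assoc, mul_inv_cancel, mul_one]
    exact ht
  have hcardZ : Nat.card Z = 2 := by rw [hZ, Nat.card_zpowers, hz]
  have hcardlt : Nat.card (G ⧸ Z) < Nat.card G := by
    have h1 := Subgroup.card_eq_card_quotient_mul_card_subgroup Z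
    rw [hcardZ] at h1
    have h2 : 0 < Nat.card (G ⧸ Z) := Nat.card_pos
    omega
  set π := QuotientGroup.mk' Z with hπ
  have hker : ∀ t : G, π t = 1 → t = 1 ∨ t = z := by
    intro t ht
    have htZ : t ∈ Z := by rw [← QuotientGroup.ker_mk' Z]; exact ht
    exact mem_zpowers_invol hz2 htZ
  -- the image of `x` is an isolated involution
  have hπ2 : π x * π x = 1 := by rw [← map_mul, hx2, map_one]
  have hπ1 : π x ≠ 1 := by
    intro h
    rcases hker x h with h1 | h1
    · exact invol_ne_one hx.1 h1
    · exact hzx h1.symm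
  have hiso : IsIsolatedInvolution (π x) := by
    refine ⟨orderOf_eq_two_of hπ2 hπ1, ?_⟩
    intro gbar hcomm
    obtain ⟨g, rfl⟩ := QuotientGroup.mk'_surjective Z gbar
    obtain ⟨x', hx'⟩ : ∃ x' : G, x' = g * x * g⁻¹ := ⟨_, rfl⟩
    have hx'2 : x' * x' = 1 := invol_mul_self (by rw [hx', orderOf_conj_eq]; exact hx.1)
    have hπx' : π g * π x * (π g)⁻¹ = π x' := by
      rw [hx', map_mul, map_mul, map_inv]
    rw [hπx'] at hcomm ⊢
    have hx'iso : x' = x → π x' = π x := fun h => by rw [h]
    have h1 : π ((x' * x)⁻¹ * (x * x')) = 1 := by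
      rw [map_mul, map_inv, map_mul, map_mul, hcomm.eq, inv_mul_cancel]
    rcases hker _ h1 with h2 | h2
    · have h3 : x * x' = x' * x := by
        have := congrArg (fun t => (x' * x) * t) h2
        simpa [mul_assoc] using this
      have h4 : x' = x := by
        rw [hx']
        apply hx.2 g
        rw [← hx']
        exact h3
      rw [h4]
    · exfalso
      have h3 : x * x' = x' * x * z := by
        have := congrArg (fun t => (x' * x) * t) h2
        simpa [mul_assoc] using this
      have h4 : x' * x * x'⁻¹ = x * z := by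
        rw [invol_inv hx'2]
        calc x' * x * x' = x' * (x * x') := by group
          _ = x' * (x' * x * z) := by rw [h3]
          _ = (x' * x') * x * z := by group
          _ = x * z := by rw [hx'2, one_mul]
      have hc : Commute x (x' * x * x'⁻¹) := by
        rw [h4]
        show x * (x * z) = x * z * x
        rw [mul_assoc x z x, ← hzcomm x]
      have h5 := hx.2 x' hc
      rw [h4] at h5
      apply hz1
      have := congrArg (fun t => x⁻¹ * t) h5
      simpa using this
  have hIHq := hIH (G ⧸ Z) hcardlt (π x) hiso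
  -- the odd core of the quotient is trivial
  have hNbar : pPrimeCore 2 (G ⧸ Z) = ⊥ := by
    set N : Subgroup G := (pPrimeCore 2 (G ⧸ Z)).comap π with hN
    have hNn : N.Normal := Subgroup.Normal.comap inferInstance π
    have hzN : z ∈ N := by
      rw [hN, Subgroup.mem_comap]
      have : π z = 1 := by
        rw [hπ, ← MonoidHom.mem_ker, QuotientGroup.ker_mk']
        exact Subgroup.mem_zpowers z
      rw [this]; exact Subgroup.one_mem _
    have hcardN : Nat.card N = 2 * Nat.card (pPrimeCore 2 (G ⧸ Z)) := by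
      rw [hN, card_comap_mk', hcardZ]
    have hodd : Odd (Nat.card (pPrimeCore 2 (G ⧸ Z))) :=
      Nat.coprime_two_right.mp (pPrimeCore_card_coprime 2)
    have h2 := card_eq_two_of_central_invol hO z hz hzc N hzN _ hodd hcardN
    rw [hcardN] at h2
    have h3 : Nat.card (pPrimeCore 2 (G ⧸ Z)) = 1 := by omega
    exact Subgroup.card_eq_one.mp h3
  intro g
  obtain ⟨x', hx'⟩ : ∃ x' : G, x' = g * x * g⁻¹ := ⟨_, rfl⟩
  rw [← hx']
  have hx'2 : x' * x' = 1 := invol_mul_self (by rw [hx', orderOf_conj_eq]; exact hx.1)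
  have h1 := hIHq (π g)
  rw [hNbar, Subgroup.mem_bot] at h1
  have h2 : π (x * x') = 1 := by
    rw [← h1, hx']
    simp only [map_mul, map_inv]
    rw [invol_inv hπ2]
    group
  rcases hker _ h2 with h3 | h3
  · have : x' = x⁻¹ := eq_inv_of_mul_eq_one_right h3
    rw [this, invol_inv hx2]
  · have h4 : x' = x * z := by
      have := congrArg (fun t => x⁻¹ * t) h3
      rw [invol_inv hx2] at this
      simpa [← mul_assoc, hx2] using this
    have hc : Commute x x' := by
      rw [h4]
      show x * (x * z) = x * z * x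
      rw [mul_assoc x z x, ← hzcomm x]
    rw [hx'] at hc ⊢
    exact hx.2 g hc

end central

end Cfsg.Agent.Lib.Helper30
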