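import Mathlib
import Cfsg.Agent.Lib.Helper30.ZStarRed
import Cfsg.Agent.Lib.Helper30.ZStarG
import Cfsg.Agent.Lib.Helper30.ZStarChar
import Cfsg.Agent.S0016
import Cfsg.Agent.S0201
import Cfsg.Agent.Lib.Helper80.Kernel
import Cfsg.Agent.Lib.Helper3.CharBasic

set_option autoImplicit false

/-!
**Glauberman's `Z*`-theorem**: an isolated involution is central modulo the odd core.
-/

namespace Cfsg.Agent.Lib.Helper30

open Cfsg

universe u

/-- An irreducible character which is constant is the principal character. -/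
theorem irr_eq_one_of_const {G : Type*} [Group G] [Finite G] (χ : IrrCharacter G)
    (hconst : ∀ g : G, (χ : G → ℂ) g = (χ : G → ℂ) 1) : (χ : G → ℂ) = (fun _ => 1) := by
  classical
  by_contra hχ1
  have : Fintype G := Fintype.ofFinite G
  have hinner := Cfsg.Agent.Lib.Helper3.classInner_irr χ.2
    (Cfsg.Agent.Lib.Helper81.isIrrCharacter_one (G := G))
  rw [if_neg hχ1] at hinner
  unfold classInner at hinner
  have hG : (Nat.card G : ℂ) ≠ 0 := by
    have : 0 < Nat.card G := Nat.card_pos
    exact_mod_cast this.ne'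
  have hsum : ∑ g : G, (χ : G → ℂ) g * (starRingEnd ℂ) 1 = (Nat.card G : ℂ) * (χ : G → ℂ) 1 := by
    rw [Finset.sum_congr rfl (fun g _ => by rw [hconst g, map_one, mul_one])]
    rw [Finset.sum_const, Finset.card_univ, Nat.card_eq_fintype_card]
    simp
  rw [hsum, ← mul_assoc, inv_mul_cancel₀ hG, one_mul] at hinner
  exact Cfsg.Agent.Lib.Helper80.irr_one_ne_zero χ hinner

section rankone

variable {G : Type*} [Group G] [Finite G]

/-- The case of `2`-rank one: an involution which is the only involution of its centralizer is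
central when the odd core is trivial (Burnside and Brauer–Suzuki). -/
theorem zstar_rank_one (hO : ∀ N : Subgroup G, N.Normal → Odd (Nat.card N) → N = ⊥) (x : G)
    (hx : orderOf x = 2) (hy : ∀ y : G, orderOf y = 2 → x * y = y * x → y = x) :
    x ∈ Subgroup.center G := by
  have : Fact (Nat.Prime 2) := ⟨Nat.prime_two⟩
  have hx2 : x * x = 1 := invol_mul_self hx
  have hPx : IsPGroup 2 (Subgroup.zpowers x) := by
    apply IsPGroup.of_card (n := 1)
    rw [Nat.card_zpowers, hx, pow_one]
  obtain ⟨P, hP⟩ := hPx.exists_le_sylow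
  have hxP : x ∈ (P : Subgroup G) := hP (Subgroup.mem_zpowers x)
  set xP : P := ⟨x, hxP⟩ with hxPdef
  -- `x` is central in `P`
  have hnt : Nontrivial (P : Subgroup G) := by
    refine ⟨⟨xP, 1, ?_⟩⟩
    intro h
    have := congrArg Subtype.val h
    exact invol_ne_one hx this
  have hcen : Nontrivial (Subgroup.center (P : Subgroup G)) := P.isPGroup'.center_nontrivial
  obtain ⟨c, hc1⟩ := exists_ne (1 : Subgroup.center (P : Subgroup G))
  have hc1' : (c : (P : Subgroup G)) ≠ 1 := fun h => hc1 (Subtype.ext h)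
  obtain ⟨k, hk⟩ := (IsPGroup.iff_orderOf.mp P.isPGroup') (c : (P : Subgroup G))
  have hk0 : k ≠ 0 := by
    intro h0
    rw [h0, pow_zero] at hk
    exact hc1' (orderOf_eq_one_iff.mp hk)
  obtain ⟨l, rfl⟩ := Nat.exists_eq_succ_of_ne_zero hk0
  set c' : (P : Subgroup G) := (c : (P : Subgroup G)) ^ (2 ^ l) with hc'
  have hoc' : orderOf c' = 2 := by
    rw [hc', orderOf_pow_of_dvd (by positivity) (by rw [hk]; exact pow_dvd_pow 2 (Nat.le_succ l)), hk,
      pow_succ]
    exact Nat.mul_div_cancel_left _ (by positivity)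
  have hc'cen : c' ∈ Subgroup.center (P : Subgroup G) := Subgroup.pow_mem _ c.2 _
  have hc'x : ((c' : (P : Subgroup G)) : G) = x := by
    apply hy
    · rw [Subgroup.orderOf_coe]; exact hoc'
    · have h1 := Subgroup.mem_center_iff.mp hc'cen xP
      have h2 := congrArg Subtype.val h1
      simpa [hxPdef] using h2
  have hxPcen : ∀ p : (P : Subgroup G), p * xP = xP * p := by
    intro p
    have : xP = c' := Subtype.ext hc'x.symm
    rw [this]
    exact Subgroup.mem_center_iff.mp hc'cen p
  -- `x` is the unique involution of `P`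
  have hinvP : ∀ t : (P : Subgroup G), orderOf t = 2 → t = xP := by
    intro t ht
    apply Subtype.ext
    apply hy
    · rw [Subgroup.orderOf_coe]; exact ht
    · have h2 := congrArg Subtype.val (hxPcen t)
      simpa [hxPdef] using h2.symm
  have huniq : ∀ H K : Subgroup (P : Subgroup G), Nat.card H = 2 → Nat.card K = 2 → H = K := by
    have key : ∀ H : Subgroup (P : Subgroup G), Nat.card H = 2 → H = Subgroup.zpowers xP := by
      intro H hH
      have hntH : Nontrivial H := by
        rw [← Finite.one_lt_card_iff_nontrivial, hH]; norm_num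
      obtain ⟨h, hh1⟩ := exists_ne (1 : H)
      have hoh : orderOf h = 2 := by
        have hd : orderOf h ∣ 2 := by
          have hd' : orderOf h ∣ Nat.card H := orderOf_dvd_natCard h
          rwa [hH] at hd'
        rcases (Nat.dvd_prime Nat.prime_two).mp hd with h1 | h1
        · exact absurd (orderOf_eq_one_iff.mp h1) hh1
        · exact h1
      have hhx : (h : (P : Subgroup G)) = xP := hinvP _ (by rw [Subgroup.orderOf_coe]; exact hoh)
      symm
      apply Subgroup.eq_of_le_of_card_ge
      · rw [Subgroup.zpowers_le, ← hhx]; exact h.2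
      · have h1 : Nat.card (Subgroup.zpowers xP) = 2 := by
          rw [Nat.card_zpowers, hxPdef, Subgroup.orderOf_mk, hx]
        exact le_of_eq (hH.trans h1.symm)
    intro H K hH hK
    rw [key H hH, key K hK]
  have hOc : pPrimeCore 2 G = ⊥ := by
    unfold pPrimeCore
    rw [eq_bot_iff]
    apply sSup_le
    rintro N ⟨hN, hcop⟩
    rw [hO N hN (Nat.coprime_two_right.mp hcop)]
  -- the cyclic case
  have hcyclic : IsCyclic (P : Subgroup G) → x ∈ Subgroup.center G := by
    intro hcyc
    have h2dvd : 2 ∣ Nat.card G := by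
      rw [← hx]; exact orderOf_dvd_natCard x
    have hmin : (Nat.card G).minFac = 2 := (Nat.minFac_eq_two_iff _).mpr h2dvd
    have hNC := IsCyclic.normalizer_le_centralizer hmin hcyc
    obtain ⟨K, hKn, hKc, hKcop, -⟩ :=
      Cfsg.Agent.Lib.Helper78.exists_normal_pComplement_of_normalizer_le_centralizer P hNC
    have hKbot : K = ⊥ := hO K hKn (Nat.coprime_two_right.mp hKcop)
    have hPtop : (P : Subgroup G) = ⊤ := by
      have h1 := hKc.card_mul_card
      rw [hKbot, Subgroup.card_bot, one_mul] at h1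
      exact Subgroup.eq_top_of_card_eq _ h1
    rw [Subgroup.mem_center_iff]
    intro g
    have hgP : g ∈ (P : Subgroup G) := by rw [hPtop]; exact Subgroup.mem_top g
    have h2 := congrArg Subtype.val (hxPcen ⟨g, hgP⟩)
    simpa [hxPdef] using h2
  rcases Cfsg.Agent.S0016.result 2 P.isPGroup' huniq with hcyc | ⟨-, n, ⟨e⟩⟩
  · exact hcyclic hcyc
  · rcases n with _ | k
    · apply hcyclic
      have : IsCyclic (QuaternionGroup (2 ^ 0)) := by
        rw [pow_zero]; exact QuaternionGroup.quaternionGroup_one_isCyclic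
      exact isCyclic_of_surjective e.symm e.symm.surjective
    · have hcard := Cfsg.Agent.S0201.result P k e hO
      have hntc : Nontrivial (Subgroup.center G) := by
        rw [← Finite.one_lt_card_iff_nontrivial, hcard]; norm_num
      obtain ⟨c, hc1⟩ := exists_ne (1 : Subgroup.center G)
      have hoc : orderOf c = 2 := by
        have hd : orderOf c ∣ 2 := by
          have hd' : orderOf c ∣ Nat.card (Subgroup.center G) := orderOf_dvd_natCard c
          rwa [hcard] at hd'
        rcases (Nat.dvd_prime Nat.prime_two).mp hd with h1 | h1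
        · exact absurd (orderOf_eq_one_iff.mp h1) hc1
        · exact h1
      have hcx : (c : G) = x := by
        apply hy
        · rw [Subgroup.orderOf_coe]; exact hoc
        · exact Subgroup.mem_center_iff.mp c.2 x
      rw [← hcx]; exact c.2

end rankone

section main

/-- The core-free case: an isolated involution is central. -/
theorem zstar_corefree {G : Type u} [Group G] [Finite G]
    (hIH : ∀ (H : Type u) [Group H] [Finite H], Nat.card H < Nat.card G →
      ∀ u : H, IsIsolatedInvolution u → ∀ c : H, u * c * u⁻¹ * c⁻¹ ∈ pPrimeCore 2 H)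
    (hO : pPrimeCore 2 G = ⊥) {x : G} (hx : IsIsolatedInvolution x) :
    ∀ g : G, g * x * g⁻¹ = x := by
  have hOf : ∀ N : Subgroup G, N.Normal → Odd (Nat.card N) → N = ⊥ := by
    intro N hN hodd
    have : N ≤ pPrimeCore 2 G := le_pPrimeCore 2 N (Nat.coprime_two_right.mpr hodd)
    rw [hO] at this
    exact le_bot_iff.mp this
  have hx2 : x * x = 1 := invol_mul_self hx.1
  have hcen_of : x ∈ Subgroup.center G → ∀ g : G, g * x * g⁻¹ = x := by
    intro h g
    rw [Subgroup.mem_center_iff.mp h g, mul_assoc, mul_inv_cancel, mul_one]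
  by_cases hcz : ∃ z : G, orderOf z = 2 ∧ z ∈ Subgroup.center G
  · obtain ⟨z, hz, hzc⟩ := hcz
    exact zstar_central_involution hIH hO hx z hz hzc
  push Not at hcz
  by_cases hyex : ∃ y : G, orderOf y = 2 ∧ y ≠ x ∧ x * y = y * x
  · obtain ⟨y, hy, hyx, hc⟩ := hyex
    have hy2 : y * y = 1 := invol_mul_self hy
    have hIHs : ∀ H : Subgroup G, H ≠ ⊤ → ∀ u : H, IsIsolatedInvolution u →
        ∀ c : H, u * c * u⁻¹ * c⁻¹ ∈ pPrimeCore 2 H := by
      intro H hH
      apply hIH H
      apply lt_of_le_of_ne (Subgroup.card_le_card_group H)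
      intro h
      exact hH (Subgroup.eq_top_of_card_eq H h)
    have hxy2 : (x * y) * (x * y) = 1 := by
      calc x * y * (x * y) = x * (y * x) * y := by group
        _ = x * (x * y) * y := by rw [hc]
        _ = (x * x) * (y * y) := by group
        _ = 1 := by rw [hx2, hy2, one_mul]
    have hxy1 : x * y ≠ 1 := by
      intro h
      apply hyx
      have : y = x⁻¹ := eq_inv_of_mul_eq_one_right h
      rw [this, invol_inv hx2]
    have hoxy : orderOf (x * y) = 2 := orderOf_eq_two_of hxy2 hxy1
    have hxyx : x * y ≠ x := by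
      intro h
      apply invol_ne_one hy
      have := congrArg (fun t => x⁻¹ * t) h
      simpa using this
    have hcxy : x * (x * y) = (x * y) * x := by
      rw [← mul_assoc, hx2, one_mul, hc, mul_assoc, hx2, mul_one]
    have hG1 := zstar_G hx hIHs hcz y hy hyx hc
    have hG2 := zstar_G hx hIHs hcz (x * y) hoxy hxyx hcxy
    obtain ⟨χ, hχ1, hχx⟩ := zstar_char hx y hy hyx hc hG1 hG2
    obtain ⟨K, hKn, hKmem, -⟩ := Cfsg.Agent.Lib.Helper80.irr_exists_ker χ
    have hxK : x ∈ K := (hKmem x).mpr hχx
    have hKne : K ≠ ⊤ := by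
      intro htop
      apply hχ1
      apply irr_eq_one_of_const
      intro g
      rw [← hKmem, htop]
      exact Subgroup.mem_top g
    have hcl : Nat.card K < Nat.card G := by
      apply lt_of_le_of_ne (Subgroup.card_le_card_group K)
      intro h
      exact hKne (Subgroup.eq_top_of_card_eq K h)
    have hIHK := hIH K hcl ⟨x, hxK⟩ (isolated_subgroup hx K hxK)
    have hOK : pPrimeCore 2 K = ⊥ := by
      have h1 : (pPrimeCore 2 K).map K.subtype ≤ pPrimeCore 2 G := pPrimeCore_normal_le 2 K
      rw [hO, le_bot_iff, Subgroup.map_eq_bot_iff_of_injective _ K.subtype_injective] at h1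
      exact h1
    intro g
    have hgK : g * x * g⁻¹ ∈ K := hKn.conj_mem x hxK g
    have h1 := hIHK ⟨g * x * g⁻¹, hgK⟩
    rw [hOK, Subgroup.mem_bot] at h1
    have h2 := congrArg Subtype.val h1
    simp only [Subgroup.coe_mul, Subgroup.coe_inv, Subgroup.coe_one] at h2
    apply hx.2 g
    show x * (g * x * g⁻¹) = (g * x * g⁻¹) * x
    have h3 := congrArg (fun t => t * (g * x * g⁻¹) * x) h2
    simpa [mul_assoc] using h3
  · push Not at hyex
    apply hcen_of
    apply zstar_rank_one hOf x hx.1
    intro y hy hcomm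
    by_contra hne
    exact hyex y hy hne hcomm

/-- **Glauberman's `Z*`-theorem**, by induction on the order. -/
theorem zstar_aux : ∀ (n : ℕ) (G : Type u) [Group G] [Finite G], Nat.card G = n →
    ∀ x : G, IsIsolatedInvolution x → ∀ g : G, x * g * x⁻¹ * g⁻¹ ∈ pPrimeCore 2 G := by
  intro n
  induction n using Nat.strong_induction_on with
  | _ n ih =>
  intro G _ _ hcard x hx g
  have hIH : ∀ (H : Type u) [Group H] [Finite H], Nat.card H < Nat.card G →
      ∀ u : H, IsIsolatedInvolution u → ∀ c : H, u * c * u⁻¹ * c⁻¹ ∈ pPrimeCore 2 H :=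
    fun H _ _ hlt u hu c => ih (Nat.card H) (hcard ▸ hlt) H rfl u hu c
  by_cases hO : pPrimeCore 2 G = ⊥
  · have h1 := zstar_corefree hIH hO hx g
    have e : x * g * x⁻¹ * g⁻¹ = x * (g * x * g⁻¹)⁻¹ := by group
    rw [e, h1, mul_inv_cancel]
    exact Subgroup.one_mem _
  · have hKodd : Odd (Nat.card (pPrimeCore 2 G)) :=
      Nat.coprime_two_right.mp (pPrimeCore_card_coprime 2)
    have hlt : Nat.card (G ⧸ pPrimeCore 2 G) < Nat.card G := by
      have h1 := Subgroup.card_eq_card_quotient_mul_card_subgroup (pPrimeCore 2 G)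
      have h2 : 1 < Nat.card (pPrimeCore 2 G) := (Subgroup.one_lt_card_iff_ne_bot _).mpr hO
      have h3 : 0 < Nat.card (G ⧸ pPrimeCore 2 G) := Nat.card_pos
      nlinarith
    have hiso := isolated_quotient_odd hx (pPrimeCore 2 G) hKodd
    have h1 := hIH (G ⧸ pPrimeCore 2 G) hlt _ hiso (QuotientGroup.mk' (pPrimeCore 2 G) g)
    rw [pPrimeCore_quotient_eq_bot, Subgroup.mem_bot] at h1
    rw [← QuotientGroup.ker_mk' (pPrimeCore 2 G), MonoidHom.mem_ker]
    simpa using h1

/-- **Glauberman's `Z*`-theorem**: an isolated involution is central modulo the odd core. -/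
theorem zstar_main {G : Type u} [Group G] [Finite G] {x : G} (hx : IsIsolatedInvolution x)
    (g : G) : x * g * x⁻¹ * g⁻¹ ∈ pPrimeCore 2 G :=
  zstar_aux (Nat.card G) G rfl x hx g

/-- An involution which is the only one of its conjugates in a Sylow `2`-subgroup is isolated. -/
theorem isolated_of_sylow {G : Type u} [Group G] [Finite G] (P : Sylow 2 G) (u : G)
    (hu : orderOf u = 2) (huP : u ∈ P) (hiso : ∀ g : G, g * u * g⁻¹ ∈ P → g * u * g⁻¹ = u) :
    IsIsolatedInvolution u := by
  have : Fact (Nat.Prime 2) := ⟨Nat.prime_two⟩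
  refine ⟨hu, ?_⟩
  intro g hcomm
  obtain ⟨u', hu'⟩ : ∃ u' : G, u' = g * u * g⁻¹ := ⟨_, rfl⟩
  rw [← hu'] at hcomm ⊢
  have hu2 : u * u = 1 := invol_mul_self hu
  have hou' : orderOf u' = 2 := by rw [hu', orderOf_conj_eq]; exact hu
  have hPu : IsPGroup 2 (Subgroup.zpowers u) := by
    apply IsPGroup.of_card (n := 1)
    rw [Nat.card_zpowers, hu, pow_one]
  have hPu' : IsPGroup 2 (Subgroup.zpowers u') := by
    apply IsPGroup.of_card (n := 1)
    rw [Nat.card_zpowers, hou', pow_one]
  have hcc : u * u' * u⁻¹ = u' := by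
    rw [hcomm.eq, mul_assoc, mul_inv_cancel, mul_one]
  have hui : u⁻¹ = u := invol_inv hu2
  have hnorm : Subgroup.zpowers u ≤
      Subgroup.normalizer ((Subgroup.zpowers u' : Subgroup G) : Set G) := by
    rw [Subgroup.zpowers_le, Subgroup.mem_normalizer_iff]
    intro t
    have hcv : ∀ s ∈ Subgroup.zpowers u', u * s * u⁻¹ = s := by
      intro s hs
      obtain ⟨j, rfl⟩ := Subgroup.mem_zpowers_iff.mp hs
      rw [← conj_zpow, hcc]
    constructor
    · intro ht
      rw [hcv t ht]; exact ht
    · intro ht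
      have e1 : t = u⁻¹ * (u * t * u⁻¹) * u := by group
      have e2 : u⁻¹ * (u * t * u⁻¹) * u = u * (u * t * u⁻¹) * u⁻¹ := by rw [hui]
      rw [e1, e2, hcv _ ht]
      exact ht
  have hT : IsPGroup 2 ((Subgroup.zpowers u ⊔ Subgroup.zpowers u' : Subgroup G)) :=
    IsPGroup.to_sup_of_normal_right' hPu hPu' hnorm
  obtain ⟨Q, hQ⟩ := hT.exists_le_sylow
  obtain ⟨c, hc⟩ := MulAction.exists_smul_eq G Q P
  have hmem : ∀ t ∈ (Q : Subgroup G), c * t * c⁻¹ ∈ (P : Subgroup G) := by
    intro t ht
    rw [← hc, Sylow.coe_subgroup_smul]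
    have := Subgroup.smul_mem_pointwise_smul t (MulAut.conj c) (Q : Subgroup G) ht
    simpa [MulAut.smul_def] using this
  have h1 : c * u * c⁻¹ = u :=
    hiso c (hmem u (hQ (le_sup_left (a := Subgroup.zpowers u) (Subgroup.mem_zpowers u))))
  have h2mem : c * u' * c⁻¹ ∈ (P : Subgroup G) :=
    hmem u' (hQ (le_sup_right (b := Subgroup.zpowers u') (Subgroup.mem_zpowers u')))
  have e : c * u' * c⁻¹ = (c * g) * u * (c * g)⁻¹ := by rw [hu']; group
  rw [e] at h2mem
  have h2 := hiso (c * g) h2mem
  rw [← e] at h2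
  -- `c u' c⁻¹ = u = c u c⁻¹`
  have h3 : c * u' * c⁻¹ = c * u * c⁻¹ := by rw [h2, h1]
  have := congrArg (fun t => c⁻¹ * t * c) h3
  simpa [mul_assoc] using this

end main

end Cfsg.Agent.Lib.Helper30
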